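import Cfsg.Agent.Lib.Calc.Fi23Net

set_option autoImplicit false
set_option maxRecDepth 1000000
set_option maxHeartbeats 0

namespace Cfsg.Lib.Calc.Fi23

def low_8 : List Low := ⟨6, [wd [1, 2, 1]], 1, 2⟩ :: []
theorem low_8_ok : net.lowOK 31671 iv low_8 = true :=
  Net.lowOK_cons (by decide +kernel) (by decide +kernel) rfl
def low_7 : List Low := ⟨7, [wd [9]], 1, 2⟩ :: low_8
theorem low_7_ok : net.lowOK 31671 iv low_7 = true :=
  Net.lowOK_cons (by decide +kernel) (by decide +kernel) low_8_ok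
def low_6 : List Low := ⟨5, [wd [3], wd [1, 2, 1]], 1, 3⟩ :: low_7
theorem low_6_ok : net.lowOK 31671 iv low_6 = true :=
  Net.lowOK_cons (by decide +kernel) (by decide +kernel) low_7_ok
def low_5 : List Low := ⟨8, [wd [1], wd [2], wd [3], wd [8], wd [9]], 1, 12⟩ :: low_6
theorem low_5_ok : net.lowOK 31671 iv low_5 = true :=
  Net.lowOK_cons (by decide +kernel) (by decide +kernel) low_6_ok
def low_4 : List Low := ⟨4, [wd [1], wd [2], wd [3], wd [4], wd [8], wd [9]], 4, 35⟩ :: low_5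
theorem low_4_ok : net.lowOK 31671 iv low_4 = true :=
  Net.lowOK_cons (by decide +kernel) (by decide +kernel) low_5_ok
def low_3 : List Low := ⟨3, [wd [1], wd [2], wd [3], wd [4], wd [5], wd [8], wd [9]], 7, 288⟩ :: low_4
theorem low_3_ok : net.lowOK 31671 iv low_3 = true :=
  Net.lowOK_cons (by decide +kernel) (by decide +kernel) low_4_ok
def low_2 : List Low := ⟨2, [wd [1], wd [2], wd [3], wd [4], wd [5], wd [6], wd [8], wd [9]], 9, 3159⟩ :: low_3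
theorem low_2_ok : net.lowOK 31671 iv low_2 = true :=
  Net.lowOK_cons (by decide +kernel) (by decide +kernel) low_3_ok
def low_1 : List Low := ⟨1, [wd [1], wd [2], wd [3], wd [4], wd [5], wd [6], wd [7], wd [8], wd [9]], 12, 28160⟩ :: low_2
theorem low_1_ok : net.lowOK 31671 iv low_1 = true :=
  Net.lowOK_cons (by decide +kernel) (by decide +kernel) low_2_ok
def low : List Low := ⟨0, [wd [1], wd [2], wd [3], wd [4], wd [5], wd [6], wd [7], wd [8], wd [9], wd [10]], 13, 31671⟩ :: low_1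
theorem low_ok : net.lowOK 31671 iv low = true :=
  Net.lowOK_cons (by decide +kernel) (by decide +kernel) low_1_ok
def lowU_5 : List Low := ⟨1, [wd [6, 7, 6]], 1, 2⟩ :: []
theorem lowU_5_ok : net.lowOK 31671 iv lowU_5 = true :=
  Net.lowOK_cons (by decide +kernel) (by decide +kernel) rfl
def lowU_4 : List Low := ⟨7, [wd [9], wd [1, 2, 3, 4, 5, 8, 1, 2, 3, 4, 5, 8, 1, 2, 3, 4, 5, 8, 1, 2, 3, 4, 5, 8, 1, 2, 3, 4, 5, 8], wd [6, 7, 6]], 2, 12⟩ :: lowU_5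
theorem lowU_4_ok : net.lowOK 31671 iv lowU_4 = true :=
  Net.lowOK_cons (by decide +kernel) (by decide +kernel) lowU_5_ok
def lowU_3 : List Low := ⟨2, [wd [7], wd [1, 2, 3, 4, 5, 8, 1, 2, 3, 4, 5, 8, 1, 2, 3, 4, 5, 8, 1, 2, 3, 4, 5, 8, 1, 2, 3, 4, 5, 8], wd [3, 4, 5, 6, 7, 8, 9, 3, 4, 5, 6, 7, 8, 9, 3, 4, 5, 6, 7, 8, 9, 3, 4, 5, 6, 7, 8, 9, 3, 4, 5, 6, 7, 8, 9, 3, 4, 5, 6, 7, 8, 9, 3, 4, 5, 6, 7, 8, 9, 3, 4, 5, 6, 7, 8, 9, 3, 4, 5, 6, 7, 8, 9], wd [9, 6]], 2, 10⟩ :: lowU_4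
theorem lowU_3_ok : net.lowOK 31671 iv lowU_3 = true :=
  Net.lowOK_cons (by decide +kernel) (by decide +kernel) lowU_4_ok
def lowU_2 : List Low := ⟨5262, [wd [5], wd [6], wd [7], wd [8], wd [9], wd [1, 2, 3, 4, 5, 8, 1, 2, 3, 4, 5, 8, 1, 2, 3, 4, 5, 8, 1, 2, 3, 4, 5, 8, 1, 2, 3, 4, 5, 8]], 3, 96⟩ :: lowU_3
theorem lowU_2_ok : net.lowOK 31671 iv lowU_2 = true :=
  Net.lowOK_cons (by decide +kernel) (by decide +kernel) lowU_3_ok
def lowU_1 : List Low := ⟨6528, [wd [4], wd [5], wd [6], wd [7], wd [8], wd [9], wd [1, 2, 3, 4, 5, 8, 1, 2, 3, 4, 5, 8, 1, 2, 3, 4, 5, 8, 1, 2, 3, 4, 5, 8, 1, 2, 3, 4, 5, 8]], 5, 567⟩ :: lowU_2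
theorem lowU_1_ok : net.lowOK 31671 iv lowU_1 = true :=
  Net.lowOK_cons (by decide +kernel) (by decide +kernel) lowU_2_ok
def lowU : List Low := ⟨8006, [wd [3], wd [4], wd [5], wd [6], wd [7], wd [8], wd [9], wd [1, 2, 3, 4, 5, 8, 1, 2, 3, 4, 5, 8, 1, 2, 3, 4, 5, 8, 1, 2, 3, 4, 5, 8, 1, 2, 3, 4, 5, 8]], 5, 2816⟩ :: lowU_1
theorem lowU_ok : net.lowOK 31671 iv lowU = true :=
  Net.lowOK_cons (by decide +kernel) (by decide +kernel) lowU_1_ok
theorem grow_ok : Nat.beq (net.growN iv cs 9 (bitsM (Net.repPts (d0 :: ds)))) (msk 31671) = true := by decide +kernel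
theorem reps_ok : ((d0 :: ds).all fun d => d.reps.all fun r => net.mapOK 31671 iv r.1 d.p r.2.1) = true := by decide +kernel
theorem pts_ok : (ds.all fun d => net.mapOK 31671 iv d.t 0 d.p && !Nat.beq d.p 0) = true := by decide +kernel
theorem prim_ok : net.primOK 31671 iv 0 hs 12 12 [(wd [10], 1), (wd [10, 7, 6, 5, 4, 8, 3, 4, 5, 6, 7, 10], 53)] = true := by decide +kernel
theorem z_ok : net.baseOK 31671 iv low (.pow (wd [10, 6, 7, 5, 4, 3, 1, 8, 2]) 17) = true := by decide +kernel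
def steps : List (W × ℕ × W × ℕ × ℕ) := [(.l 1, 2, wd [], 0, 15), (.l 2, 2, wd [], 0, 3), (.l 3, 2, wd [], 0, 3), (.l 4, 2, wd [], 0, 3), (.l 5, 2, wd [], 0, 3), (.l 6, 2, wd [], 0, 3), (.l 7, 2, wd [], 0, 3), (.l 8, 2, wd [], 3, 3), (.l 9, 2, wd [], 0, 3), (.l 10, 2, wd [], 2, 3)]
theorem steps_ok : stepsOK (net.baseOK 31671 iv low) steps [wd [10, 6, 7, 5, 4, 3, 1, 8, 2]] = true := by decide +kernel

end Cfsg.Lib.Calc.Fi23
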