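import Cfsg.Agent.Lib.Calc.Model2
import Cfsg.Agent.Lib.Calc.Iso

/-!
# A presentation of the alternating group of degree 12
-/

set_option autoImplicit false
set_option maxRecDepth 1000000
set_option maxHeartbeats 0

namespace Cfsg.Lib.Big

open Cfsg.Lib.Calc

/-- Relators. -/
def altT12 : List W := [.pow (.l 1) 3, .pow (.l 3) 3, .pow (.l 5) 3, .pow (.l 7) 3, .pow (.l 9) 3, .pow (.l 11) 3, .pow (.l 13) 3, .pow (.l 15) 3, .pow (.l 17) 3, .pow (.l 19) 3, .pow (.mul (.l 1) (.l 3)) 2, .pow (.mul (.l 1) (.l 5)) 2, .pow (.mul (.l 1) (.l 7)) 2, .pow (.mul (.l 1) (.l 9)) 2, .pow (.mul (.l 1) (.l 11)) 2, .pow (.mul (.l 1) (.l 13)) 2, .pow (.mul (.l 1) (.l 15)) 2, .pow (.mul (.l 1) (.l 17)) 2, .pow (.mul (.l 1) (.l 19)) 2, .pow (.mul (.l 3) (.l 5)) 2, .pow (.mul (.l 3) (.l 7)) 2, .pow (.mul (.l 3) (.l 9)) 2, .pow (.mul (.l 3) (.l 11)) 2, .pow (.mul (.l 3) (.l 13)) 2, .pow (.mul (.l 3) (.l 15)) 2, .pow (.mul (.l 3) (.l 17)) 2, .pow (.mul (.l 3) (.l 19)) 2, .pow (.mul (.l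 5) (.l 7)) 2, .pow (.mul (.l 5) (.l 9)) 2, .pow (.mul (.l 5) (.l 11)) 2, .pow (.mul (.l 5) (.l 13)) 2, .pow (.mul (.l 5) (.l 15)) 2, .pow (.mul (.l 5) (.l 17)) 2, .pow (.mul (.l 5) (.l 19)) 2, .pow (.mul (.l 7) (.l 9)) 2, .pow (.mul (.l 7) (.l 11)) 2, .pow (.mul (.l 7) (.l 13)) 2, .pow (.mul (.l 7) (.l 15)) 2, .pow (.mul (.l 7) (.l 17)) 2, .pow (.mul (.l 7) (.l 19)) 2, .pow (.mul (.l 9) (.l 11)) 2, .pow (.mul (.l 9) (.l 13)) 2, .pow (.mul (.l 9) (.l 15)) 2, .pow (.mul (.l 9) (.l 17)) 2, .pow (.mul (.l 9) (.l 19)) 2, .pow (.mul (.l 11) (.l 13)) 2, .pow (.mul (.l 11) (.l 15)) 2, .pow (.mul (.l 11) (.l 17)) 2, .pow (.mul (.l 11) (.l 19)) 2, .pow (.mul (.l 13) (.l 15)) 2, .pow (.mul (.l 13) (.l 17)) 2, .pow (.mul (.l 13) (.l 19)) 2, .pow (.mul (.l 15) (.l 17)) 2, .pow (.mul (.l 15) (.l 19)) 2, .pow (.mul (.l 17) (.l 19)) 2]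
/-- Inverses. -/
def altI12 : ℕ := nat_lit 24899403105646480400627956581440
def alt120_rels : List W := [.pow (.l 1) 3, .pow (.l 3) 3, .pow (.l 5) 3, .pow (.l 7) 3, .pow (.l 9) 3, .pow (.l 11) 3, .pow (.l 13) 3, .pow (.l 15) 3, .pow (.l 17) 3, .pow (.l 19) 3, .pow (.mul (.l 1) (.l 3)) 2, .pow (.mul (.l 1) (.l 5)) 2, .pow (.mul (.l 1) (.l 7)) 2, .pow (.mul (.l 1) (.l 9)) 2, .pow (.mul (.l 1) (.l 11)) 2, .pow (.mul (.l 1) (.l 13)) 2, .pow (.mul (.l 1) (.l 15)) 2, .pow (.mul (.l 1) (.l 17)) 2, .pow (.mul (.l 1) (.l 19)) 2, .pow (.mul (.l 3) (.l 5)) 2, .pow (.mul (.l 3) (.l 7)) 2, .pow (.mul (.l 3) (.l 9)) 2, .pow (.mul (.l 3) (.l 11)) 2, .pow (.mul (.l 3) (.l 13)) 2, .pow (.mul (.l 3) (.l 15)) 2, .pow (.mul (.l 3) (.l 17)) 2, .pow (.mul (.l 3) (.l 19)) 2, .pow (.mul (.l 5) (.l 7)) 2, .pow (.mul (.l 5) (.l 9)) 2, .pow (.mul (.l 5) (.l 11)) 2, .pow (.mul (.l 5) (.l 13)) 2, .pow (.mul (.l 5) (.l 15)) 2, .pow (.mul (.l 5) (.l 17)) 2, .pow (.mul (.l 5) (.l 19)) 2, .pow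 (.mul (.l 7) (.l 9)) 2, .pow (.mul (.l 7) (.l 11)) 2, .pow (.mul (.l 7) (.l 13)) 2, .pow (.mul (.l 7) (.l 15)) 2, .pow (.mul (.l 7) (.l 17)) 2, .pow (.mul (.l 7) (.l 19)) 2, .pow (.mul (.l 9) (.l 11)) 2, .pow (.mul (.l 9) (.l 13)) 2, .pow (.mul (.l 9) (.l 15)) 2, .pow (.mul (.l 9) (.l 17)) 2, .pow (.mul (.l 9) (.l 19)) 2, .pow (.mul (.l 11) (.l 13)) 2, .pow (.mul (.l 11) (.l 15)) 2, .pow (.mul (.l 11) (.l 17)) 2, .pow (.mul (.l 11) (.l 19)) 2, .pow (.mul (.l 13) (.l 15)) 2, .pow (.mul (.l 13) (.l 17)) 2, .pow (.mul (.l 13) (.l 19)) 2, .pow (.mul (.l 15) (.l 17)) 2, .pow (.mul (.l 15) (.l 19)) 2, .pow (.mul (.l 17) (.l 19)) 2]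
def alt120_F : Tr := .leaf (nat_lit 0x2973b85bedd6db65aed569b459ecd65b258ec561b95c4a953a95469d4da652e9549a451e8d45a250e8541a853ca933994c6612f964ae55299449e4d259248e4521974b4a91389446210f8743615098441e0d058240e05018642ca8f3793c5e0ef773b5d8eb7439dcce57238dc4e1753a4a8d369345a0cf6733598cb653258cc56230d84c16431ca8b3592c560af572b558ab552a550a75228d44a153294a89349245208f47235188b4522510874321504814220ca873391c4e06f371b4d86b351a4d06733194c86331184a4511813c5c4d1612c54491411c4c451210c44411a14c64110803c1c0d0602c14090401c0c050200c040108dc85f5016cb8570c14ba84ec812a9846841098866540a0cc00000)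
def alt120_T : Tr := .leaf (nat_lit 205163983024656)
def alt120_P : Tr := .node (.node (.leaf (nat_lit 0x330b0160001630058000114854090021a290f01200432521d02400860a438048010b9486c0900216290d0120042a521902400850a430048010994858090000a17024000047c2a03801090f87807002111f0e80e004203e1c01c0083c7c3603801070f868070020d1f0c80e004183e1801c0082c7c2e03801050b00e000000214014000d80426028001a808480500033010880a000600210014000b0041e0280013808380500021010680a00034020c01400048040500009))
  (.leaf (nat_lit 0xde1a05c000adbc320b800133786017000206f0b82e00032de1605c00044781700008650a82a0046aca1e054008d194380a80018b286c150002e650d02a00054ca190540009594300a8000fb285c1500018650b02a000203a0a80003ad85413002335b0f02600464b61d04c008c56c360980016ad86813000295b0c82600048b61804c000796c2e098000bad858130000f1c04c00019442a088011828878110022f510e8220045ca21c044008b544340880014288641100023)))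
  (.node (.leaf (nat_lit 0xa21804400075442e088000b28858110000e1b044000151c2a0780116238780f0022b470e81e004548e1c03c008a51c360780114238640f00022470c01e000388e1703c000551c2c07800068d01e000087a150340089cf43c06801131e8740d002253d0e01a004487a1b0340088cf43406801111e8600d0001b3d0b81a000287a1603400030640d00003330a81600442661e02c00880cc3a058010f998700b0021e330d8160043a661a02c00870cc32058010d9985c0b00013))
  (.leaf (nat_lit 0x1ff001ff001ff001ff001ff001ff001ff001ff001ff001ff001ff001ff001ff001ff001ff001ff001ff001ff001ff001ff001ff001ff001ff001ff001ff001ff001ff001ff6f0a82e0046cde1d05c000d1bc380b800193786c170002f)))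
def alt120_N_0 : Tr := .node (.node (.node (.node (.leaf (nat_lit 1057))
  (.leaf (nat_lit 100)))
  (.node (.leaf (nat_lit 562725))
  (.leaf (nat_lit 13326))))
  (.node (.node (.leaf (nat_lit 493025))
  (.leaf (nat_lit 329)))
  (.node (.leaf (nat_lit 634475))
  (.leaf (nat_lit 628)))))
  (.node (.node (.node (.leaf (nat_lit 17969))
  (.leaf (nat_lit 5126)))
  (.node (.leaf (nat_lit 370025))
  (.leaf (nat_lit 593))))
  (.node (.node (.leaf (nat_lit 495075))
  (.leaf (nat_lit 364)))
  (.leaf (nat_lit 65))))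
def alt120_N_1 : Tr := .node (.node (.node (.node (.leaf (nat_lit 9513))
  (.leaf (nat_lit 197)))
  (.node (.leaf (nat_lit 433575))
  (.leaf (nat_lit 496))))
  (.node (.node (.leaf (nat_lit 232675))
  (.leaf (nat_lit 9226)))
  (.node (.leaf (nat_lit 572975))
  (.leaf (nat_lit 0)))))
  (.node (.node (.node (.leaf (nat_lit 230625))
  (.leaf (nat_lit 232)))
  (.node (.leaf (nat_lit 632425))
  (.leaf (nat_lit 17426))))
  (.node (.node (.leaf (nat_lit 300325))
  (.leaf (nat_lit 461)))
  (.leaf (nat_lit 1026))))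
def alt120_N_2 : Tr := .node (.node (.node (.node (.leaf (nat_lit 5285))
  (.leaf (nat_lit 3076)))
  (.node (.leaf (nat_lit 302375))
  (.leaf (nat_lit 527))))
  (.node (.node (.leaf (nat_lit 624225))
  (.leaf (nat_lit 298)))
  (.node (.leaf (nat_lit 570925))
  (.leaf (nat_lit 19476)))))
  (.node (.node (.node (.leaf (nat_lit 99425))
  (.leaf (nat_lit 263)))
  (.node (.leaf (nat_lit 501225))
  (.leaf (nat_lit 562))))
  (.node (.node (.leaf (nat_lit 626275))
  (.leaf (nat_lit 11276)))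
  (.leaf (nat_lit 34))))
def alt120_N_3 : Tr := .node (.node (.node (.node (.leaf (nat_lit 13741))
  (.leaf (nat_lit 166)))
  (.node (.leaf (nat_lit 564775))
  (.leaf (nat_lit 15376))))
  (.node (.node (.leaf (nat_lit 363875))
  (.leaf (nat_lit 395)))
  (.leaf (nat_lit 640625))))
  (.node (.node (.node (.leaf (nat_lit 361825))
  (.leaf (nat_lit 7176)))
  (.node (.leaf (nat_lit 503275))
  (.leaf (nat_lit 659))))
  (.node (.node (.leaf (nat_lit 431525))
  (.leaf (nat_lit 430)))
  (.leaf (nat_lit 131))))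
def alt120_N_4 : Tr := .node (.node (.node (.node (.leaf (nat_lit 3171))
  (.leaf (nat_lit 100)))
  (.node (.leaf (nat_lit 628325))
  (.leaf (nat_lit 527))))
  (.node (.node (.leaf (nat_lit 558625))
  (.leaf (nat_lit 10249)))
  (.node (.leaf (nat_lit 505325))
  (.leaf (nat_lit 628)))))
  (.node (.node (.node (.leaf (nat_lit 20083))
  (.leaf (nat_lit 263)))
  (.node (.leaf (nat_lit 435625))
  (.leaf (nat_lit 18449))))
  (.node (.node (.leaf (nat_lit 560675))
  (.leaf (nat_lit 364)))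
  (.leaf (nat_lit 2049))))
def alt120_N_5 : Tr := .node (.node (.node (.node (.leaf (nat_lit 11627))
  (.leaf (nat_lit 6149)))
  (.node (.leaf (nat_lit 499175))
  (.leaf (nat_lit 496))))
  (.node (.node (.leaf (nat_lit 298275))
  (.leaf (nat_lit 395)))
  (.leaf (nat_lit 638575))))
  (.node (.node (.node (.leaf (nat_lit 296225))
  (.leaf (nat_lit 232)))
  (.node (.leaf (nat_lit 437675))
  (.leaf (nat_lit 659))))
  (.node (.node (.leaf (nat_lit 365925))
  (.leaf (nat_lit 14349)))
  (.leaf (nat_lit 131))))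
def alt120_N_6 : Tr := .node (.node (.node (.node (.leaf (nat_lit 7399))
  (.leaf (nat_lit 197)))
  (.node (.leaf (nat_lit 367975))
  (.leaf (nat_lit 16399))))
  (.node (.node (.leaf (nat_lit 167075))
  (.leaf (nat_lit 298)))
  (.node (.leaf (nat_lit 636525))
  (.leaf (nat_lit 0)))))
  (.node (.node (.node (.leaf (nat_lit 165025))
  (.leaf (nat_lit 8199)))
  (.node (.leaf (nat_lit 566825))
  (.leaf (nat_lit 562))))
  (.node (.node (.leaf (nat_lit 234725))
  (.leaf (nat_lit 461)))
  (.leaf (nat_lit 34))))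
def alt120_N_7 : Tr := .node (.node (.node (.node (.leaf (nat_lit 15855))
  (.leaf (nat_lit 166)))
  (.node (.leaf (nat_lit 630375))
  (.leaf (nat_lit 593))))
  (.node (.node (.leaf (nat_lit 429475))
  (.leaf (nat_lit 12299)))
  (.leaf (nat_lit 65))))
  (.node (.node (.node (.leaf (nat_lit 427425))
  (.leaf (nat_lit 329)))
  (.node (.leaf (nat_lit 568875))
  (.leaf (nat_lit 20499))))
  (.node (.node (.leaf (nat_lit 497125))
  (.leaf (nat_lit 430)))
  (.leaf (nat_lit 4099))))
def alt120_N : Tr := .node (.node (.node alt120_N_0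
  alt120_N_1)
  (.node alt120_N_2
  alt120_N_3))
  (.node (.node alt120_N_4
  alt120_N_5)
  (.node alt120_N_6
  alt120_N_7))
noncomputable def alt120 : TC :=
  ⟨[.l 0, .l 1, .l 2, .l 3, .l 4, .l 5, .l 6, .l 7, .l 8, .l 9, .l 10, .l 11, .l 12, .l 13, .l 14, .l 15, .l 16, .l 17, .l 18, .l 19, .l 20],
    (nat_lit 4), (nat_lit 9), (nat_lit 0x13a464f835cb62547414c320440), (nat_lit 174763), (nat_lit 12), (nat_lit 9), (nat_lit 32), (nat_lit 4), (nat_lit 117),
    get (nat_lit 10) (nat_lit 0x400c0400c02010030080400c02010030080400c02010030080400c02010030080400c02010030080400c02010030080400c02010030080400c02010030080400c02010030080400c0201003008040100401004010040100401004010040100401004010040100401004010040100401004010040100401004010040100401004010040100400c0300c0300c0300c0300c03), Tr.get alt120_N, get (nat_lit 20) (nat_lit 0x3ff003ff003ff003ff003ff003ff003ff003ff003ff003ff003ff003ff003ff003ff003ff003ff003ff003ff003ff003ff003ff003ff003ff003ff003ff003ff003ff003ff003ff003ff003ff003ff003ff003ff003ff003ff003ff003ff003ff003ff003ff003ff003ff003ff003ff003ff003ff003ff003ff003ff003ff003ff003ff003ff003ff003ff003ff003ff003ff003ff003ff003ff000360003500034000330003200031000300002f0002e0002d0002c0002b0002a000290002800027000260002500024000230002200021000200001f0001e0001d0001c0001b0001a000190001800017000160001500014000130001200011000100000f0000e0000d0000c0000b0000a00009000080000700006000050000400003000020000100000),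
    Tr.get3 alt120_F (nat_lit 18) (nat_lit 5), Tr.get3 alt120_T (nat_lit 4) (nat_lit 7), Tr.get alt120_P⟩

theorem alt120_head : alt120.headOK alt120_rels altI12 = true := by decide +kernel

theorem alt120_b0 : allFrom (nat_lit 0) (nat_lit 4) alt120.blockOK = true := by decide +kernel

def alt120_Q19 : Tr := .leaf (nat_lit 0xf0dcc8b4a08c786450052a02)
theorem alt120_f19_0 : allFrom (nat_lit 0) (nat_lit 12) (alt120.finOK (nat_lit 12) (Tr.get3 alt120_Q19 (nat_lit 8) (nat_lit 6)) (nat_lit 19)) = true := by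
  decide +kernel

def alt120_Q17 : Tr := .leaf (nat_lit 0x17dac6b29e8a76624ede3c28)
theorem alt120_f17_0 : allFrom (nat_lit 0) (nat_lit 12) (alt120.finOK (nat_lit 12) (Tr.get3 alt120_Q17 (nat_lit 8) (nat_lit 6)) (nat_lit 17)) = true := by
  decide +kernel

def alt120_Q15 : Tr := .leaf (nat_lit 0xee15c4b09c8874604cca3a26)
theorem alt120_f15_0 : allFrom (nat_lit 0) (nat_lit 12) (alt120.finOK (nat_lit 12) (Tr.get3 alt120_Q15 (nat_lit 8) (nat_lit 6)) (nat_lit 15)) = true := by
  decide +kernel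

def alt120_Q13 : Tr := .leaf (nat_lit 0xecd813ae9a86725e4ab63824)
theorem alt120_f13_0 : allFrom (nat_lit 0) (nat_lit 12) (alt120.finOK (nat_lit 12) (Tr.get3 alt120_Q13 (nat_lit 8) (nat_lit 6)) (nat_lit 13)) = true := by
  decide +kernel

def alt120_Q11 : Tr := .leaf (nat_lit 0xead6c2119884705c48a23622)
theorem alt120_f11_0 : allFrom (nat_lit 0) (nat_lit 12) (alt120.finOK (nat_lit 12) (Tr.get3 alt120_Q11 (nat_lit 8) (nat_lit 6)) (nat_lit 11)) = true := by
  decide +kernel

def alt120_Q9 : Tr := .leaf (nat_lit 0xe8d4c0ac0f826e5a468e3420)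
theorem alt120_f9_0 : allFrom (nat_lit 0) (nat_lit 12) (alt120.finOK (nat_lit 12) (Tr.get3 alt120_Q9 (nat_lit 8) (nat_lit 6)) (nat_lit 9)) = true := by
  decide +kernel

def alt120_Q7 : Tr := .leaf (nat_lit 0xe6d2beaa960d6c58447a321e)
theorem alt120_f7_0 : allFrom (nat_lit 0) (nat_lit 12) (alt120.finOK (nat_lit 12) (Tr.get3 alt120_Q7 (nat_lit 8) (nat_lit 6)) (nat_lit 7)) = true := by
  decide +kernel

def alt120_Q5 : Tr := .leaf (nat_lit 0xe4d0bca894800b564266301c)
theorem alt120_f5_0 : allFrom (nat_lit 0) (nat_lit 12) (alt120.finOK (nat_lit 12) (Tr.get3 alt120_Q5 (nat_lit 8) (nat_lit 6)) (nat_lit 5)) = true := by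
  decide +kernel

def alt120_Q3 : Tr := .leaf (nat_lit 0xe2cebaa6927e6a0940522e1a)
theorem alt120_f3_0 : allFrom (nat_lit 0) (nat_lit 12) (alt120.finOK (nat_lit 12) (Tr.get3 alt120_Q3 (nat_lit 8) (nat_lit 6)) (nat_lit 3)) = true := by
  decide +kernel

def alt120_Q1 : Tr := .leaf (nat_lit 0xe0ccb8a4907c6854073e2c18)
theorem alt120_f1_0 : allFrom (nat_lit 0) (nat_lit 12) (alt120.finOK (nat_lit 12) (Tr.get3 alt120_Q1 (nat_lit 8) (nat_lit 6)) (nat_lit 1)) = true := by
  decide +kernel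

theorem alt120_blocks : ∀ t < alt120.k, alt120.blockOK t = true :=
  (of_allFrom_append of_lt_zero alt120_b0)

/-- index 12 max 12 total 12 facts 121 | needed cosets 12 facts 121 steps 290 trivial 0 -/
theorem alt120_index {G : Type*} [Group G] {γ : ℕ → G} (hL : Lab γ altI12) (hr : ∀ t ∈ alt120_rels, t.ev γ = 1) {K : Subgroup G}
    (hK : ∀ t ∈ ([.l 1, .l 3, .l 5, .l 7, .l 9, .l 11, .l 13, .l 15, .l 17] : List W), t.ev γ ∈ K) :
    K.relIndex (genW γ [.l 1, .l 3, .l 5, .l 7, .l 9, .l 11, .l 13, .l 15, .l 17, .l 19]) ≠ 0 ∧ K.relIndex (genW γ [.l 1, .l 3, .l 5, .l 7, .l 9, .l 11, .l 13, .l 15, .l 17, .l 19]) ≤ 12 :=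
  TC.relIndex_le (D := alt120) (gens := [1, 3, 5, 7, 9, 11, 13, 15, 17, 19]) hL (List.forall_mem_cons.2 ⟨hL.zero_mem K, hK⟩) hr alt120_head alt120_blocks (by decide) (by decide)
   (List.forall_mem_cons.2 ⟨⟨_, (of_allFrom_append of_lt_zero alt120_f1_0)⟩,
    List.forall_mem_cons.2 ⟨⟨_, (of_allFrom_append of_lt_zero alt120_f3_0)⟩,
    List.forall_mem_cons.2 ⟨⟨_, (of_allFrom_append of_lt_zero alt120_f5_0)⟩,
    List.forall_mem_cons.2 ⟨⟨_, (of_allFrom_append of_lt_zero alt120_f7_0)⟩,
    List.forall_mem_cons.2 ⟨⟨_, (of_allFrom_append of_lt_zero alt120_f9_0)⟩,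
    List.forall_mem_cons.2 ⟨⟨_, (of_allFrom_append of_lt_zero alt120_f11_0)⟩,
    List.forall_mem_cons.2 ⟨⟨_, (of_allFrom_append of_lt_zero alt120_f13_0)⟩,
    List.forall_mem_cons.2 ⟨⟨_, (of_allFrom_append of_lt_zero alt120_f15_0)⟩,
    List.forall_mem_cons.2 ⟨⟨_, (of_allFrom_append of_lt_zero alt120_f17_0)⟩,
    List.forall_mem_cons.2 ⟨⟨_, (of_allFrom_append of_lt_zero alt120_f19_0)⟩,
    fun _ h => absurd h List.not_mem_nil⟩⟩⟩⟩⟩⟩⟩⟩⟩⟩)

def alt121_rels : List W := [.pow (.l 1) 3, .pow (.l 3) 3, .pow (.l 5) 3, .pow (.l 7) 3, .pow (.l 9) 3, .pow (.l 11) 3, .pow (.l 13) 3, .pow (.l 15) 3, .pow (.l 17) 3, .pow (.mul (.l 1) (.l 3)) 2, .pow (.mul (.l 1) (.l 5)) 2, .pow (.mul (.l 1) (.l 7)) 2, .pow (.mul (.l 1) (.l 9)) 2, .pow (.mul (.l 1) (.l 11)) 2, .pow (.mul (.l 1) (.l 13)) 2, .pow (.mul (.l 1) (.l 15)) 2, .pow (.mul (.l 1) (.l 17)) 2, .pow (.mul (.l 3) (.l 5)) 2, .pow (.mul (.l 3) (.l 7)) 2, .pow (.mul (.l 3) (.l 9)) 2, .pow (.mul (.l 3) (.l 11)) 2, .pow (.mul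 (.l 3) (.l 13)) 2, .pow (.mul (.l 3) (.l 15)) 2, .pow (.mul (.l 3) (.l 17)) 2, .pow (.mul (.l 5) (.l 7)) 2, .pow (.mul (.l 5) (.l 9)) 2, .pow (.mul (.l 5) (.l 11)) 2, .pow (.mul (.l 5) (.l 13)) 2, .pow (.mul (.l 5) (.l 15)) 2, .pow (.mul (.l 5) (.l 17)) 2, .pow (.mul (.l 7) (.l 9)) 2, .pow (.mul (.l 7) (.l 11)) 2, .pow (.mul (.l 7) (.l 13)) 2, .pow (.mul (.l 7) (.l 15)) 2, .pow (.mul (.l 7) (.l 17)) 2, .pow (.mul (.l 9) (.l 11)) 2, .pow (.mul (.l 9) (.l 13)) 2, .pow (.mul (.l 9) (.l 15)) 2, .pow (.mul (.l 9) (.l 17)) 2, .pow (.mul (.l 11) (.l 13)) 2, .pow (.mul (.l 11) (.l 15)) 2, .pow (.mul (.l 11) (.l 17)) 2, .pow (.mul (.l 13) (.l 15)) 2, .pow (.mul (.l 13) (.l 17)) 2, .pow (.mul (.l 15) (.l 17)) 2]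
def alt121_F : Tr := .leaf (nat_lit 0x95469d4da652e9549a451e8d45a250e8541a853ca531984be592b954a65127934964923914865d2d29446210f8743615098441e0d058240e05018642ca4f1783bddced763add0e773395c8e371385d4e929345a0cf6733598cb653258cc56230d84c16431ca4b1582bd5cad562ad54a95429d48a3512854ca529245208f47235188b4522510874321504814220ca471381bcdc6d361acd4693419ccc653218cc4612813c5c4d1612c54491411c4c451210c444119144600f07034180b050241007030140803010041f5016cb8570c14ba84ec812a984684109886252090c400000)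
def alt121_T : Tr := .leaf (nat_lit 11649936536080)
def alt121_P : Tr := .node (.node (.leaf (nat_lit 0x5c300b002195c2e0b002185c2a0b000115c280b0000a2c0b000024a2609002174a3609002164a3409002154a3209002144a3009002134a2e09002124a2c09002114a2809000092a0900001382607002103836070020f3834070020e3832070020d3830070020c382e070020b382c070020a382a07002092807000000224050002c0222050002b02200500029021e0500026021c0500022021a050001d0218050001702160500010020500008))
  (.leaf (nat_lit 0x1ff001ff001ff001ff001ff001ff001ff001ff001ff001ff001ff001ff001ff001ff001ffb626150022cb634150002ab6321500028b6301500025b62e1500021b62c150001cb62a1500016b628150000f361500007a426130022ba436130022aa4321300027a4301300024a42e1300020a42c130001ba42a1300015a428130000e)))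
  (.leaf (nat_lit 0x34130000692261100229923611002289234110022792301100023922e110001f922c110001a922a11000149228110000d32110000580260f0022680360f0022580340f0022480320f00223802e0f0001e802c0f00019802a0f0001380280f0000c300f000046e260d002226e360d002216e340d002206e320d0021f6e300d0021e6e2c0d000186e2a0d000126e280d0000b2e0d000035c260b0021d5c360b0021c5c340b0021b5c320b0021a))
def alt121_N_0 : Tr := .node (.node (.node (.node (.leaf (nat_lit 1057))
  (.leaf (nat_lit 263)))
  (.node (.leaf (nat_lit 433575))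
  (.leaf (nat_lit 562))))
  (.node (.node (.leaf (nat_lit 558625))
  (.leaf (nat_lit 11276)))
  (.leaf (nat_lit 34))))
  (.node (.node (.node (.leaf (nat_lit 17969))
  (.leaf (nat_lit 298)))
  (.node (.leaf (nat_lit 503275))
  (.leaf (nat_lit 19476))))
  (.node (.node (.leaf (nat_lit 234725))
  (.leaf (nat_lit 527)))
  (.leaf (nat_lit 3076))))
def alt121_N_1 : Tr := .node (.node (.node (.node (.leaf (nat_lit 9513))
  (.leaf (nat_lit 7176)))
  (.node (.leaf (nat_lit 435625))
  (.leaf (nat_lit 659))))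
  (.node (.node (.leaf (nat_lit 363875))
  (.leaf (nat_lit 430)))
  (.leaf (nat_lit 131))))
  (.node (.node (.node (.leaf (nat_lit 296225))
  (.leaf (nat_lit 395)))
  (.leaf (nat_lit 572975)))
  (.node (.node (.leaf (nat_lit 497125))
  (.leaf (nat_lit 15376)))
  (.leaf (nat_lit 166))))
def alt121_N_2 : Tr := .node (.node (.node (.node (.leaf (nat_lit 5285))
  (.leaf (nat_lit 232)))
  (.node (.leaf (nat_lit 564775))
  (.leaf (nat_lit 17426))))
  (.node (.node (.leaf (nat_lit 232675))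
  (.leaf (nat_lit 461)))
  (.leaf (nat_lit 1026))))
  (.node (.node (.node (.leaf (nat_lit 165025))
  (.leaf (nat_lit 9226)))
  (.node (.leaf (nat_lit 505325))
  (.leaf (nat_lit 0))))
  (.node (.node (.leaf (nat_lit 365925))
  (.leaf (nat_lit 496)))
  (.leaf (nat_lit 197))))
def alt121_N_3 : Tr := .node (.node (.node (.node (.leaf (nat_lit 13741))
  (.leaf (nat_lit 329)))
  (.node (.leaf (nat_lit 566825))
  (.leaf (nat_lit 628))))
  (.node (.node (.leaf (nat_lit 495075))
  (.leaf (nat_lit 13326)))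
  (.leaf (nat_lit 100))))
  (.node (.node (.node (.leaf (nat_lit 427425))
  (.leaf (nat_lit 364)))
  (.leaf (nat_lit 65)))
  (.node (.node (.leaf (nat_lit 302375))
  (.leaf (nat_lit 593)))
  (.leaf (nat_lit 5126))))
def alt121_N_4 : Tr := .node (.node (.node (.node (.leaf (nat_lit 3171))
  (.leaf (nat_lit 8199)))
  (.node (.leaf (nat_lit 499175))
  (.leaf (nat_lit 562))))
  (.node (.node (.leaf (nat_lit 167075))
  (.leaf (nat_lit 461)))
  (.leaf (nat_lit 34))))
  (.node (.node (.node (.leaf (nat_lit 99425))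
  (.leaf (nat_lit 298)))
  (.node (.leaf (nat_lit 568875))
  (.leaf (nat_lit 0))))
  (.node (.node (.leaf (nat_lit 300325))
  (.leaf (nat_lit 16399)))
  (.leaf (nat_lit 197))))
def alt121_N_5 : Tr := .node (.node (.node (.node (.leaf (nat_lit 11627))
  (.leaf (nat_lit 329)))
  (.node (.leaf (nat_lit 501225))
  (.leaf (nat_lit 20499))))
  (.node (.node (.leaf (nat_lit 429475))
  (.leaf (nat_lit 430)))
  (.leaf (nat_lit 4099))))
  (.node (.node (.node (.leaf (nat_lit 361825))
  (.leaf (nat_lit 12299)))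
  (.leaf (nat_lit 65)))
  (.node (.node (.leaf (nat_lit 562725))
  (.leaf (nat_lit 593)))
  (.leaf (nat_lit 166))))
def alt121_N_6 : Tr := .node (.node (.node (.node (.leaf (nat_lit 7399))
  (.leaf (nat_lit 232)))
  (.node (.leaf (nat_lit 370025))
  (.leaf (nat_lit 659))))
  (.node (.node (.leaf (nat_lit 298275))
  (.leaf (nat_lit 14349)))
  (.leaf (nat_lit 131))))
  (.node (.node (.node (.leaf (nat_lit 230625))
  (.leaf (nat_lit 395)))
  (.leaf (nat_lit 570925)))
  (.node (.node (.leaf (nat_lit 431525))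
  (.leaf (nat_lit 496)))
  (.leaf (nat_lit 6149))))
def alt121_N_7 : Tr := .node (.node (.node (.node (.leaf (nat_lit 15855))
  (.leaf (nat_lit 10249)))
  (.node (.leaf (nat_lit 437675))
  (.leaf (nat_lit 628))))
  (.node (.node (.leaf (nat_lit 560675))
  (.leaf (nat_lit 527)))
  (.leaf (nat_lit 100))))
  (.node (.node (.node (.leaf (nat_lit 493025))
  (.leaf (nat_lit 364)))
  (.leaf (nat_lit 2049)))
  (.node (.node (.leaf (nat_lit 367975))
  (.leaf (nat_lit 18449)))
  (.leaf (nat_lit 263))))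
def alt121_N : Tr := .node (.node (.node alt121_N_0
  alt121_N_1)
  (.node alt121_N_2
  alt121_N_3))
  (.node (.node alt121_N_4
  alt121_N_5)
  (.node alt121_N_6
  alt121_N_7))
noncomputable def alt121 : TC :=
  ⟨[.l 0, .l 1, .l 2, .l 3, .l 4, .l 5, .l 6, .l 7, .l 8, .l 9, .l 10, .l 11, .l 12, .l 13, .l 14, .l 15, .l 16, .l 17, .l 18, .l 19, .l 20],
    (nat_lit 4), (nat_lit 8), (nat_lit 0x13a464f835cb62547414c320440), (nat_lit 43691), (nat_lit 11), (nat_lit 8), (nat_lit 32), (nat_lit 3), (nat_lit 107),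
    get (nat_lit 10) (nat_lit 0x400c0400c02010030080400c02010030080400c02010030080400c02010030080400c02010030080400c02010030080400c02010030080400c02010030080400c02010030080400c02010030080401004010040100401004010040100401004010040100401004010040100401004010040100401004010040100300c0300c0300c0300c03), Tr.get alt121_N, get (nat_lit 20) (nat_lit 0x3ff003ff003ff003ff003ff003ff003ff003ff003ff003ff003ff003ff003ff003ff003ff003ff003ff003ff003ff003ff003ff003ff003ff003ff003ff003ff003ff003ff003ff003ff003ff003ff003ff003ff003ff003ff003ff003ff003ff003ff003ff003ff003ff003ff003ff003ff003ff003ff003ff003ff003ff003ff003ff003ff003ff003ff003ff003ff003ff003ff003ff003ff0002c0002b0002a000290002800027000260002500024000230002200021000200001f0001e0001d0001c0001b0001a000190001800017000160001500014000130001200011000100000f0000e0000d0000c0000b0000a00009000080000700006000050000400003000020000100000),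
    Tr.get3 alt121_F (nat_lit 18) (nat_lit 5), Tr.get3 alt121_T (nat_lit 4) (nat_lit 7), Tr.get alt121_P⟩

theorem alt121_head : alt121.headOK alt121_rels altI12 = true := by decide +kernel

theorem alt121_b0 : allFrom (nat_lit 0) (nat_lit 3) alt121.blockOK = true := by decide +kernel

def alt121_Q17 : Tr := .leaf (nat_lit 0xc6b4a2907e6c5a48052602)
theorem alt121_f17_0 : allFrom (nat_lit 0) (nat_lit 11) (alt121.finOK (nat_lit 11) (Tr.get3 alt121_Q17 (nat_lit 8) (nat_lit 6)) (nat_lit 17)) = true := by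
  decide +kernel

def alt121_Q15 : Tr := .leaf (nat_lit 0x15b2a08e7c6a5846b63624)
theorem alt121_f15_0 : allFrom (nat_lit 0) (nat_lit 11) (alt121.finOK (nat_lit 11) (Tr.get3 alt121_Q15 (nat_lit 8) (nat_lit 6)) (nat_lit 15)) = true := by
  decide +kernel

def alt121_Q13 : Tr := .leaf (nat_lit 0xc4139e8c7a685644a43422)
theorem alt121_f13_0 : allFrom (nat_lit 0) (nat_lit 11) (alt121.finOK (nat_lit 11) (Tr.get3 alt121_Q13 (nat_lit 8) (nat_lit 6)) (nat_lit 13)) = true := by
  decide +kernel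

def alt121_Q11 : Tr := .leaf (nat_lit 0xc2b0118a78665442923220)
theorem alt121_f11_0 : allFrom (nat_lit 0) (nat_lit 11) (alt121.finOK (nat_lit 11) (Tr.get3 alt121_Q11 (nat_lit 8) (nat_lit 6)) (nat_lit 11)) = true := by
  decide +kernel

def alt121_Q9 : Tr := .leaf (nat_lit 0xc0ae9c0f7664524080301e)
theorem alt121_f9_0 : allFrom (nat_lit 0) (nat_lit 11) (alt121.finOK (nat_lit 11) (Tr.get3 alt121_Q9 (nat_lit 8) (nat_lit 6)) (nat_lit 9)) = true := by
  decide +kernel

def alt121_Q7 : Tr := .leaf (nat_lit 0xbeac9a880d62503e6e2e1c)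
theorem alt121_f7_0 : allFrom (nat_lit 0) (nat_lit 11) (alt121.finOK (nat_lit 11) (Tr.get3 alt121_Q7 (nat_lit 8) (nat_lit 6)) (nat_lit 7)) = true := by
  decide +kernel

def alt121_Q5 : Tr := .leaf (nat_lit 0xbcaa9886740b4e3c5c2c1a)
theorem alt121_f5_0 : allFrom (nat_lit 0) (nat_lit 11) (alt121.finOK (nat_lit 11) (Tr.get3 alt121_Q5 (nat_lit 8) (nat_lit 6)) (nat_lit 5)) = true := by
  decide +kernel

def alt121_Q3 : Tr := .leaf (nat_lit 0xbaa896847260093a4a2a18)
theorem alt121_f3_0 : allFrom (nat_lit 0) (nat_lit 11) (alt121.finOK (nat_lit 11) (Tr.get3 alt121_Q3 (nat_lit 8) (nat_lit 6)) (nat_lit 3)) = true := by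
  decide +kernel

def alt121_Q1 : Tr := .leaf (nat_lit 0xb8a69482705e4c07382816)
theorem alt121_f1_0 : allFrom (nat_lit 0) (nat_lit 11) (alt121.finOK (nat_lit 11) (Tr.get3 alt121_Q1 (nat_lit 8) (nat_lit 6)) (nat_lit 1)) = true := by
  decide +kernel

theorem alt121_blocks : ∀ t < alt121.k, alt121.blockOK t = true :=
  (of_allFrom_append of_lt_zero alt121_b0)

/-- index 11 max 11 total 11 facts 100 | needed cosets 11 facts 100 steps 234 trivial 0 -/
theorem alt121_index {G : Type*} [Group G] {γ : ℕ → G} (hL : Lab γ altI12) (hr : ∀ t ∈ alt121_rels, t.ev γ = 1) {K : Subgroup G}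
    (hK : ∀ t ∈ ([.l 1, .l 3, .l 5, .l 7, .l 9, .l 11, .l 13, .l 15] : List W), t.ev γ ∈ K) :
    K.relIndex (genW γ [.l 1, .l 3, .l 5, .l 7, .l 9, .l 11, .l 13, .l 15, .l 17]) ≠ 0 ∧ K.relIndex (genW γ [.l 1, .l 3, .l 5, .l 7, .l 9, .l 11, .l 13, .l 15, .l 17]) ≤ 11 :=
  TC.relIndex_le (D := alt121) (gens := [1, 3, 5, 7, 9, 11, 13, 15, 17]) hL (List.forall_mem_cons.2 ⟨hL.zero_mem K, hK⟩) hr alt121_head alt121_blocks (by decide) (by decide)
   (List.forall_mem_cons.2 ⟨⟨_, (of_allFrom_append of_lt_zero alt121_f1_0)⟩,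
    List.forall_mem_cons.2 ⟨⟨_, (of_allFrom_append of_lt_zero alt121_f3_0)⟩,
    List.forall_mem_cons.2 ⟨⟨_, (of_allFrom_append of_lt_zero alt121_f5_0)⟩,
    List.forall_mem_cons.2 ⟨⟨_, (of_allFrom_append of_lt_zero alt121_f7_0)⟩,
    List.forall_mem_cons.2 ⟨⟨_, (of_allFrom_append of_lt_zero alt121_f9_0)⟩,
    List.forall_mem_cons.2 ⟨⟨_, (of_allFrom_append of_lt_zero alt121_f11_0)⟩,
    List.forall_mem_cons.2 ⟨⟨_, (of_allFrom_append of_lt_zero alt121_f13_0)⟩,
    List.forall_mem_cons.2 ⟨⟨_, (of_allFrom_append of_lt_zero alt121_f15_0)⟩,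
    List.forall_mem_cons.2 ⟨⟨_, (of_allFrom_append of_lt_zero alt121_f17_0)⟩,
    fun _ h => absurd h List.not_mem_nil⟩⟩⟩⟩⟩⟩⟩⟩⟩)

def alt122_rels : List W := [.pow (.l 1) 3, .pow (.l 3) 3, .pow (.l 5) 3, .pow (.l 7) 3, .pow (.l 9) 3, .pow (.l 11) 3, .pow (.l 13) 3, .pow (.l 15) 3, .pow (.mul (.l 1) (.l 3)) 2, .pow (.mul (.l 1) (.l 5)) 2, .pow (.mul (.l 1) (.l 7)) 2, .pow (.mul (.l 1) (.l 9)) 2, .pow (.mul (.l 1) (.l 11)) 2, .pow (.mul (.l 1) (.l 13)) 2, .pow (.mul (.l 1) (.l 15)) 2, .pow (.mul (.l 3) (.l 5)) 2, .pow (.mul (.l 3) (.l 7)) 2, .pow (.mul (.l 3) (.l 9)) 2, .pow (.mul (.l 3) (.l 11)) 2, .pow (.mul (.l 3) (.l 13)) 2, .pow (.mul (.l 3) (.l 15)) 2, .pow (.mul (.l 5) (.l 7)) 2, .pow (.mul (.l 5) (.l 9)) 2, .pow (.mul (.l 5) (.l 11)) 2, .pow (.mul (.l 5) (.l 13)) 2, .pow (.mul (.l 5) (.l 15)) 2, .pow (.mul (.l 7) (.l 9)) 2, .pow (.mul (.l 7) (.l 11)) 2, .pow (.mul (.l 7) (.l 13)) 2, .pow (.mul (.l 7) (.l 15)) 2, .pow (.mul (.l 9) (.l 11)) 2, .pow (.mul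 (.l 9) (.l 13)) 2, .pow (.mul (.l 9) (.l 15)) 2, .pow (.mul (.l 11) (.l 13)) 2, .pow (.mul (.l 11) (.l 15)) 2, .pow (.mul (.l 13) (.l 15)) 2]
def alt122_F : Tr := .leaf (nat_lit 0x212f964ae55299449e4d259248e4521974b4a10f8743615098441e0d058240e05018642ca0ef773b5d8eb7439dcce57238dc4e1753a4a0cf6733598cb653258cc56230d84c16431ca0af572b558ab552a550a75228d44a153294a08f47235188b4522510874321504814220ca06f371b4d86b351a4d06733194c863311849c4d1612c54491411c4c451210c44411813c5c0d0602c14090401c0c050200c040106cb8570c14ba84ec812a984684109885e50080bc00000)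
def alt122_T : Tr := .leaf (nat_lit 654820258320)
def alt122_P : Tr := .node (.leaf (nat_lit 0x52220b0021952300b00218522e0b00217522c0b00216522a0b0021552260b0000f52240b00009280b000024222090021442300900213422e0900212422c0900211422a09002104228090020f422409000082609000013222070020e3230070020d322e070020c322c070020b322a070020a322807002093226070020824070000002200500023021e0500022021c0500020021a050001d02180500019021605000140214050000e020500007))
  (.leaf (nat_lit 0x92221300223922e1300021922c130001f922a130001c92281300018922613000139224130000d3013000068222110022282301100221822c110001e822a110001b82281100017822611000128224110000c2e110000572220f0022072300f0021f722e0f0021e722a0f0001a72280f0001672260f0001172240f0000b2c0f0000462220d0021d62300d0021c622e0d0021b622c0d0021a62280d0001562260d0001062240d0000a2a0d00003))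
def alt122_N_0 : Tr := .node (.node (.node (.node (.leaf (nat_lit 1057))
  (.leaf (nat_lit 298)))
  (.node (.leaf (nat_lit 501225))
  (.leaf (nat_lit 0))))
  (.node (.node (.leaf (nat_lit 232675))
  (.leaf (nat_lit 16399)))
  (.leaf (nat_lit 197))))
  (.node (.node (.node (.leaf (nat_lit 99425))
  (.leaf (nat_lit 461)))
  (.leaf (nat_lit 34)))
  (.node (.node (.leaf (nat_lit 431525))
  (.leaf (nat_lit 562)))
  (.leaf (nat_lit 8199))))
def alt122_N_1 : Tr := .node (.node (.node (.node (.leaf (nat_lit 9513))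
  (.leaf (nat_lit 12299)))
  (.leaf (nat_lit 65)))
  (.node (.node (.leaf (nat_lit 495075))
  (.leaf (nat_lit 593)))
  (.leaf (nat_lit 166))))
  (.node (.node (.node (.leaf (nat_lit 361825))
  (.leaf (nat_lit 430)))
  (.leaf (nat_lit 4099)))
  (.node (.node (.leaf (nat_lit 433575))
  (.leaf (nat_lit 20499)))
  (.leaf (nat_lit 329))))
def alt122_N_2 : Tr := .node (.node (.node (.node (.leaf (nat_lit 5285))
  (.leaf (nat_lit 395)))
  (.leaf (nat_lit 503275)))
  (.node (.node (.leaf (nat_lit 363875))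
  (.leaf (nat_lit 496)))
  (.leaf (nat_lit 6149))))
  (.node (.node (.node (.leaf (nat_lit 230625))
  (.leaf (nat_lit 14349)))
  (.leaf (nat_lit 131)))
  (.node (.node (.leaf (nat_lit 302375))
  (.leaf (nat_lit 659)))
  (.leaf (nat_lit 232))))
def alt122_N_3 : Tr := .node (.node (.node (.node (.leaf (nat_lit 13741))
  (.leaf (nat_lit 364)))
  (.leaf (nat_lit 2049)))
  (.node (.node (.leaf (nat_lit 300325))
  (.leaf (nat_lit 18449)))
  (.leaf (nat_lit 263))))
  (.node (.node (.node (.leaf (nat_lit 493025))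
  (.leaf (nat_lit 527)))
  (.leaf (nat_lit 100)))
  (.node (.node (.leaf (nat_lit 370025))
  (.leaf (nat_lit 628)))
  (.leaf (nat_lit 10249))))
def alt122_N_4 : Tr := .node (.node (.node (.node (.leaf (nat_lit 3171))
  (.leaf (nat_lit 9226)))
  (.node (.leaf (nat_lit 437675))
  (.leaf (nat_lit 0))))
  (.node (.node (.leaf (nat_lit 298275))
  (.leaf (nat_lit 496)))
  (.leaf (nat_lit 197))))
  (.node (.node (.node (.leaf (nat_lit 165025))
  (.leaf (nat_lit 461)))
  (.leaf (nat_lit 1026)))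
  (.node (.node (.leaf (nat_lit 497125))
  (.leaf (nat_lit 17426)))
  (.leaf (nat_lit 232))))
def alt122_N_5 : Tr := .node (.node (.node (.node (.leaf (nat_lit 11627))
  (.leaf (nat_lit 364)))
  (.leaf (nat_lit 65)))
  (.node (.node (.leaf (nat_lit 234725))
  (.leaf (nat_lit 593)))
  (.leaf (nat_lit 5126))))
  (.node (.node (.node (.leaf (nat_lit 427425))
  (.leaf (nat_lit 13326)))
  (.leaf (nat_lit 100)))
  (.node (.node (.leaf (nat_lit 499175))
  (.leaf (nat_lit 628)))
  (.leaf (nat_lit 329))))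
def alt122_N_6 : Tr := .node (.node (.node (.node (.leaf (nat_lit 7399))
  (.leaf (nat_lit 395)))
  (.leaf (nat_lit 505325)))
  (.node (.node (.leaf (nat_lit 429475))
  (.leaf (nat_lit 15376)))
  (.leaf (nat_lit 166))))
  (.node (.node (.node (.leaf (nat_lit 296225))
  (.leaf (nat_lit 430)))
  (.leaf (nat_lit 131)))
  (.node (.node (.leaf (nat_lit 367975))
  (.leaf (nat_lit 659)))
  (.leaf (nat_lit 7176))))
def alt122_N_7 : Tr := .node (.node (.node (.node (.leaf (nat_lit 15855))
  (.leaf (nat_lit 11276)))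
  (.leaf (nat_lit 34)))
  (.node (.node (.leaf (nat_lit 365925))
  (.leaf (nat_lit 562)))
  (.leaf (nat_lit 263))))
  (.node (.node (.node (.leaf (nat_lit 167075))
  (.leaf (nat_lit 527)))
  (.leaf (nat_lit 3076)))
  (.node (.node (.leaf (nat_lit 435625))
  (.leaf (nat_lit 19476)))
  (.leaf (nat_lit 298))))
def alt122_N : Tr := .node (.node (.node alt122_N_0
  alt122_N_1)
  (.node alt122_N_2
  alt122_N_3))
  (.node (.node alt122_N_4
  alt122_N_5)
  (.node alt122_N_6
  alt122_N_7))
noncomputable def alt122 : TC :=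
  ⟨[.l 0, .l 1, .l 2, .l 3, .l 4, .l 5, .l 6, .l 7, .l 8, .l 9, .l 10, .l 11, .l 12, .l 13, .l 14, .l 15, .l 16, .l 17, .l 18, .l 19, .l 20],
    (nat_lit 4), (nat_lit 8), (nat_lit 0x13a464f835cb62547414c320440), (nat_lit 10923), (nat_lit 10), (nat_lit 7), (nat_lit 32), (nat_lit 2), (nat_lit 98),
    get (nat_lit 10) (nat_lit 0x1003010030080400c02010030080400c02010030080400c02010030080400c02010030080400c02010030080400c02010030080400c02010030080400c02010030080400c02010030080400c02010040100401004010040100401004010040100401004010040100401004010040100400c0300c0300c0300c03), Tr.get alt122_N, get (nat_lit 20) (nat_lit 0x3ff003ff003ff003ff003ff003ff003ff003ff003ff003ff003ff003ff003ff003ff003ff003ff003ff003ff003ff003ff003ff003ff003ff003ff003ff003ff003ff003ff003ff003ff003ff003ff003ff003ff003ff003ff003ff003ff003ff003ff003ff003ff003ff003ff003ff003ff003ff003ff003ff003ff003ff003ff003ff003ff003ff003ff003ff003ff003ff003ff003ff003ff000230002200021000200001f0001e0001d0001c0001b0001a000190001800017000160001500014000130001200011000100000f0000e0000d0000c0000b0000a00009000080000700006000050000400003000020000100000),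
    Tr.get3 alt122_F (nat_lit 18) (nat_lit 5), Tr.get3 alt122_T (nat_lit 4) (nat_lit 7), Tr.get alt122_P⟩

theorem alt122_head : alt122.headOK alt122_rels altI12 = true := by decide +kernel

theorem alt122_b0 : allFrom (nat_lit 0) (nat_lit 2) alt122.blockOK = true := by decide +kernel

def alt122_Q15 : Tr := .leaf (nat_lit 0xa0908070605040052202)
theorem alt122_f15_0 : allFrom (nat_lit 0) (nat_lit 10) (alt122.finOK (nat_lit 10) (Tr.get3 alt122_Q15 (nat_lit 8) (nat_lit 6)) (nat_lit 15)) = true := by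
  decide +kernel

def alt122_Q13 : Tr := .leaf (nat_lit 0x138e7e6e5e4e3e923020)
theorem alt122_f13_0 : allFrom (nat_lit 0) (nat_lit 10) (alt122.finOK (nat_lit 10) (Tr.get3 alt122_Q13 (nat_lit 8) (nat_lit 6)) (nat_lit 13)) = true := by
  decide +kernel

def alt122_Q11 : Tr := .leaf (nat_lit 0x9e117c6c5c4c3c822e1e)
theorem alt122_f11_0 : allFrom (nat_lit 0) (nat_lit 10) (alt122.finOK (nat_lit 10) (Tr.get3 alt122_Q11 (nat_lit 8) (nat_lit 6)) (nat_lit 11)) = true := by
  decide +kernel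

def alt122_Q9 : Tr := .leaf (nat_lit 0x9c8c0f6a5a4a3a722c1c)
theorem alt122_f9_0 : allFrom (nat_lit 0) (nat_lit 10) (alt122.finOK (nat_lit 10) (Tr.get3 alt122_Q9 (nat_lit 8) (nat_lit 6)) (nat_lit 9)) = true := by
  decide +kernel

def alt122_Q7 : Tr := .leaf (nat_lit 0x9a8a7a0d584838622a1a)
theorem alt122_f7_0 : allFrom (nat_lit 0) (nat_lit 10) (alt122.finOK (nat_lit 10) (Tr.get3 alt122_Q7 (nat_lit 8) (nat_lit 6)) (nat_lit 7)) = true := by
  decide +kernel

def alt122_Q5 : Tr := .leaf (nat_lit 0x988878680b4636522818)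
theorem alt122_f5_0 : allFrom (nat_lit 0) (nat_lit 10) (alt122.finOK (nat_lit 10) (Tr.get3 alt122_Q5 (nat_lit 8) (nat_lit 6)) (nat_lit 5)) = true := by
  decide +kernel

def alt122_Q3 : Tr := .leaf (nat_lit 0x96867666560934422616)
theorem alt122_f3_0 : allFrom (nat_lit 0) (nat_lit 10) (alt122.finOK (nat_lit 10) (Tr.get3 alt122_Q3 (nat_lit 8) (nat_lit 6)) (nat_lit 3)) = true := by
  decide +kernel

def alt122_Q1 : Tr := .leaf (nat_lit 0x94847464544407322414)
theorem alt122_f1_0 : allFrom (nat_lit 0) (nat_lit 10) (alt122.finOK (nat_lit 10) (Tr.get3 alt122_Q1 (nat_lit 8) (nat_lit 6)) (nat_lit 1)) = true := by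
  decide +kernel

theorem alt122_blocks : ∀ t < alt122.k, alt122.blockOK t = true :=
  (of_allFrom_append of_lt_zero alt122_b0)

/-- index 10 max 10 total 10 facts 81 | needed cosets 10 facts 81 steps 184 trivial 0 -/
theorem alt122_index {G : Type*} [Group G] {γ : ℕ → G} (hL : Lab γ altI12) (hr : ∀ t ∈ alt122_rels, t.ev γ = 1) {K : Subgroup G}
    (hK : ∀ t ∈ ([.l 1, .l 3, .l 5, .l 7, .l 9, .l 11, .l 13] : List W), t.ev γ ∈ K) :
    K.relIndex (genW γ [.l 1, .l 3, .l 5, .l 7, .l 9, .l 11, .l 13, .l 15]) ≠ 0 ∧ K.relIndex (genW γ [.l 1, .l 3, .l 5, .l 7, .l 9, .l 11, .l 13, .l 15]) ≤ 10 :=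
  TC.relIndex_le (D := alt122) (gens := [1, 3, 5, 7, 9, 11, 13, 15]) hL (List.forall_mem_cons.2 ⟨hL.zero_mem K, hK⟩) hr alt122_head alt122_blocks (by decide) (by decide)
   (List.forall_mem_cons.2 ⟨⟨_, (of_allFrom_append of_lt_zero alt122_f1_0)⟩,
    List.forall_mem_cons.2 ⟨⟨_, (of_allFrom_append of_lt_zero alt122_f3_0)⟩,
    List.forall_mem_cons.2 ⟨⟨_, (of_allFrom_append of_lt_zero alt122_f5_0)⟩,
    List.forall_mem_cons.2 ⟨⟨_, (of_allFrom_append of_lt_zero alt122_f7_0)⟩,
    List.forall_mem_cons.2 ⟨⟨_, (of_allFrom_append of_lt_zero alt122_f9_0)⟩,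
    List.forall_mem_cons.2 ⟨⟨_, (of_allFrom_append of_lt_zero alt122_f11_0)⟩,
    List.forall_mem_cons.2 ⟨⟨_, (of_allFrom_append of_lt_zero alt122_f13_0)⟩,
    List.forall_mem_cons.2 ⟨⟨_, (of_allFrom_append of_lt_zero alt122_f15_0)⟩,
    fun _ h => absurd h List.not_mem_nil⟩⟩⟩⟩⟩⟩⟩⟩)

def alt123_rels : List W := [.pow (.l 1) 3, .pow (.l 3) 3, .pow (.l 5) 3, .pow (.l 7) 3, .pow (.l 9) 3, .pow (.l 11) 3, .pow (.l 13) 3, .pow (.mul (.l 1) (.l 3)) 2, .pow (.mul (.l 1) (.l 5)) 2, .pow (.mul (.l 1) (.l 7)) 2, .pow (.mul (.l 1) (.l 9)) 2, .pow (.mul (.l 1) (.l 11)) 2, .pow (.mul (.l 1) (.l 13)) 2, .pow (.mul (.l 3) (.l 5)) 2, .pow (.mul (.l 3) (.l 7)) 2, .pow (.mul (.l 3) (.l 9)) 2, .pow (.mul (.l 3) (.l 11)) 2, .pow (.mul (.l 3) (.l 13)) 2, .pow (.mul (.l 5) (.l 7)) 2, .pow (.mul (.l 5) (.l 9)) 2, .pow (.mul (.l 5) (.l 11)) 2, .pow (.mul (.l 5) (.l 13)) 2, .pow (.mul (.l 7) (.l 9)) 2, .pow (.mul (.l 7) (.l 11)) 2, .pow (.mul (.l 7) (.l 13)) 2, .pow (.mul (.l 9) (.l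 11)) 2, .pow (.mul (.l 9) (.l 13)) 2, .pow (.mul (.l 11) (.l 13)) 2]
def alt123_F : Tr := .leaf (nat_lit 0x743615098441e0d058240e05018642c9ced763add0e773395c8e371385d4e92733598cb653258cc56230d84c16431c9cad562ad54a95429d48a3512854ca527235188b4522510874321504814220c9c6d361acd4693419ccc653218cc4612612c54491411c4c451210c444117134580b05024100703014080301004170c14ba84ec812a984684109885a4e070b400000)
def alt123_T : Tr := .leaf (nat_lit 36344967696)
def alt123_P : Tr := .node (.leaf (nat_lit 0x56240d0001256220d0000e56200d00009260d00003481e0b00215482a0b0021448280b0021348260b0021248220b0000d48200b00008240b000023a1e09002113a2a09002103a28090020f3a26090020e3a24090020d3a2009000072209000012c1e070020c2c2a070020b2c28070020a2c2607002092c2407002082c220700207200700000021c050001b021a050001a0218050001802160500015021405000110212050000c020500006))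
  (.leaf (nat_lit 0x1ff001ff001ff001ff001ff001ff001ff001ff001ff001ff001ff001ff001ff001ff001ff721e110021b722811000197226110001772241100014722211000107220110000b2a1100005641e0f0021a642a0f0021964260f0001664240f0001364220f0000f64200f0000a280f00004561e0d00218562a0d0021756280d00216))
def alt123_N_0 : Tr := .node (.node (.node (.node (.leaf (nat_lit 1057))
  (.leaf (nat_lit 461)))
  (.leaf (nat_lit 34)))
  (.node (.node (.leaf (nat_lit 363875))
  (.leaf (nat_lit 562)))
  (.leaf (nat_lit 8199))))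
  (.node (.node (.node (.leaf (nat_lit 165025))
  (.leaf (nat_lit 16399)))
  (.leaf (nat_lit 197)))
  (.node (.node (.leaf (nat_lit 433575))
  (.leaf (nat_lit 0)))
  (.leaf (nat_lit 298))))
def alt123_N_1 : Tr := .node (.node (.node (.node (.leaf (nat_lit 9513))
  (.leaf (nat_lit 430)))
  (.leaf (nat_lit 4099)))
  (.node (.node (.leaf (nat_lit 365925))
  (.leaf (nat_lit 20499)))
  (.leaf (nat_lit 329))))
  (.node (.node (.node (.leaf (nat_lit 427425))
  (.leaf (nat_lit 593)))
  (.leaf (nat_lit 166)))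
  (.node (.leaf (nat_lit 65))
  (.leaf (nat_lit 12299))))
def alt123_N_2 : Tr := .node (.node (.node (.node (.leaf (nat_lit 5285))
  (.leaf (nat_lit 14349)))
  (.leaf (nat_lit 131)))
  (.node (.node (.leaf (nat_lit 234725))
  (.leaf (nat_lit 659)))
  (.leaf (nat_lit 232))))
  (.node (.node (.node (.leaf (nat_lit 296225))
  (.leaf (nat_lit 496)))
  (.leaf (nat_lit 6149)))
  (.node (.leaf (nat_lit 435625))
  (.leaf (nat_lit 395))))
def alt123_N_3 : Tr := .node (.node (.node (.node (.leaf (nat_lit 13741))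
  (.leaf (nat_lit 527)))
  (.leaf (nat_lit 100)))
  (.node (.node (.leaf (nat_lit 302375))
  (.leaf (nat_lit 628)))
  (.leaf (nat_lit 10249))))
  (.node (.node (.node (.leaf (nat_lit 232675))
  (.leaf (nat_lit 18449)))
  (.leaf (nat_lit 263)))
  (.node (.leaf (nat_lit 2049))
  (.leaf (nat_lit 364))))
def alt123_N_4 : Tr := .node (.node (.node (.node (.leaf (nat_lit 3171))
  (.leaf (nat_lit 461)))
  (.leaf (nat_lit 1026)))
  (.node (.node (.leaf (nat_lit 429475))
  (.leaf (nat_lit 17426)))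
  (.leaf (nat_lit 232))))
  (.node (.node (.node (.leaf (nat_lit 230625))
  (.leaf (nat_lit 496)))
  (.leaf (nat_lit 197)))
  (.node (.node (.leaf (nat_lit 370025))
  (.leaf (nat_lit 0)))
  (.leaf (nat_lit 9226))))
def alt123_N_5 : Tr := .node (.node (.node (.node (.leaf (nat_lit 11627))
  (.leaf (nat_lit 13326)))
  (.leaf (nat_lit 100)))
  (.node (.node (.leaf (nat_lit 431525))
  (.leaf (nat_lit 628)))
  (.leaf (nat_lit 329))))
  (.node (.node (.node (.leaf (nat_lit 167075))
  (.leaf (nat_lit 593)))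
  (.leaf (nat_lit 5126)))
  (.node (.leaf (nat_lit 65))
  (.leaf (nat_lit 364))))
def alt123_N_6 : Tr := .node (.node (.node (.node (.leaf (nat_lit 7399))
  (.leaf (nat_lit 430)))
  (.leaf (nat_lit 131)))
  (.node (.node (.leaf (nat_lit 300325))
  (.leaf (nat_lit 659)))
  (.leaf (nat_lit 7176))))
  (.node (.node (.node (.leaf (nat_lit 361825))
  (.leaf (nat_lit 15376)))
  (.leaf (nat_lit 166)))
  (.node (.leaf (nat_lit 437675))
  (.leaf (nat_lit 395))))
def alt123_N_7 : Tr := .node (.node (.node (.node (.leaf (nat_lit 99425))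
  (.leaf (nat_lit 527)))
  (.leaf (nat_lit 3076)))
  (.node (.node (.leaf (nat_lit 367975))
  (.leaf (nat_lit 19476)))
  (.leaf (nat_lit 298))))
  (.node (.node (.node (.leaf (nat_lit 298275))
  (.leaf (nat_lit 562)))
  (.leaf (nat_lit 263)))
  (.node (.leaf (nat_lit 34))
  (.leaf (nat_lit 11276))))
def alt123_N : Tr := .node (.node (.node alt123_N_0
  alt123_N_1)
  (.node alt123_N_2
  alt123_N_3))
  (.node (.node alt123_N_4
  alt123_N_5)
  (.node alt123_N_6
  alt123_N_7))
noncomputable def alt123 : TC :=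
  ⟨[.l 0, .l 1, .l 2, .l 3, .l 4, .l 5, .l 6, .l 7, .l 8, .l 9, .l 10, .l 11, .l 12, .l 13, .l 14, .l 15, .l 16, .l 17, .l 18, .l 19, .l 20],
    (nat_lit 4), (nat_lit 8), (nat_lit 0x13a464f835cb62547414c320440), (nat_lit 2731), (nat_lit 9), (nat_lit 6), (nat_lit 32), (nat_lit 2), (nat_lit 90),
    get (nat_lit 10) (nat_lit 0x1003010030080400c02010030080400c02010030080400c02010030080400c02010030080400c02010030080400c02010030080400c02010030080400c02010030080400c02010030080400c02010040100401004010040100401004010040100401004010040100300c0300c0300c03), Tr.get alt123_N, get (nat_lit 20) (nat_lit 0x3ff003ff003ff003ff003ff003ff003ff003ff003ff003ff003ff003ff003ff003ff003ff003ff003ff003ff003ff003ff003ff003ff003ff003ff003ff003ff003ff003ff003ff003ff003ff003ff003ff003ff003ff003ff003ff003ff003ff003ff003ff003ff003ff003ff003ff003ff003ff003ff003ff003ff003ff003ff003ff003ff003ff003ff003ff003ff003ff003ff003ff003ff0001b0001a000190001800017000160001500014000130001200011000100000f0000e0000d0000c0000b0000a00009000080000700006000050000400003000020000100000),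
    Tr.get3 alt123_F (nat_lit 18) (nat_lit 5), Tr.get3 alt123_T (nat_lit 4) (nat_lit 7), Tr.get alt123_P⟩

theorem alt123_head : alt123.headOK alt123_rels altI12 = true := by decide +kernel

theorem alt123_b0 : allFrom (nat_lit 0) (nat_lit 2) alt123.blockOK = true := by decide +kernel

def alt123_Q13 : Tr := .leaf (nat_lit 0x7ee18aa467014f02)
theorem alt123_f13_0 : allFrom (nat_lit 0) (nat_lit 9) (alt123.finOK (nat_lit 9) (Tr.get3 alt123_Q13 (nat_lit 7) (nat_lit 7)) (nat_lit 13)) = true := by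
  decide +kernel

def alt123_Q11 : Tr := .leaf (nat_lit 0x11dd829446dc951c)
theorem alt123_f11_0 : allFrom (nat_lit 0) (nat_lit 9) (alt123.finOK (nat_lit 9) (Tr.get3 alt123_Q11 (nat_lit 7) (nat_lit 7)) (nat_lit 11)) = true := by
  decide +kernel

def alt123_Q9 : Tr := .leaf (nat_lit 0x7c1f7a842699141a)
theorem alt123_f9_0 : allFrom (nat_lit 0) (nat_lit 9) (alt123.finOK (nat_lit 9) (Tr.get3 alt123_Q9 (nat_lit 7) (nat_lit 7)) (nat_lit 9)) = true := by
  decide +kernel

def alt123_Q7 : Tr := .leaf (nat_lit 0x7ad8367406559318)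
theorem alt123_f7_0 : allFrom (nat_lit 0) (nat_lit 9) (alt123.finOK (nat_lit 9) (Tr.get3 alt123_Q7 (nat_lit 7) (nat_lit 7)) (nat_lit 7)) = true := by
  decide +kernel

def alt123_Q5 : Tr := .leaf (nat_lit 0x78d5705be6121216)
theorem alt123_f5_0 : allFrom (nat_lit 0) (nat_lit 9) (alt123.finOK (nat_lit 9) (Tr.get3 alt123_Q5 (nat_lit 7) (nat_lit 7)) (nat_lit 5)) = true := by
  decide +kernel

def alt123_Q3 : Tr := .leaf (nat_lit 0x76d16a6095ce9114)
theorem alt123_f3_0 : allFrom (nat_lit 0) (nat_lit 9) (alt123.finOK (nat_lit 9) (Tr.get3 alt123_Q3 (nat_lit 7) (nat_lit 7)) (nat_lit 3)) = true := by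
  decide +kernel

def alt123_Q1 : Tr := .leaf (nat_lit 0x74cd6253c0eb1012)
theorem alt123_f1_0 : allFrom (nat_lit 0) (nat_lit 9) (alt123.finOK (nat_lit 9) (Tr.get3 alt123_Q1 (nat_lit 7) (nat_lit 7)) (nat_lit 1)) = true := by
  decide +kernel

theorem alt123_blocks : ∀ t < alt123.k, alt123.blockOK t = true :=
  (of_allFrom_append of_lt_zero alt123_b0)

/-- index 9 max 9 total 9 facts 64 | needed cosets 9 facts 64 steps 140 trivial 0 -/
theorem alt123_index {G : Type*} [Group G] {γ : ℕ → G} (hL : Lab γ altI12) (hr : ∀ t ∈ alt123_rels, t.ev γ = 1) {K : Subgroup G}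
    (hK : ∀ t ∈ ([.l 1, .l 3, .l 5, .l 7, .l 9, .l 11] : List W), t.ev γ ∈ K) :
    K.relIndex (genW γ [.l 1, .l 3, .l 5, .l 7, .l 9, .l 11, .l 13]) ≠ 0 ∧ K.relIndex (genW γ [.l 1, .l 3, .l 5, .l 7, .l 9, .l 11, .l 13]) ≤ 9 :=
  TC.relIndex_le (D := alt123) (gens := [1, 3, 5, 7, 9, 11, 13]) hL (List.forall_mem_cons.2 ⟨hL.zero_mem K, hK⟩) hr alt123_head alt123_blocks (by decide) (by decide)
   (List.forall_mem_cons.2 ⟨⟨_, (of_allFrom_append of_lt_zero alt123_f1_0)⟩,
    List.forall_mem_cons.2 ⟨⟨_, (of_allFrom_append of_lt_zero alt123_f3_0)⟩,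
    List.forall_mem_cons.2 ⟨⟨_, (of_allFrom_append of_lt_zero alt123_f5_0)⟩,
    List.forall_mem_cons.2 ⟨⟨_, (of_allFrom_append of_lt_zero alt123_f7_0)⟩,
    List.forall_mem_cons.2 ⟨⟨_, (of_allFrom_append of_lt_zero alt123_f9_0)⟩,
    List.forall_mem_cons.2 ⟨⟨_, (of_allFrom_append of_lt_zero alt123_f11_0)⟩,
    List.forall_mem_cons.2 ⟨⟨_, (of_allFrom_append of_lt_zero alt123_f13_0)⟩,
    fun _ h => absurd h List.not_mem_nil⟩⟩⟩⟩⟩⟩⟩)

def alt124_rels : List W := [.pow (.l 1) 3, .pow (.l 3) 3, .pow (.l 5) 3, .pow (.l 7) 3, .pow (.l 9) 3, .pow (.l 11) 3, .pow (.mul (.l 1) (.l 3)) 2, .pow (.mul (.l 1) (.l 5)) 2, .pow (.mul (.l 1) (.l 7)) 2, .pow (.mul (.l 1) (.l 9)) 2, .pow (.mul (.l 1) (.l 11)) 2, .pow (.mul (.l 3) (.l 5)) 2, .pow (.mul (.l 3) (.l 7)) 2, .pow (.mul (.l 3) (.l 9)) 2, .pow (.mul (.l 3) (.l 11)) 2, .pow (.mul (.l 5) (.l 7)) 2, .pow (.mul (.l 5) (.l 9)) 2, .pow (.mul (.l 5) (.l 11)) 2, .pow (.mul (.l 7) (.l 9)) 2, .pow (.mul (.l 7) (.l 11)) 2, .pow (.mul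 (.l 9) (.l 11)) 2]
def alt124_F : Tr := .leaf (nat_lit 0x675f473f372f271f170f574a665e564e362e261e160e463a655d554d453d251d150d352a645c544c443c342c140c241a635b534b433b332b231b130a524942393229221912096259504840383028201810084f513e412d311c210b115a6061580000)
def alt124_T : Tr := .leaf (nat_lit 16434824)
def alt124_P : Tr := .node (.leaf (nat_lit 0x561c0f00009240f000044a1a0d002134a240d002124a200d0000f4a1e0d0000c4a1c0d00008220d000033e1a0b002113e240b002103e220b0020f3e1e0b0000b3e1c0b00007200b00002321a090020e3224090020d3222090020c3220090020b321c09000061e0900001261a070020a262407002092622070020826200700207261e07002061c07000000218050001402160500013021405000110212050000e0210050000a020500005))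
  (.leaf (nat_lit 0x1ff001ff001ff001ff001ff001ff001ff001ff001ff001ff001ff001ff001ff001ff001ff001ff001ff001ff001ff001ff001ff001ff001ff001ff001ff001ff001ff001ff561a0f0021456220f0001256200f00010561e0f0000d))
def alt124_N_0 : Tr := .node (.node (.node (.node (.leaf (nat_lit 1057))
  (.leaf (nat_lit 527)))
  (.leaf (nat_lit 3076)))
  (.node (.node (.leaf (nat_lit 300325))
  (.leaf (nat_lit 19476)))
  (.leaf (nat_lit 298))))
  (.node (.node (.node (.leaf (nat_lit 230625))
  (.leaf (nat_lit 562)))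
  (.leaf (nat_lit 263)))
  (.node (.leaf (nat_lit 34))
  (.leaf (nat_lit 11276))))
def alt124_N_1 : Tr := .node (.node (.node (.node (.leaf (nat_lit 9513))
  (.leaf (nat_lit 15376)))
  (.leaf (nat_lit 166)))
  (.node (.leaf (nat_lit 370025))
  (.leaf (nat_lit 395))))
  (.node (.node (.node (.leaf (nat_lit 232675))
  (.leaf (nat_lit 659)))
  (.leaf (nat_lit 7176)))
  (.node (.leaf (nat_lit 131))
  (.leaf (nat_lit 430))))
def alt124_N_2 : Tr := .node (.node (.node (.node (.leaf (nat_lit 5285))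
  (.leaf (nat_lit 496)))
  (.leaf (nat_lit 197)))
  (.node (.node (.leaf (nat_lit 302375))
  (.leaf (nat_lit 0)))
  (.leaf (nat_lit 9226))))
  (.node (.node (.node (.leaf (nat_lit 361825))
  (.leaf (nat_lit 17426)))
  (.leaf (nat_lit 232)))
  (.node (.leaf (nat_lit 1026))
  (.leaf (nat_lit 461))))
def alt124_N_3 : Tr := .node (.node (.node (.node (.leaf (nat_lit 99425))
  (.leaf (nat_lit 593)))
  (.leaf (nat_lit 5126)))
  (.node (.leaf (nat_lit 65))
  (.leaf (nat_lit 364))))
  (.node (.node (.node (.leaf (nat_lit 363875))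
  (.leaf (nat_lit 628)))
  (.leaf (nat_lit 329)))
  (.node (.leaf (nat_lit 100))
  (.leaf (nat_lit 13326))))
def alt124_N_4 : Tr := .node (.node (.node (.node (.leaf (nat_lit 3171))
  (.leaf (nat_lit 16399)))
  (.leaf (nat_lit 197)))
  (.node (.node (.leaf (nat_lit 365925))
  (.leaf (nat_lit 0)))
  (.leaf (nat_lit 298))))
  (.node (.node (.node (.leaf (nat_lit 296225))
  (.leaf (nat_lit 562)))
  (.leaf (nat_lit 8199)))
  (.node (.leaf (nat_lit 34))
  (.leaf (nat_lit 461))))
def alt124_N_5 : Tr := .node (.node (.node (.node (.leaf (nat_lit 11627))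
  (.leaf (nat_lit 593)))
  (.leaf (nat_lit 166)))
  (.node (.leaf (nat_lit 65))
  (.leaf (nat_lit 12299))))
  (.node (.node (.node (.leaf (nat_lit 298275))
  (.leaf (nat_lit 20499)))
  (.leaf (nat_lit 329)))
  (.node (.leaf (nat_lit 4099))
  (.leaf (nat_lit 430))))
def alt124_N_6 : Tr := .node (.node (.node (.node (.leaf (nat_lit 7399))
  (.leaf (nat_lit 496)))
  (.leaf (nat_lit 6149)))
  (.node (.leaf (nat_lit 367975))
  (.leaf (nat_lit 395))))
  (.node (.node (.node (.leaf (nat_lit 167075))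
  (.leaf (nat_lit 659)))
  (.leaf (nat_lit 232)))
  (.node (.leaf (nat_lit 131))
  (.leaf (nat_lit 14349))))
def alt124_N_7 : Tr := .node (.node (.node (.node (.leaf (nat_lit 165025))
  (.leaf (nat_lit 18449)))
  (.leaf (nat_lit 263)))
  (.node (.leaf (nat_lit 2049))
  (.leaf (nat_lit 364))))
  (.node (.node (.node (.leaf (nat_lit 234725))
  (.leaf (nat_lit 628)))
  (.leaf (nat_lit 10249)))
  (.node (.leaf (nat_lit 100))
  (.leaf (nat_lit 527))))
def alt124_N : Tr := .node (.node (.node alt124_N_0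
  alt124_N_1)
  (.node alt124_N_2
  alt124_N_3))
  (.node (.node alt124_N_4
  alt124_N_5)
  (.node alt124_N_6
  alt124_N_7))
noncomputable def alt124 : TC :=
  ⟨[.l 0, .l 1, .l 2, .l 3, .l 4, .l 5, .l 6, .l 7, .l 8, .l 9, .l 10, .l 11, .l 12, .l 13, .l 14, .l 15, .l 16, .l 17, .l 18, .l 19, .l 20],
    (nat_lit 3), (nat_lit 8), (nat_lit 0x13a464f835cb62547414c320440), (nat_lit 683), (nat_lit 8), (nat_lit 5), (nat_lit 32), (nat_lit 2), (nat_lit 83),
    get (nat_lit 10) (nat_lit 0x400c0400c02010030080400c02010030080400c02010030080400c02010030080400c02010030080400c02010030080400c02010030080400c02010030080400c02010030080400c0201003008040100401004010040100401004010040100400c0300c0300c03), Tr.get alt124_N, get (nat_lit 20) (nat_lit 0x3ff003ff003ff003ff003ff003ff003ff003ff003ff003ff003ff003ff003ff003ff003ff003ff003ff003ff003ff003ff003ff003ff003ff003ff003ff003ff003ff003ff003ff003ff003ff003ff003ff003ff003ff003ff003ff003ff003ff003ff003ff003ff003ff003ff003ff003ff003ff003ff003ff003ff003ff003ff003ff003ff003ff003ff003ff003ff003ff003ff003ff003ff00014000130001200011000100000f0000e0000d0000c0000b0000a00009000080000700006000050000400003000020000100000),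
    Tr.get3 alt124_F (nat_lit 16) (nat_lit 5), Tr.get3 alt124_T (nat_lit 3) (nat_lit 8), Tr.get alt124_P⟩

theorem alt124_head : alt124.headOK alt124_rels altI12 = true := by decide +kernel

theorem alt124_b0 : allFrom (nat_lit 0) (nat_lit 2) alt124.blockOK = true := by decide +kernel

def alt124_Q11 : Tr := .leaf (nat_lit 0xc15243c6014d02)
theorem alt124_f11_0 : allFrom (nat_lit 0) (nat_lit 8) (alt124.finOK (nat_lit 8) (Tr.get3 alt124_Q11 (nat_lit 7) (nat_lit 7)) (nat_lit 11)) = true := by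
  decide +kernel

def alt124_Q9 : Tr := .leaf (nat_lit 0x1f4a33a5d59218)
theorem alt124_f9_0 : allFrom (nat_lit 0) (nat_lit 8) (alt124.finOK (nat_lit 8) (Tr.get3 alt124_Q9 (nat_lit 7) (nat_lit 7)) (nat_lit 9)) = true := by
  decide +kernel

def alt124_Q7 : Tr := .leaf (nat_lit 0xbc362385929116)
theorem alt124_f7_0 : allFrom (nat_lit 0) (nat_lit 8) (alt124.finOK (nat_lit 8) (Tr.get3 alt124_Q7 (nat_lit 7) (nat_lit 7)) (nat_lit 7)) = true := by
  decide +kernel

def alt124_Q5 : Tr := .leaf (nat_lit 0xb9405b654f9014)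
theorem alt124_f5_0 : allFrom (nat_lit 0) (nat_lit 8) (alt124.finOK (nat_lit 8) (Tr.get3 alt124_Q5 (nat_lit 7) (nat_lit 7)) (nat_lit 5)) = true := by
  decide +kernel

def alt124_Q3 : Tr := .leaf (nat_lit 0xb53a10950c8f12)
theorem alt124_f3_0 : allFrom (nat_lit 0) (nat_lit 8) (alt124.finOK (nat_lit 8) (Tr.get3 alt124_Q3 (nat_lit 7) (nat_lit 7)) (nat_lit 3)) = true := by
  decide +kernel

def alt124_Q1 : Tr := .leaf (nat_lit 0xb1320340e98e10)
theorem alt124_f1_0 : allFrom (nat_lit 0) (nat_lit 8) (alt124.finOK (nat_lit 8) (Tr.get3 alt124_Q1 (nat_lit 7) (nat_lit 7)) (nat_lit 1)) = true := by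
  decide +kernel

theorem alt124_blocks : ∀ t < alt124.k, alt124.blockOK t = true :=
  (of_allFrom_append of_lt_zero alt124_b0)

/-- index 8 max 8 total 8 facts 49 | needed cosets 8 facts 49 steps 102 trivial 0 -/
theorem alt124_index {G : Type*} [Group G] {γ : ℕ → G} (hL : Lab γ altI12) (hr : ∀ t ∈ alt124_rels, t.ev γ = 1) {K : Subgroup G}
    (hK : ∀ t ∈ ([.l 1, .l 3, .l 5, .l 7, .l 9] : List W), t.ev γ ∈ K) :
    K.relIndex (genW γ [.l 1, .l 3, .l 5, .l 7, .l 9, .l 11]) ≠ 0 ∧ K.relIndex (genW γ [.l 1, .l 3, .l 5, .l 7, .l 9, .l 11]) ≤ 8 :=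
  TC.relIndex_le (D := alt124) (gens := [1, 3, 5, 7, 9, 11]) hL (List.forall_mem_cons.2 ⟨hL.zero_mem K, hK⟩) hr alt124_head alt124_blocks (by decide) (by decide)
   (List.forall_mem_cons.2 ⟨⟨_, (of_allFrom_append of_lt_zero alt124_f1_0)⟩,
    List.forall_mem_cons.2 ⟨⟨_, (of_allFrom_append of_lt_zero alt124_f3_0)⟩,
    List.forall_mem_cons.2 ⟨⟨_, (of_allFrom_append of_lt_zero alt124_f5_0)⟩,
    List.forall_mem_cons.2 ⟨⟨_, (of_allFrom_append of_lt_zero alt124_f7_0)⟩,
    List.forall_mem_cons.2 ⟨⟨_, (of_allFrom_append of_lt_zero alt124_f9_0)⟩,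
    List.forall_mem_cons.2 ⟨⟨_, (of_allFrom_append of_lt_zero alt124_f11_0)⟩,
    fun _ h => absurd h List.not_mem_nil⟩⟩⟩⟩⟩⟩)

def alt125_rels : List W := [.pow (.l 1) 3, .pow (.l 3) 3, .pow (.l 5) 3, .pow (.l 7) 3, .pow (.l 9) 3, .pow (.mul (.l 1) (.l 3)) 2, .pow (.mul (.l 1) (.l 5)) 2, .pow (.mul (.l 1) (.l 7)) 2, .pow (.mul (.l 1) (.l 9)) 2, .pow (.mul (.l 3) (.l 5)) 2, .pow (.mul (.l 3) (.l 7)) 2, .pow (.mul (.l 3) (.l 9)) 2, .pow (.mul (.l 5) (.l 7)) 2, .pow (.mul (.l 5) (.l 9)) 2, .pow (.mul (.l 7) (.l 9)) 2]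
def alt125_F : Tr := .leaf (nat_lit 0x564e362e261e160e463a554d453d251d150d352a544c443c342c140c241a534b433b332b231b130a4239322922191209524940383028201810083e412d311c210b114a5051480000)
def alt125_T : Tr := .leaf (nat_lit 1754760)
def alt125_P : Tr := .leaf (nat_lit 0x7fc007fc007fc007fc007fc007fc007fdf161a0041cf8e0d0000c7c686800053e30340001cf0d000036858580106b43c2c00831a1a1600012d0c0b00006382c000095161200416a8f090020a5470480104aa302400014d09000014058380104203c1c0081d01c0e0040c80d0700205301c000001140a0001c089050000d0440280005821c140002010500004)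
def alt125_N_0 : Tr := .node (.node (.node (.node (.leaf (nat_lit 1057))
  (.leaf (nat_lit 593)))
  (.leaf (nat_lit 5126)))
  (.node (.leaf (nat_lit 65))
  (.leaf (nat_lit 364))))
  (.node (.node (.node (.leaf (nat_lit 296225))
  (.leaf (nat_lit 628)))
  (.leaf (nat_lit 329)))
  (.node (.leaf (nat_lit 100))
  (.leaf (nat_lit 13326))))
def alt125_N_1 : Tr := .node (.node (.node (.node (.leaf (nat_lit 9513))
  (.leaf (nat_lit 17426)))
  (.leaf (nat_lit 232)))
  (.node (.leaf (nat_lit 1026))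
  (.leaf (nat_lit 461))))
  (.node (.node (.node (.leaf (nat_lit 234725))
  (.leaf (nat_lit 0)))
  (.leaf (nat_lit 9226)))
  (.node (.leaf (nat_lit 197))
  (.leaf (nat_lit 496))))
def alt125_N_2 : Tr := .node (.node (.node (.node (.leaf (nat_lit 5285))
  (.leaf (nat_lit 562)))
  (.leaf (nat_lit 263)))
  (.node (.leaf (nat_lit 34))
  (.leaf (nat_lit 11276))))
  (.node (.node (.node (.leaf (nat_lit 232675))
  (.leaf (nat_lit 19476)))
  (.leaf (nat_lit 298)))
  (.node (.leaf (nat_lit 3076))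
  (.leaf (nat_lit 527))))
def alt125_N_3 : Tr := .node (.node (.node (.node (.leaf (nat_lit 165025))
  (.leaf (nat_lit 659)))
  (.leaf (nat_lit 7176)))
  (.node (.leaf (nat_lit 131))
  (.leaf (nat_lit 430))))
  (.node (.node (.leaf (nat_lit 302375))
  (.leaf (nat_lit 395)))
  (.node (.leaf (nat_lit 166))
  (.leaf (nat_lit 15376))))
def alt125_N_4 : Tr := .node (.node (.node (.node (.leaf (nat_lit 3171))
  (.leaf (nat_lit 18449)))
  (.leaf (nat_lit 263)))
  (.node (.leaf (nat_lit 2049))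
  (.leaf (nat_lit 364))))
  (.node (.node (.node (.leaf (nat_lit 167075))
  (.leaf (nat_lit 628)))
  (.leaf (nat_lit 10249)))
  (.node (.leaf (nat_lit 100))
  (.leaf (nat_lit 527))))
def alt125_N_5 : Tr := .node (.node (.node (.node (.leaf (nat_lit 99425))
  (.leaf (nat_lit 659)))
  (.leaf (nat_lit 232)))
  (.node (.leaf (nat_lit 131))
  (.leaf (nat_lit 14349))))
  (.node (.node (.leaf (nat_lit 300325))
  (.leaf (nat_lit 395)))
  (.node (.leaf (nat_lit 6149))
  (.leaf (nat_lit 496))))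
def alt125_N_6 : Tr := .node (.node (.node (.node (.leaf (nat_lit 7399))
  (.leaf (nat_lit 562)))
  (.leaf (nat_lit 8199)))
  (.node (.leaf (nat_lit 34))
  (.leaf (nat_lit 461))))
  (.node (.node (.node (.leaf (nat_lit 298275))
  (.leaf (nat_lit 0)))
  (.leaf (nat_lit 298)))
  (.node (.leaf (nat_lit 197))
  (.leaf (nat_lit 16399))))
def alt125_N_7 : Tr := .node (.node (.node (.node (.leaf (nat_lit 230625))
  (.leaf (nat_lit 20499)))
  (.leaf (nat_lit 329)))
  (.node (.leaf (nat_lit 4099))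
  (.leaf (nat_lit 430))))
  (.node (.node (.leaf (nat_lit 65))
  (.leaf (nat_lit 12299)))
  (.node (.leaf (nat_lit 166))
  (.leaf (nat_lit 593))))
def alt125_N : Tr := .node (.node (.node alt125_N_0
  alt125_N_1)
  (.node alt125_N_2
  alt125_N_3))
  (.node (.node alt125_N_4
  alt125_N_5)
  (.node alt125_N_6
  alt125_N_7))
noncomputable def alt125 : TC :=
  ⟨[.l 0, .l 1, .l 2, .l 3, .l 4, .l 5, .l 6, .l 7, .l 8, .l 9, .l 10, .l 11, .l 12, .l 13, .l 14, .l 15, .l 16, .l 17, .l 18, .l 19, .l 20],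
    (nat_lit 3), (nat_lit 7), (nat_lit 0x13a464f835cb62547414c320440), (nat_lit 171), (nat_lit 7), (nat_lit 4), (nat_lit 32), (nat_lit 1), (nat_lit 77),
    get (nat_lit 10) (nat_lit 0x400c0400c02010030080400c02010030080400c02010030080400c02010030080400c02010030080400c02010030080400c02010030080400c02010030080400c02010030080400c020100300804010040100401004010040100300c0300c03), Tr.get alt125_N, get (nat_lit 20) (nat_lit 0x3ff003ff003ff003ff003ff003ff003ff003ff003ff003ff003ff003ff003ff003ff003ff003ff003ff003ff003ff003ff003ff003ff003ff003ff003ff003ff003ff003ff003ff003ff003ff003ff003ff003ff003ff003ff003ff003ff003ff003ff003ff003ff003ff003ff003ff003ff003ff003ff003ff003ff003ff003ff003ff003ff003ff003ff003ff003ff003ff003ff003ff003ff0000e0000d0000c0000b0000a00009000080000700006000050000400003000020000100000),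
    Tr.get3 alt125_F (nat_lit 16) (nat_lit 5), Tr.get3 alt125_T (nat_lit 3) (nat_lit 8), Tr.get alt125_P⟩

theorem alt125_head : alt125.headOK alt125_rels altI12 = true := by decide +kernel

theorem alt125_b0 : allFrom (nat_lit 0) (nat_lit 1) alt125.blockOK = true := by decide +kernel

def alt125_Q9 : Tr := .leaf (nat_lit 309938345822978)
theorem alt125_f9_0 : allFrom (nat_lit 0) (nat_lit 7) (alt125.finOK (nat_lit 7) (Tr.get3 alt125_Q9 (nat_lit 7) (nat_lit 7)) (nat_lit 9)) = true := by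
  decide +kernel

def alt125_Q7 : Tr := .leaf (nat_lit 956445747092)
theorem alt125_f7_0 : allFrom (nat_lit 0) (nat_lit 7) (alt125.finOK (nat_lit 7) (Tr.get3 alt125_Q7 (nat_lit 6) (nat_lit 7)) (nat_lit 7)) = true := by
  decide +kernel

def alt125_Q5 : Tr := .leaf (nat_lit 299457544261138)
theorem alt125_f5_0 : allFrom (nat_lit 0) (nat_lit 7) (alt125.finOK (nat_lit 7) (Tr.get3 alt125_Q5 (nat_lit 7) (nat_lit 7)) (nat_lit 5)) = true := by
  decide +kernel

def alt125_Q3 : Tr := .leaf (nat_lit 292197702995216)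
theorem alt125_f3_0 : allFrom (nat_lit 0) (nat_lit 7) (alt125.finOK (nat_lit 7) (Tr.get3 alt125_Q3 (nat_lit 7) (nat_lit 7)) (nat_lit 3)) = true := by
  decide +kernel

def alt125_Q1 : Tr := .leaf (nat_lit 283342228950030)
theorem alt125_f1_0 : allFrom (nat_lit 0) (nat_lit 7) (alt125.finOK (nat_lit 7) (Tr.get3 alt125_Q1 (nat_lit 7) (nat_lit 7)) (nat_lit 1)) = true := by
  decide +kernel

theorem alt125_blocks : ∀ t < alt125.k, alt125.blockOK t = true :=
  (of_allFrom_append of_lt_zero alt125_b0)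

/-- index 7 max 7 total 7 facts 36 | needed cosets 7 facts 36 steps 70 trivial 0 -/
theorem alt125_index {G : Type*} [Group G] {γ : ℕ → G} (hL : Lab γ altI12) (hr : ∀ t ∈ alt125_rels, t.ev γ = 1) {K : Subgroup G}
    (hK : ∀ t ∈ ([.l 1, .l 3, .l 5, .l 7] : List W), t.ev γ ∈ K) :
    K.relIndex (genW γ [.l 1, .l 3, .l 5, .l 7, .l 9]) ≠ 0 ∧ K.relIndex (genW γ [.l 1, .l 3, .l 5, .l 7, .l 9]) ≤ 7 :=
  TC.relIndex_le (D := alt125) (gens := [1, 3, 5, 7, 9]) hL (List.forall_mem_cons.2 ⟨hL.zero_mem K, hK⟩) hr alt125_head alt125_blocks (by decide) (by decide)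
   (List.forall_mem_cons.2 ⟨⟨_, (of_allFrom_append of_lt_zero alt125_f1_0)⟩,
    List.forall_mem_cons.2 ⟨⟨_, (of_allFrom_append of_lt_zero alt125_f3_0)⟩,
    List.forall_mem_cons.2 ⟨⟨_, (of_allFrom_append of_lt_zero alt125_f5_0)⟩,
    List.forall_mem_cons.2 ⟨⟨_, (of_allFrom_append of_lt_zero alt125_f7_0)⟩,
    List.forall_mem_cons.2 ⟨⟨_, (of_allFrom_append of_lt_zero alt125_f9_0)⟩,
    fun _ h => absurd h List.not_mem_nil⟩⟩⟩⟩⟩)

def alt126_rels : List W := [.pow (.l 1) 3, .pow (.l 3) 3, .pow (.l 5) 3, .pow (.l 7) 3, .pow (.mul (.l 1) (.l 3)) 2, .pow (.mul (.l 1) (.l 5)) 2, .pow (.mul (.l 1) (.l 7)) 2, .pow (.mul (.l 3) (.l 5)) 2, .pow (.mul (.l 3) (.l 7)) 2, .pow (.mul (.l 5) (.l 7)) 2]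
def alt126_F : Tr := .leaf (nat_lit 0x453d251d150d352a443c342c140c241a433b332b231b130a32292219120942393028201810082d311c210b113a4041380000)
def alt126_T : Tr := .leaf (nat_lit 181896)
def alt126_P : Tr := .leaf (nat_lit 0x1ff001ff001ff001ff001ff001ff001ff001ff001ff001ff001ff001ff001ff001ff001ff001ff5448580104aa2c2c0001d514160000a6058000122242400821118120040e88a09000042c2400004d120e0040c68c07002053458380102140e00000088050000904382800040218140001810500003)
def alt126_N_0 : Tr := .node (.node (.node (.node (.leaf (nat_lit 1057))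
  (.leaf (nat_lit 659)))
  (.leaf (nat_lit 232)))
  (.node (.leaf (nat_lit 131))
  (.leaf (nat_lit 14349))))
  (.node (.node (.leaf (nat_lit 232675))
  (.leaf (nat_lit 395)))
  (.node (.leaf (nat_lit 6149))
  (.leaf (nat_lit 496))))
def alt126_N_1 : Tr := .node (.node (.node (.node (.leaf (nat_lit 99425))
  (.leaf (nat_lit 628)))
  (.leaf (nat_lit 10249)))
  (.node (.leaf (nat_lit 100))
  (.leaf (nat_lit 527))))
  (.node (.node (.leaf (nat_lit 2049))
  (.leaf (nat_lit 364)))
  (.node (.leaf (nat_lit 263))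
  (.leaf (nat_lit 18449))))
def alt126_N_2 : Tr := .node (.node (.node (.node (.leaf (nat_lit 5285))
  (.leaf (nat_lit 20499)))
  (.leaf (nat_lit 329)))
  (.node (.leaf (nat_lit 4099))
  (.leaf (nat_lit 430))))
  (.node (.node (.leaf (nat_lit 65))
  (.leaf (nat_lit 12299)))
  (.node (.leaf (nat_lit 166))
  (.leaf (nat_lit 593))))
def alt126_N_3 : Tr := .node (.node (.node (.node (.leaf (nat_lit 230625))
  (.leaf (nat_lit 0)))
  (.leaf (nat_lit 298)))
  (.node (.leaf (nat_lit 197))
  (.leaf (nat_lit 16399))))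
  (.node (.node (.leaf (nat_lit 34))
  (.leaf (nat_lit 461)))
  (.node (.leaf (nat_lit 8199))
  (.leaf (nat_lit 562))))
def alt126_N_4 : Tr := .node (.node (.node (.node (.leaf (nat_lit 3171))
  (.leaf (nat_lit 659)))
  (.leaf (nat_lit 7176)))
  (.node (.leaf (nat_lit 131))
  (.leaf (nat_lit 430))))
  (.node (.node (.leaf (nat_lit 234725))
  (.leaf (nat_lit 395)))
  (.node (.leaf (nat_lit 166))
  (.leaf (nat_lit 15376))))
def alt126_N_5 : Tr := .node (.node (.node (.node (.leaf (nat_lit 165025))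
  (.leaf (nat_lit 19476)))
  (.leaf (nat_lit 298)))
  (.node (.leaf (nat_lit 3076))
  (.leaf (nat_lit 527))))
  (.node (.node (.leaf (nat_lit 34))
  (.leaf (nat_lit 11276)))
  (.node (.leaf (nat_lit 263))
  (.leaf (nat_lit 562))))
def alt126_N_6 : Tr := .node (.node (.node (.node (.leaf (nat_lit 7399))
  (.leaf (nat_lit 628)))
  (.leaf (nat_lit 329)))
  (.node (.leaf (nat_lit 100))
  (.leaf (nat_lit 13326))))
  (.node (.node (.leaf (nat_lit 65))
  (.leaf (nat_lit 364)))
  (.node (.leaf (nat_lit 5126))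
  (.leaf (nat_lit 593))))
def alt126_N_7 : Tr := .node (.node (.node (.node (.leaf (nat_lit 167075))
  (.leaf (nat_lit 0)))
  (.leaf (nat_lit 9226)))
  (.node (.leaf (nat_lit 197))
  (.leaf (nat_lit 496))))
  (.node (.node (.leaf (nat_lit 1026))
  (.leaf (nat_lit 461)))
  (.node (.leaf (nat_lit 232))
  (.leaf (nat_lit 17426))))
def alt126_N : Tr := .node (.node (.node alt126_N_0
  alt126_N_1)
  (.node alt126_N_2
  alt126_N_3))
  (.node (.node alt126_N_4
  alt126_N_5)
  (.node alt126_N_6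
  alt126_N_7))
noncomputable def alt126 : TC :=
  ⟨[.l 0, .l 1, .l 2, .l 3, .l 4, .l 5, .l 6, .l 7, .l 8, .l 9, .l 10, .l 11, .l 12, .l 13, .l 14, .l 15, .l 16, .l 17, .l 18, .l 19, .l 20],
    (nat_lit 3), (nat_lit 7), (nat_lit 0x13a464f835cb62547414c320440), (nat_lit 43), (nat_lit 6), (nat_lit 3), (nat_lit 32), (nat_lit 1), (nat_lit 72),
    get (nat_lit 10) (nat_lit 0x1003010030080400c02010030080400c02010030080400c02010030080400c02010030080400c02010030080400c02010030080400c02010030080400c02010030080400c02010030080400c0201004010040100400c0300c03), Tr.get alt126_N, get (nat_lit 20) (nat_lit 0x3ff003ff003ff003ff003ff003ff003ff003ff003ff003ff003ff003ff003ff003ff003ff003ff003ff003ff003ff003ff003ff003ff003ff003ff003ff003ff003ff003ff003ff003ff003ff003ff003ff003ff003ff003ff003ff003ff003ff003ff003ff003ff003ff003ff003ff003ff003ff003ff003ff003ff003ff003ff003ff003ff003ff003ff003ff003ff003ff003ff003ff003ff00009000080000700006000050000400003000020000100000),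
    Tr.get3 alt126_F (nat_lit 16) (nat_lit 5), Tr.get3 alt126_T (nat_lit 3) (nat_lit 8), Tr.get alt126_P⟩

theorem alt126_head : alt126.headOK alt126_rels altI12 = true := by decide +kernel

theorem alt126_b0 : allFrom (nat_lit 0) (nat_lit 1) alt126.blockOK = true := by decide +kernel

def alt126_Q7 : Tr := .leaf (nat_lit 52219106434)
theorem alt126_f7_0 : allFrom (nat_lit 0) (nat_lit 6) (alt126.finOK (nat_lit 6) (Tr.get3 alt126_Q7 (nat_lit 6) (nat_lit 7)) (nat_lit 7)) = true := by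
  decide +kernel

def alt126_Q5 : Tr := .leaf (nat_lit 12456732176)
theorem alt126_f5_0 : allFrom (nat_lit 0) (nat_lit 6) (alt126.finOK (nat_lit 6) (Tr.get3 alt126_Q5 (nat_lit 6) (nat_lit 7)) (nat_lit 5)) = true := by
  decide +kernel

def alt126_Q3 : Tr := .leaf (nat_lit 49550599566)
theorem alt126_f3_0 : allFrom (nat_lit 0) (nat_lit 6) (alt126.finOK (nat_lit 6) (Tr.get3 alt126_Q3 (nat_lit 6) (nat_lit 7)) (nat_lit 3)) = true := by
  decide +kernel

def alt126_Q1 : Tr := .leaf (nat_lit 47850562828)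
theorem alt126_f1_0 : allFrom (nat_lit 0) (nat_lit 6) (alt126.finOK (nat_lit 6) (Tr.get3 alt126_Q1 (nat_lit 6) (nat_lit 7)) (nat_lit 1)) = true := by
  decide +kernel

theorem alt126_blocks : ∀ t < alt126.k, alt126.blockOK t = true :=
  (of_allFrom_append of_lt_zero alt126_b0)

/-- index 6 max 6 total 6 facts 25 | needed cosets 6 facts 25 steps 44 trivial 0 -/
theorem alt126_index {G : Type*} [Group G] {γ : ℕ → G} (hL : Lab γ altI12) (hr : ∀ t ∈ alt126_rels, t.ev γ = 1) {K : Subgroup G}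
    (hK : ∀ t ∈ ([.l 1, .l 3, .l 5] : List W), t.ev γ ∈ K) :
    K.relIndex (genW γ [.l 1, .l 3, .l 5, .l 7]) ≠ 0 ∧ K.relIndex (genW γ [.l 1, .l 3, .l 5, .l 7]) ≤ 6 :=
  TC.relIndex_le (D := alt126) (gens := [1, 3, 5, 7]) hL (List.forall_mem_cons.2 ⟨hL.zero_mem K, hK⟩) hr alt126_head alt126_blocks (by decide) (by decide)
   (List.forall_mem_cons.2 ⟨⟨_, (of_allFrom_append of_lt_zero alt126_f1_0)⟩,
    List.forall_mem_cons.2 ⟨⟨_, (of_allFrom_append of_lt_zero alt126_f3_0)⟩,
    List.forall_mem_cons.2 ⟨⟨_, (of_allFrom_append of_lt_zero alt126_f5_0)⟩,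
    List.forall_mem_cons.2 ⟨⟨_, (of_allFrom_append of_lt_zero alt126_f7_0)⟩,
    fun _ h => absurd h List.not_mem_nil⟩⟩⟩⟩)

def alt127_rels : List W := [.pow (.l 1) 3, .pow (.l 3) 3, .pow (.l 5) 3, .pow (.mul (.l 1) (.l 3)) 2, .pow (.mul (.l 1) (.l 5)) 2, .pow (.mul (.l 3) (.l 5)) 2]
def alt127_F : Tr := .leaf (nat_lit 0x342c140c241a332b231b130a221912093229201810081c210b112a3031280000)
def alt127_T : Tr := .leaf (nat_lit 18056)
def alt127_P : Tr := .leaf (nat_lit 0x1ff001ff001ff001ff001ff001ff001ff001ff001ff001ff001ff001ff001ff001ff001ff001ff001ff001ff001ff001ff001ff001ff001ff34384801029a20240000c90900001283838010214241c0080c8070000004302800028214140001010500002)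
def alt127_N_0 : Tr := .node (.node (.node (.node (.leaf (nat_lit 1057))
  (.leaf (nat_lit 628)))
  (.leaf (nat_lit 10249)))
  (.node (.leaf (nat_lit 100))
  (.leaf (nat_lit 527))))
  (.node (.node (.leaf (nat_lit 2049))
  (.leaf (nat_lit 364)))
  (.node (.leaf (nat_lit 263))
  (.leaf (nat_lit 18449))))
def alt127_N_1 : Tr := .node (.node (.node (.node (.leaf (nat_lit 5285))
  (.leaf (nat_lit 0)))
  (.leaf (nat_lit 298)))
  (.node (.leaf (nat_lit 197))
  (.leaf (nat_lit 16399))))
  (.node (.node (.leaf (nat_lit 34))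
  (.leaf (nat_lit 461)))
  (.node (.leaf (nat_lit 8199))
  (.leaf (nat_lit 562))))
def alt127_N_2 : Tr := .node (.node (.node (.node (.leaf (nat_lit 3171))
  (.leaf (nat_lit 19476)))
  (.leaf (nat_lit 298)))
  (.node (.leaf (nat_lit 3076))
  (.leaf (nat_lit 527))))
  (.node (.node (.leaf (nat_lit 34))
  (.leaf (nat_lit 11276)))
  (.node (.leaf (nat_lit 263))
  (.leaf (nat_lit 562))))
def alt127_N_3 : Tr := .node (.node (.node (.node (.leaf (nat_lit 99425))
  (.leaf (nat_lit 0)))
  (.leaf (nat_lit 9226)))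
  (.node (.leaf (nat_lit 197))
  (.leaf (nat_lit 496))))
  (.node (.node (.leaf (nat_lit 1026))
  (.leaf (nat_lit 461)))
  (.node (.leaf (nat_lit 232))
  (.leaf (nat_lit 17426))))
def alt127_N : Tr := .node (.node (.node alt127_N_0
  (.node (.node (.node (.leaf (nat_lit 165025))
  (.leaf (nat_lit 395)))
  (.node (.leaf (nat_lit 6149))
  (.leaf (nat_lit 496))))
  (.node (.node (.leaf (nat_lit 131))
  (.leaf (nat_lit 14349)))
  (.node (.leaf (nat_lit 232))
  (.leaf (nat_lit 659))))))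
  (.node alt127_N_1
  (.node (.node (.node (.leaf (nat_lit 65))
  (.leaf (nat_lit 12299)))
  (.node (.leaf (nat_lit 166))
  (.leaf (nat_lit 593))))
  (.node (.node (.leaf (nat_lit 4099))
  (.leaf (nat_lit 430)))
  (.node (.leaf (nat_lit 329))
  (.leaf (nat_lit 20499)))))))
  (.node (.node alt127_N_2
  (.node (.node (.node (.leaf (nat_lit 167075))
  (.leaf (nat_lit 395)))
  (.node (.leaf (nat_lit 166))
  (.leaf (nat_lit 15376))))
  (.node (.node (.leaf (nat_lit 131))
  (.leaf (nat_lit 430)))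
  (.node (.leaf (nat_lit 7176))
  (.leaf (nat_lit 659))))))
  (.node alt127_N_3
  (.node (.node (.node (.leaf (nat_lit 65))
  (.leaf (nat_lit 364)))
  (.node (.leaf (nat_lit 5126))
  (.leaf (nat_lit 593))))
  (.node (.node (.leaf (nat_lit 100))
  (.leaf (nat_lit 13326)))
  (.node (.leaf (nat_lit 329))
  (.leaf (nat_lit 628)))))))
noncomputable def alt127 : TC :=
  ⟨[.l 0, .l 1, .l 2, .l 3, .l 4, .l 5, .l 6, .l 7, .l 8, .l 9, .l 10, .l 11, .l 12, .l 13, .l 14, .l 15, .l 16, .l 17, .l 18, .l 19, .l 20],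
    (nat_lit 3), (nat_lit 7), (nat_lit 0x13a464f835cb62547414c320440), (nat_lit 11), (nat_lit 5), (nat_lit 2), (nat_lit 32), (nat_lit 1), (nat_lit 68),
    get (nat_lit 10) (nat_lit 0x1003010030080400c02010030080400c02010030080400c02010030080400c02010030080400c02010030080400c02010030080400c02010030080400c02010030080400c02010030080400c02010040100300c03), Tr.get alt127_N, get (nat_lit 20) (nat_lit 0x3ff003ff003ff003ff003ff003ff003ff003ff003ff003ff003ff003ff003ff003ff003ff003ff003ff003ff003ff003ff003ff003ff003ff003ff003ff003ff003ff003ff003ff003ff003ff003ff003ff003ff003ff003ff003ff003ff003ff003ff003ff003ff003ff003ff003ff003ff003ff003ff003ff003ff003ff003ff003ff003ff003ff003ff003ff003ff003ff003ff003ff003ff000050000400003000020000100000),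
    Tr.get3 alt127_F (nat_lit 16) (nat_lit 5), Tr.get3 alt127_T (nat_lit 3) (nat_lit 8), Tr.get alt127_P⟩

theorem alt127_head : alt127.headOK alt127_rels altI12 = true := by decide +kernel

theorem alt127_b0 : allFrom (nat_lit 0) (nat_lit 1) alt127.blockOK = true := by decide +kernel

def alt127_Q5 : Tr := .leaf (nat_lit 32249282)
theorem alt127_f5_0 : allFrom (nat_lit 0) (nat_lit 5) (alt127.finOK (nat_lit 5) (Tr.get3 alt127_Q5 (nat_lit 5) (nat_lit 7)) (nat_lit 5)) = true := by
  decide +kernel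

def alt127_Q3 : Tr := .leaf (nat_lit 10185292)
theorem alt127_f3_0 : allFrom (nat_lit 0) (nat_lit 5) (alt127.finOK (nat_lit 5) (Tr.get3 alt127_Q3 (nat_lit 5) (nat_lit 7)) (nat_lit 3)) = true := by
  decide +kernel

def alt127_Q1 : Tr := .leaf (nat_lit 29610506)
theorem alt127_f1_0 : allFrom (nat_lit 0) (nat_lit 5) (alt127.finOK (nat_lit 5) (Tr.get3 alt127_Q1 (nat_lit 5) (nat_lit 7)) (nat_lit 1)) = true := by
  decide +kernel

theorem alt127_blocks : ∀ t < alt127.k, alt127.blockOK t = true :=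
  (of_allFrom_append of_lt_zero alt127_b0)

/-- index 5 max 5 total 5 facts 16 | needed cosets 5 facts 16 steps 24 trivial 0 -/
theorem alt127_index {G : Type*} [Group G] {γ : ℕ → G} (hL : Lab γ altI12) (hr : ∀ t ∈ alt127_rels, t.ev γ = 1) {K : Subgroup G}
    (hK : ∀ t ∈ ([.l 1, .l 3] : List W), t.ev γ ∈ K) :
    K.relIndex (genW γ [.l 1, .l 3, .l 5]) ≠ 0 ∧ K.relIndex (genW γ [.l 1, .l 3, .l 5]) ≤ 5 :=
  TC.relIndex_le (D := alt127) (gens := [1, 3, 5]) hL (List.forall_mem_cons.2 ⟨hL.zero_mem K, hK⟩) hr alt127_head alt127_blocks (by decide) (by decide)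
   (List.forall_mem_cons.2 ⟨⟨_, (of_allFrom_append of_lt_zero alt127_f1_0)⟩,
    List.forall_mem_cons.2 ⟨⟨_, (of_allFrom_append of_lt_zero alt127_f3_0)⟩,
    List.forall_mem_cons.2 ⟨⟨_, (of_allFrom_append of_lt_zero alt127_f5_0)⟩,
    fun _ h => absurd h List.not_mem_nil⟩⟩⟩)

def alt128_rels : List W := [.pow (.l 1) 3, .pow (.l 3) 3, .pow (.mul (.l 1) (.l 3)) 2]
def alt128_F : Tr := .leaf (nat_lit 0x98f161850524344040e247102230000)
def alt128_T : Tr := .leaf (nat_lit 228)
def alt128_P : Tr := .leaf (nat_lit 0x7fc007fc007fc007fc007fc007fc007fc007fc007fc007fc007fc007fc007fc007fc007fc007fc007fc007fc007fc007fc007fc007fc007fc007fc007fc007fc007fc007fc70a0e00404303800000210140000810500001)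
def alt128_N_0 : Tr := .node (.node (.node (.node (.leaf (nat_lit 1057))
  (.leaf (nat_lit 0)))
  (.leaf (nat_lit 9226)))
  (.node (.leaf (nat_lit 197))
  (.leaf (nat_lit 496))))
  (.node (.node (.leaf (nat_lit 1026))
  (.leaf (nat_lit 461)))
  (.node (.leaf (nat_lit 232))
  (.leaf (nat_lit 17426))))
def alt128_N_1 : Tr := .node (.node (.node (.node (.leaf (nat_lit 99425))
  (.leaf (nat_lit 395)))
  (.node (.leaf (nat_lit 166))
  (.leaf (nat_lit 15376))))
  (.node (.node (.leaf (nat_lit 131))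
  (.leaf (nat_lit 430)))
  (.node (.leaf (nat_lit 7176))
  (.leaf (nat_lit 659)))))
  (.node (.node (.node (.leaf (nat_lit 34))
  (.leaf (nat_lit 11276)))
  (.node (.leaf (nat_lit 263))
  (.leaf (nat_lit 562))))
  (.node (.node (.leaf (nat_lit 3076))
  (.leaf (nat_lit 527)))
  (.node (.leaf (nat_lit 298))
  (.leaf (nat_lit 19476)))))
def alt128_N_2 : Tr := .node (.node (.node (.node (.leaf (nat_lit 3171))
  (.leaf (nat_lit 395)))
  (.node (.leaf (nat_lit 6149))
  (.leaf (nat_lit 496))))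
  (.node (.node (.leaf (nat_lit 131))
  (.leaf (nat_lit 14349)))
  (.node (.leaf (nat_lit 232))
  (.leaf (nat_lit 659)))))
  (.node (.node (.node (.leaf (nat_lit 2049))
  (.leaf (nat_lit 364)))
  (.node (.leaf (nat_lit 263))
  (.leaf (nat_lit 18449))))
  (.node (.node (.leaf (nat_lit 100))
  (.leaf (nat_lit 527)))
  (.node (.leaf (nat_lit 10249))
  (.leaf (nat_lit 628)))))
def alt128_N_3 : Tr := .node (.node (.node (.node (.leaf (nat_lit 65))
  (.leaf (nat_lit 12299)))
  (.node (.leaf (nat_lit 166))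
  (.leaf (nat_lit 593))))
  (.node (.node (.leaf (nat_lit 4099))
  (.leaf (nat_lit 430)))
  (.node (.leaf (nat_lit 329))
  (.leaf (nat_lit 20499)))))
  (.node (.node (.node (.leaf (nat_lit 34))
  (.leaf (nat_lit 461)))
  (.node (.leaf (nat_lit 8199))
  (.leaf (nat_lit 562))))
  (.node (.node (.leaf (nat_lit 197))
  (.leaf (nat_lit 16399)))
  (.node (.leaf (nat_lit 298))
  (.leaf (nat_lit 0)))))
def alt128_N : Tr := .node (.node (.node alt128_N_0
  (.node (.node (.node (.leaf (nat_lit 65))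
  (.leaf (nat_lit 364)))
  (.node (.leaf (nat_lit 5126))
  (.leaf (nat_lit 593))))
  (.node (.node (.leaf (nat_lit 100))
  (.leaf (nat_lit 13326)))
  (.node (.leaf (nat_lit 329))
  (.leaf (nat_lit 628))))))
  alt128_N_1)
  (.node alt128_N_2
  alt128_N_3)
noncomputable def alt128 : TC :=
  ⟨[.l 0, .l 1, .l 2, .l 3, .l 4, .l 5, .l 6, .l 7, .l 8, .l 9, .l 10, .l 11, .l 12, .l 13, .l 14, .l 15, .l 16, .l 17, .l 18, .l 19, .l 20],
    (nat_lit 2), (nat_lit 7), (nat_lit 0x13a464f835cb62547414c320440), (nat_lit 3), (nat_lit 4), (nat_lit 1), (nat_lit 32), (nat_lit 1), (nat_lit 65),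
    get (nat_lit 10) (nat_lit 0x400c0400c02010030080400c02010030080400c02010030080400c02010030080400c02010030080400c02010030080400c02010030080400c02010030080400c02010030080400c02010030080400c03), Tr.get alt128_N, get (nat_lit 20) (nat_lit 0x3ff003ff003ff003ff003ff003ff003ff003ff003ff003ff003ff003ff003ff003ff003ff003ff003ff003ff003ff003ff003ff003ff003ff003ff003ff003ff003ff003ff003ff003ff003ff003ff003ff003ff003ff003ff003ff003ff003ff003ff003ff003ff003ff003ff003ff003ff003ff003ff003ff003ff003ff003ff003ff003ff003ff003ff003ff003ff003ff003ff003ff003ff000020000100000),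
    Tr.get3 alt128_F (nat_lit 14) (nat_lit 6), Tr.get3 alt128_T (nat_lit 2) (nat_lit 8), Tr.get alt128_P⟩

theorem alt128_head : alt128.headOK alt128_rels altI12 = true := by decide +kernel

theorem alt128_b0 : allFrom (nat_lit 0) (nat_lit 1) alt128.blockOK = true := by decide +kernel

def alt128_Q3 : Tr := .leaf (nat_lit 529730)
theorem alt128_f3_0 : allFrom (nat_lit 0) (nat_lit 4) (alt128.finOK (nat_lit 4) (Tr.get3 alt128_Q3 (nat_lit 5) (nat_lit 7)) (nat_lit 3)) = true := by
  decide +kernel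

def alt128_Q1 : Tr := .leaf (nat_lit 32456)
theorem alt128_f1_0 : allFrom (nat_lit 0) (nat_lit 4) (alt128.finOK (nat_lit 4) (Tr.get3 alt128_Q1 (nat_lit 4) (nat_lit 7)) (nat_lit 1)) = true := by
  decide +kernel

theorem alt128_blocks : ∀ t < alt128.k, alt128.blockOK t = true :=
  (of_allFrom_append of_lt_zero alt128_b0)

/-- index 4 max 4 total 4 facts 9 | needed cosets 4 facts 9 steps 10 trivial 0 -/
theorem alt128_index {G : Type*} [Group G] {γ : ℕ → G} (hL : Lab γ altI12) (hr : ∀ t ∈ alt128_rels, t.ev γ = 1) {K : Subgroup G}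
    (hK : ∀ t ∈ ([.l 1] : List W), t.ev γ ∈ K) :
    K.relIndex (genW γ [.l 1, .l 3]) ≠ 0 ∧ K.relIndex (genW γ [.l 1, .l 3]) ≤ 4 :=
  TC.relIndex_le (D := alt128) (gens := [1, 3]) hL (List.forall_mem_cons.2 ⟨hL.zero_mem K, hK⟩) hr alt128_head alt128_blocks (by decide) (by decide)
   (List.forall_mem_cons.2 ⟨⟨_, (of_allFrom_append of_lt_zero alt128_f1_0)⟩,
    List.forall_mem_cons.2 ⟨⟨_, (of_allFrom_append of_lt_zero alt128_f3_0)⟩,
    fun _ h => absurd h List.not_mem_nil⟩⟩)

def alt129_rels : List W := [.pow (.l 1) 3]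
def alt129_F : Tr := .leaf (nat_lit 0x14143081210000)
def alt129_T : Tr := .leaf (nat_lit 36)
def alt129_P : Tr := .leaf (nat_lit 0x7fc007fc007fc007fc007fc007fc007fc007fc007fc007fc007fc007fc007fc007fc007fc007fc007fc007fc007fc007fc007fc007fc007fc007fc007fc007fc007fc007fc007fc007fc007fc10500000)
def alt129_N_0 : Tr := .node (.node (.node (.node (.leaf (nat_lit 1057))
  (.leaf (nat_lit 395)))
  (.node (.leaf (nat_lit 166))
  (.leaf (nat_lit 15376))))
  (.node (.node (.leaf (nat_lit 131))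
  (.leaf (nat_lit 430)))
  (.node (.leaf (nat_lit 7176))
  (.leaf (nat_lit 659)))))
  (.node (.node (.node (.leaf (nat_lit 34))
  (.leaf (nat_lit 11276)))
  (.node (.leaf (nat_lit 263))
  (.leaf (nat_lit 562))))
  (.node (.node (.leaf (nat_lit 3076))
  (.leaf (nat_lit 527)))
  (.node (.leaf (nat_lit 298))
  (.leaf (nat_lit 19476)))))
def alt129_N_1 : Tr := .node (.node (.node (.node (.leaf (nat_lit 65))
  (.leaf (nat_lit 364)))
  (.node (.leaf (nat_lit 5126))
  (.leaf (nat_lit 593))))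
  (.node (.node (.leaf (nat_lit 100))
  (.leaf (nat_lit 13326)))
  (.node (.leaf (nat_lit 329))
  (.leaf (nat_lit 628)))))
  (.node (.node (.node (.leaf (nat_lit 1026))
  (.leaf (nat_lit 461)))
  (.node (.leaf (nat_lit 232))
  (.leaf (nat_lit 17426))))
  (.node (.node (.leaf (nat_lit 197))
  (.leaf (nat_lit 496)))
  (.node (.leaf (nat_lit 9226))
  (.leaf (nat_lit 0)))))
def alt129_N_2 : Tr := .node (.node (.node (.node (.leaf (nat_lit 65))
  (.leaf (nat_lit 12299)))
  (.node (.leaf (nat_lit 166))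
  (.leaf (nat_lit 593))))
  (.node (.node (.leaf (nat_lit 4099))
  (.leaf (nat_lit 430)))
  (.node (.leaf (nat_lit 329))
  (.leaf (nat_lit 20499)))))
  (.node (.node (.node (.leaf (nat_lit 34))
  (.leaf (nat_lit 461)))
  (.node (.leaf (nat_lit 8199))
  (.leaf (nat_lit 562))))
  (.node (.node (.leaf (nat_lit 197))
  (.leaf (nat_lit 16399)))
  (.node (.leaf (nat_lit 298))
  (.leaf (nat_lit 0)))))
def alt129_N_3 : Tr := .node (.node (.node (.node (.leaf (nat_lit 2049))
  (.leaf (nat_lit 364)))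
  (.node (.leaf (nat_lit 263))
  (.leaf (nat_lit 18449))))
  (.node (.node (.leaf (nat_lit 100))
  (.leaf (nat_lit 527)))
  (.node (.leaf (nat_lit 10249))
  (.leaf (nat_lit 628)))))
  (.node (.node (.node (.leaf (nat_lit 131))
  (.leaf (nat_lit 14349)))
  (.node (.leaf (nat_lit 232))
  (.leaf (nat_lit 659))))
  (.node (.node (.leaf (nat_lit 6149))
  (.leaf (nat_lit 496)))
  (.leaf (nat_lit 395))))
def alt129_N : Tr := .node (.node alt129_N_0
  alt129_N_1)
  (.node alt129_N_2
  alt129_N_3)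
noncomputable def alt129 : TC :=
  ⟨[.l 0, .l 1, .l 2, .l 3, .l 4, .l 5, .l 6, .l 7, .l 8, .l 9, .l 10, .l 11, .l 12, .l 13, .l 14, .l 15, .l 16, .l 17, .l 18, .l 19, .l 20],
    (nat_lit 2), (nat_lit 7), (nat_lit 0x13a464f835cb62547414c320440), (nat_lit 1), (nat_lit 3), (nat_lit 0), (nat_lit 32), (nat_lit 1), (nat_lit 63),
    get (nat_lit 10) (nat_lit 0x400c0400c02010030080400c02010030080400c02010030080400c02010030080400c02010030080400c02010030080400c02010030080400c02010030080400c02010030080400c020100300803), Tr.get alt129_N, get (nat_lit 20) (nat_lit 0x3ff003ff003ff003ff003ff003ff003ff003ff003ff003ff003ff003ff003ff003ff003ff003ff003ff003ff003ff003ff003ff003ff003ff003ff003ff003ff003ff003ff003ff003ff003ff003ff003ff003ff003ff003ff003ff003ff003ff003ff003ff003ff003ff003ff003ff003ff003ff003ff003ff003ff003ff003ff003ff003ff003ff003ff003ff003ff003ff003ff003ff003ff00000),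
    Tr.get3 alt129_F (nat_lit 14) (nat_lit 6), Tr.get3 alt129_T (nat_lit 2) (nat_lit 8), Tr.get alt129_P⟩

theorem alt129_head : alt129.headOK alt129_rels altI12 = true := by decide +kernel

theorem alt129_b0 : allFrom (nat_lit 0) (nat_lit 1) alt129.blockOK = true := by decide +kernel

def alt129_Q1 : Tr := .leaf (nat_lit 370)
theorem alt129_f1_0 : allFrom (nat_lit 0) (nat_lit 3) (alt129.finOK (nat_lit 3) (Tr.get3 alt129_Q1 (nat_lit 3) (nat_lit 8)) (nat_lit 1)) = true := by
  decide +kernel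

theorem alt129_blocks : ∀ t < alt129.k, alt129.blockOK t = true :=
  (of_allFrom_append of_lt_zero alt129_b0)

/-- index 3 max 3 total 3 facts 4 | needed cosets 3 facts 4 steps 2 trivial 0 -/
theorem alt129_index {G : Type*} [Group G] {γ : ℕ → G} (hL : Lab γ altI12) (hr : ∀ t ∈ alt129_rels, t.ev γ = 1) {K : Subgroup G}
    (hK : ∀ t ∈ ([] : List W), t.ev γ ∈ K) :
    K.relIndex (genW γ [.l 1]) ≠ 0 ∧ K.relIndex (genW γ [.l 1]) ≤ 3 :=
  TC.relIndex_le (D := alt129) (gens := [1]) hL (List.forall_mem_cons.2 ⟨hL.zero_mem K, hK⟩) hr alt129_head alt129_blocks (by decide) (by decide)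
   (List.forall_mem_cons.2 ⟨⟨_, (of_allFrom_append of_lt_zero alt129_f1_0)⟩,
    fun _ h => absurd h List.not_mem_nil⟩)

theorem card_alt12 {G : Type*} [Group G] {γ : ℕ → G} (hL : Lab γ altI12) (hr : ∀ t ∈ altT12, t.ev γ = 1) :
    Nat.card (genW γ [.l 1, .l 3, .l 5, .l 7, .l 9, .l 11, .l 13, .l 15, .l 17, .l 19]) ≠ 0 ∧ Nat.card (genW γ [.l 1, .l 3, .l 5, .l 7, .l 9, .l 11, .l 13, .l 15, .l 17, .l 19]) ≤ 12 * (11 * (10 * (9 * (8 * (7 * (6 * (5 * (4 * (3 * (1)))))))))) :=
  (card_le_of_relIndex (K := genW γ [.l 1, .l 3, .l 5, .l 7, .l 9, .l 11, .l 13, .l 15, .l 17]) (genW_le_of_subOK hL [] hr (by decide +kernel))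
    (alt120_index hL (rels_of_isIn hr (by decide +kernel)) fun _ => mem_genW γ)
    (card_le_of_relIndex (K := genW γ [.l 1, .l 3, .l 5, .l 7, .l 9, .l 11, .l 13, .l 15]) (genW_le_of_subOK hL [] hr (by decide +kernel))
    (alt121_index hL (rels_of_isIn hr (by decide +kernel)) fun _ => mem_genW γ)
    (card_le_of_relIndex (K := genW γ [.l 1, .l 3, .l 5, .l 7, .l 9, .l 11, .l 13]) (genW_le_of_subOK hL [] hr (by decide +kernel))
    (alt122_index hL (rels_of_isIn hr (by decide +kernel)) fun _ => mem_genW γ)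
    (card_le_of_relIndex (K := genW γ [.l 1, .l 3, .l 5, .l 7, .l 9, .l 11]) (genW_le_of_subOK hL [] hr (by decide +kernel))
    (alt123_index hL (rels_of_isIn hr (by decide +kernel)) fun _ => mem_genW γ)
    (card_le_of_relIndex (K := genW γ [.l 1, .l 3, .l 5, .l 7, .l 9]) (genW_le_of_subOK hL [] hr (by decide +kernel))
    (alt124_index hL (rels_of_isIn hr (by decide +kernel)) fun _ => mem_genW γ)
    (card_le_of_relIndex (K := genW γ [.l 1, .l 3, .l 5, .l 7]) (genW_le_of_subOK hL [] hr (by decide +kernel))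
    (alt125_index hL (rels_of_isIn hr (by decide +kernel)) fun _ => mem_genW γ)
    (card_le_of_relIndex (K := genW γ [.l 1, .l 3, .l 5]) (genW_le_of_subOK hL [] hr (by decide +kernel))
    (alt126_index hL (rels_of_isIn hr (by decide +kernel)) fun _ => mem_genW γ)
    (card_le_of_relIndex (K := genW γ [.l 1, .l 3]) (genW_le_of_subOK hL [] hr (by decide +kernel))
    (alt127_index hL (rels_of_isIn hr (by decide +kernel)) fun _ => mem_genW γ)
    (card_le_of_relIndex (K := genW γ [.l 1]) (genW_le_of_subOK hL [] hr (by decide +kernel))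
    (alt128_index hL (rels_of_isIn hr (by decide +kernel)) fun _ => mem_genW γ)
    (card_le_of_relIndex bot_le (alt129_index hL (rels_of_isIn hr (by decide +kernel)) (by simp)) card_bot_le))))))))))
def altC12_C : ℕ := (nat_lit 0xa98765432b1b098765432a1ba0876543291ba9076543281ba9806543271ba9870543261ba9876043251ba9876503241ba9876540231ba98765430211a98765430b22a98765431b03a98765401b24a98765031b25a98760431b26a98705431b27a98065431b28a90765431b29a08765431b2a098765431b2b054791a3268b9208761a453b2430875916ab52847960a13b3618259a470b81a75603294b41a30862579b6401827395ab124a7598063b7135048a269ba0632417859ba7498615230ba3106254879ba5308261497ba6504283179ba4796825103ba8601245397ba2491867530ba1978426305ba9538460712ba9476182305ba9638157024ba9124865703ba9038461752ba9205681347ba9351640287ba9724851063ba9813625047ba9864523170ba9842513760ba9832605417ba9821573640ba9850376241ba9804615327ba9872634501ba9870361425ba9875102643ba9871420356ba9874016352ba9873254061ba9876521304ba9876435102ba9876354021ba9876215043ba9876152430ba9876041352ba9876501342ba9876532410ba9876524310ba9876513042ba9876541032ba9876540231ba9876542013ba9876543102ba9876543021ba9876543210)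
noncomputable def altC12_code : ℕ → ℕ := get (nat_lit 48) altC12_C
def altC12_R0 : ℕ := (nat_lit 0x4e349c6aa6f0800000b033a94bb28f50800000b000f0575ade00700000b00004417dcbe0600000b0000000070840300000b0000000000b20200000b0000000000b10200000b0000000000040100000b0000000000010100000b01cd67f0ce1d0800000ab4d0cbc6aa6f090000000000cc2f5d0d0600000a5ce13879f6dd0900000a04f8d3fcd81d0800000a004216066e1d0700000a0342aced4e1d0800000a01a9809cce1d0800000a5ce866b0ce1d0900000a035f86d0ce1d0800000a000067e784c606000009034910eab98e0800000901a875db28f50800000001b6d391ddfe0800000900008bb6f806060000090000441dc34606000009000f0451a6c607000009000000bc84c6050000090007d7d284c6070000090007962b84c607000009000044bb9cef0600000801afc61f510a080000080341c42e0447080000080007d731ade0070000000000233cc28f06000008000000059e2f040000080000661d22ef06000008000f04ea3cef070000080000438f7cef06000008000003149cef05000008000023d529b0060000075cef742c1f060900000700085d83ea9c070000070000009e8c4d05000007000023445cbe06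000000000001d57c90050000070000437c95f006000007000000aec5b0050000070000233f19b006000007000044a8a9b006000007000000031ef504000006080701e3614008000006000003a2fb910500000600079595661a07000006000000a6ae930500000600000005cc840400000000000002d495040000060000000dcab5040000060000009e8af50500000600000005ccf50400000600000005821c0400000506752535ade40800000503420541959a080000050007d7cfc7e407000005000000a3e7d70500000500000137492b050000050000000019320300000000000002e0cc0400000500000000015c0200000500000000261c0300000500000000192f03000004002c8859784907000004000023e09cc80600000400000137301305000004000001dad8ca050000040000009e8ab90500000400000002ed460400000400000000193103000000000000000007010000040000000000af02000004000000000073020000030341c2fc7cf30800000300169770b93307000003000001e320ee050000030000441280c1060000030000000003200200000300000002ed0d0400000300000000000801000003000000000074020000000000000000030100000300000000000201000002b4d0cbc6aa6f0900000201a875db28f5080000020007d73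1ade007000002000023445cbe0600000200000005cc8404000002000000001932030000020000000019310300000200000000007402000002000000000000000000000000000000020100000b0000000000000000000a000000000000000000090000000000000000000800000000000000000007000000000000000000060000000000000000000500000000000000000004000000000000000000030000000000000000000200000000000101000001035f86d0ce1d080000010007962b84c607000001000003149cef05000001000044a8a9b00600000100000005ccf50400000100000000261c030000010000000000af020000010000000000030100000100000000000000000001)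
def altC12_D0 : ℕ := (nat_lit 0x88dffb62aab78180f456020016000156a64f01ba18604b54d4130000000000000000000000bf020000000000000000000000b6020000000000000000000000ad020000000000000000000000a40200000000000000000000009b02000000000000000000000092020000000000000000000000890200000000000000000000008002000000000000000000000077020000000000000000000000090200000000000000000000000000000000000000000000000000000000000000000000000000000000000000000000000000000000000000000000000000000000000000000000000000000000000000000000000000000000000000000000000000000000000000000000000000000000000000000000000000000000000000000000)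
noncomputable def altC12_L0 : Lv :=
  ⟨(nat_lit 66), (nat_lit 76), (nat_lit 11), (nat_lit 12), (nat_lit 11), get (nat_lit 15) (nat_lit 0xe005c80ba017602f005e80be017e030006080cb01),
    fun l x => get (nat_lit 80) altC12_R0 (Nat.add (Nat.mul x (nat_lit 10)) (Nat.sub l (nat_lit 66))), get (nat_lit 104) altC12_D0⟩
def altC12_R1 : ℕ := (nat_lit 0x900000000000000000a000000000000000008000f93d7e02800002025bbc950e07000000007e1cbd9a0c00000e0038ea96ec1800002000d20097283000004800000000000000007000000000000000002000000000000000018001863d0782800005000db1cf4c06000001095110a8c40e00000601660bcc501800002826de2ec3f8380000100000000000000000404ead501200e00000dba91553ab82000001400000000000000004000000000000000003)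
def altC12_D1 : ℕ := (nat_lit 0x8dd008cc0b00002b03060000004002000000180200000016020000000d02000000000200000001020000000302000000030200000000000000000000)
noncomputable def altC12_L1 : Lv :=
  ⟨(nat_lit 54), (nat_lit 56), (nat_lit 10), (nat_lit 11), (nat_lit 10), get (nat_lit 14) (nat_lit 0xd807201b807001d007101cc07501bc07701),
    fun l x => get (nat_lit 71) altC12_R1 (Nat.add (Nat.mul x (nat_lit 2)) (Nat.sub l (nat_lit 54))), get (nat_lit 40) altC12_D1⟩
def altC12_R2 : ℕ := (nat_lit 0x1c126242600c00000c005ab7b60500000400000000000000018017e145414000024000000000000000400000000000000080000000000000002000000000000000181adf9f300c00000200000000000000010288462383000003800000000000000140a1e17640c000010003bc6860500000208bb062d8300000281448a3b41800000c00b87a680a00001343346f6b07000000)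
def altC12_D2 : ℕ := (nat_lit 0x16f709abffd343c0000bb4629685800000000029020000000000380400000000006408000000000078100000000000d0200000000000e0400000000000808000000000000000000000000000)
noncomputable def altC12_L2 : Lv :=
  ⟨(nat_lit 44), (nat_lit 46), (nat_lit 9), (nat_lit 10), (nat_lit 9), get (nat_lit 14) (nat_lit 0x2701b006901a806801ac066019406d01),
    fun l x => get (nat_lit 65) altC12_R2 (Nat.add (Nat.mul x (nat_lit 2)) (Nat.sub l (nat_lit 44))), get (nat_lit 55) altC12_D2⟩
def altC12_R3 : ℕ := (nat_lit 0x140000000000000403341f01400000eab137b060000070e5f074140000215c817a0600000608c94fc14000010000000000000010000000000000180000610200000808afca41400000016c9840500000200000000000001c00000000000003008179c100000040000000000000000000000000000a951e9406000005)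
def altC12_D3 : ℕ := (nat_lit 0xbb4c7db06402010010411000000000046040000000007c08000000000a010000000000d02000000000020400000000008080000000000000000000000000)
noncomputable def altC12_L3 : Lv :=
  ⟨(nat_lit 35), (nat_lit 37), (nat_lit 8), (nat_lit 9), (nat_lit 8), get (nat_lit 14) (nat_lit 0x740620190063017805f018406001),
    fun l x => get (nat_lit 58) altC12_R3 (Nat.add (Nat.mul x (nat_lit 2)) (Nat.sub l (nat_lit 35))), get (nat_lit 51) altC12_D3⟩
def altC12_R4 : ℕ := (nat_lit 0x200000000000180000000000018000000000004f62500a00000c001d8080000144493020000010000000000002000000000000b127581400000c000000000000033e604000001067f608000009ec5481400001c019681800003fdaaa05000000)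
def altC12_D4 : ℕ := (nat_lit 0x410490002490f000000002bc0c0000000006008000000000781000000000090200000000006040000000000c080000000000000000000000000)
noncomputable def altC12_L4 : Lv :=
  ⟨(nat_lit 27), (nat_lit 29), (nat_lit 7), (nat_lit 8), (nat_lit 7), get (nat_lit 13) (nat_lit 0x6c06e03a01c80e007803601),
    fun l x => get (nat_lit 51) altC12_R4 (Nat.add (Nat.mul x (nat_lit 2)) (Nat.sub l (nat_lit 27))), get (nat_lit 51) altC12_D4⟩
def altC12_R5 : ℕ := (nat_lit 0x80000000000016280c0000180000000000306680c00000c1470300000605ac0c000010147030000019274100000140000000000400e4080000000180200000200000000000400000000005)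
def altC12_D5 : ℕ := (nat_lit 0x86be68800c000463e7080000000b0200000001020000000302000000030200000000000000000000)
noncomputable def altC12_L5 : Lv :=
  ⟨(nat_lit 20), (nat_lit 22), (nat_lit 6), (nat_lit 7), (nat_lit 6), get (nat_lit 13) (nat_lit 0x2603101800d406403401),
    fun l x => get (nat_lit 46) altC12_R5 (Nat.add (Nat.mul x (nat_lit 2)) (Nat.sub l (nat_lit 20))), get (nat_lit 40) altC12_D5⟩
def altC12_R6 : ℕ := (nat_lit 0x9d0300000500000000040000000002000000000300000000010000000005070100000331020000012e02000000000000000013020000043102000002)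
def altC12_D6 : ℕ := (nat_lit 0xb0009bc2b0e15d8a70e00000005408000000080200000000c080000000302000000000000000000000)
noncomputable def altC12_L6 : Lv :=
  ⟨(nat_lit 14), (nat_lit 16), (nat_lit 5), (nat_lit 6), (nat_lit 5), get (nat_lit 12) (nat_lit 0xe01d01c01b01a01),
    fun l x => get (nat_lit 40) altC12_R6 (Nat.add (Nat.mul x (nat_lit 2)) (Nat.sub l (nat_lit 14))), get (nat_lit 42) altC12_D6⟩
def altC12_R7 : ℕ := (nat_lit 0x3000000001000000002a02000003000000004b02000004401000001201000002101000000)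
noncomputable def altC12_L7 : Lv :=
  ⟨(nat_lit 8), (nat_lit 10), (nat_lit 4), (nat_lit 5), (nat_lit 4), get (nat_lit 12) (nat_lit 140836295678209),
    fun l x => get (nat_lit 36) altC12_R7 (Nat.add (Nat.mul x (nat_lit 2)) (Nat.sub l (nat_lit 8))), get (nat_lit 29) (nat_lit 0xc0b455100d000018100000c0800000000000000)⟩
def altC12_R8 : ℕ := (nat_lit 0x4000000000000000020100000200000000e0100000300000000901000001)
noncomputable def altC12_L8 : Lv :=
  ⟨(nat_lit 4), (nat_lit 6), (nat_lit 3), (nat_lit 4), (nat_lit 3), get (nat_lit 11) (nat_lit 3228044289),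
    fun l x => get (nat_lit 34) altC12_R8 (Nat.add (Nat.mul x (nat_lit 2)) (Nat.sub l (nat_lit 4))), get (nat_lit 23) (nat_lit 0x9a041400080800000000000)⟩
noncomputable def altC12_L9 : Lv :=
  ⟨(nat_lit 2), (nat_lit 3), (nat_lit 2), (nat_lit 3), (nat_lit 2), get (nat_lit 10) (nat_lit 525569),
    fun l x => get (nat_lit 2) (nat_lit 18) (Nat.add (Nat.mul x (nat_lit 1)) (Nat.sub l (nat_lit 2))), get (nat_lit 2) (nat_lit 8)⟩
noncomputable def altC12_lvs : List Lv := [altC12_L0, altC12_L1, altC12_L2, altC12_L3, altC12_L4, altC12_L5, altC12_L6, altC12_L7, altC12_L8, altC12_L9]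

theorem altC12_ok : chainOK (apT (nat_lit 12) (nat_lit 4) altC12_code) (imgT (nat_lit 4)) altC12_code (idc (nat_lit 12) (nat_lit 4)) (nat_lit 12) altC12_lvs = true := by
  decide +kernel

theorem altC12_eng {G X : Type*} [Group G] [MulAction G X] {pt : ℕ → X} (hf : Faithful G 12 pt) :
    Eng (G := G) (Rep 12 4 pt) (idc (nat_lit 12) (nat_lit 4)) altC12_code (apT (nat_lit 12) (nat_lit 4) altC12_code) (topC altC12_lvs) :=
  eng_perm (by decide) (by decide) hf _ _

/-- order 239500800, base [11, 10, 9, 8, 7, 6, 5, 4, 3, 2], orbit lengths [12, 11, 10, 9, 8, 7, 6, 5, 4, 3] -/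
theorem altC12_chain {G X : Type*} [Group G] [MulAction G X] {pt : ℕ → X} (hi : Inj 12 pt) (hf : Faithful G 12 pt)
    {gs : List G} (h : List.Forall₂ (Rep 12 4 pt) gs [205163983024161, 205163983012401, 205163982762561, 205163977781841, 205163882361441, 205162103976561, 205129623286401, 204545507734161, 194168866747041, 11649936536241]) :
    Chain (Rep 12 4 pt) altC12_code pt altC12_lvs (Subgroup.closure {s | s ∈ gs}) :=
  (altC12_eng hf).chain_list (img_rep hi) le_rfl h (by decide +kernel) (.of_chainOK altC12_ok)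

theorem altC12_ord : ordL altC12_lvs = 239500800 := by decide +kernel

/-- The relators of the alternating group of degree 12. -/
def altR12 : List W := [.pow (.l 0) 3, .pow (.l 1) 3, .pow (.l 2) 3, .pow (.l 3) 3, .pow (.l 4) 3, .pow (.l 5) 3, .pow (.l 6) 3, .pow (.l 7) 3, .pow (.l 8) 3, .pow (.l 9) 3, .pow (.mul (.l 0) (.l 1)) 2, .pow (.mul (.l 0) (.l 2)) 2, .pow (.mul (.l 0) (.l 3)) 2, .pow (.mul (.l 0) (.l 4)) 2, .pow (.mul (.l 0) (.l 5)) 2, .pow (.mul (.l 0) (.l 6)) 2, .pow (.mul (.l 0) (.l 7)) 2, .pow (.mul (.l 0) (.l 8)) 2, .pow (.mul (.l 0) (.l 9)) 2, .pow (.mul (.l 1) (.l 2)) 2, .pow (.mul (.l 1) (.l 3)) 2, .pow (.mul (.l 1) (.l 4)) 2, .pow (.mul (.l 1) (.l 5)) 2, .pow (.mul (.l 1) (.l 6)) 2, .pow (.mul (.l 1) (.l 7)) 2, .pow (.mul (.l 1) (.l 8)) 2, .pow (.mul (.l 1) (.l 9)) 2, .pow (.mul (.l 2) (.l 3)) 2, .pow (.mul (.l 2) (.l 4)) 2, .pow (.mul (.l 2) (.l 5)) 2, .pow (.mul (.l 2) (.l 6)) 2, .pow (.mul (.l 2) (.l 7)) 2, .pow (.mul (.l 2) (.l 8)) 2, .pow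 (.mul (.l 2) (.l 9)) 2, .pow (.mul (.l 3) (.l 4)) 2, .pow (.mul (.l 3) (.l 5)) 2, .pow (.mul (.l 3) (.l 6)) 2, .pow (.mul (.l 3) (.l 7)) 2, .pow (.mul (.l 3) (.l 8)) 2, .pow (.mul (.l 3) (.l 9)) 2, .pow (.mul (.l 4) (.l 5)) 2, .pow (.mul (.l 4) (.l 6)) 2, .pow (.mul (.l 4) (.l 7)) 2, .pow (.mul (.l 4) (.l 8)) 2, .pow (.mul (.l 4) (.l 9)) 2, .pow (.mul (.l 5) (.l 6)) 2, .pow (.mul (.l 5) (.l 7)) 2, .pow (.mul (.l 5) (.l 8)) 2, .pow (.mul (.l 5) (.l 9)) 2, .pow (.mul (.l 6) (.l 7)) 2, .pow (.mul (.l 6) (.l 8)) 2, .pow (.mul (.l 6) (.l 9)) 2, .pow (.mul (.l 7) (.l 8)) 2, .pow (.mul (.l 7) (.l 9)) 2, .pow (.mul (.l 8) (.l 9)) 2]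

/-- Letters with inverses. -/
def altL12 {Q : Type*} [Group Q] (x : ℕ → Q) (c : ℕ) : Q := (1 :: [x 0, (x 0)⁻¹, x 1, (x 1)⁻¹, x 2, (x 2)⁻¹, x 3, (x 3)⁻¹, x 4, (x 4)⁻¹, x 5, (x 5)⁻¹, x 6, (x 6)⁻¹, x 7, (x 7)⁻¹, x 8, (x 8)⁻¹, x 9, (x 9)⁻¹]).getD c 1

theorem altL12_lab {Q : Type*} [Group Q] (x : ℕ → Q) : Lab (altL12 x) altI12 := by
  refine Lab.of_list (show altI12 < 2 ^ (5 * 21) by decide +kernel) fun c hc => ?_
  change c < 21 at hc
  interval_cases c <;> first | exact mul_one _ | exact inv_mul_cancel _ | exact mul_inv_cancel _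

theorem altL12_rels {Q : Type*} [Group Q] {x : ℕ → Q} (hr : ∀ t ∈ altR12, t.ev x = 1) :
    ∀ t ∈ altT12, t.ev (altL12 x) = 1 := by
  simp only [altR12, altT12, List.forall_mem_cons, List.not_mem_nil, false_imp_iff, imp_true_iff] at hr ⊢
  exact hr

theorem exists_alt12 {Q : Type*} [Group Q] {x : ℕ → Q} (hr : ∀ t ∈ altR12, t.ev x = 1) (h0 : x 0 ≠ 1) :
    ∃ φ : alternatingGroup (Fin 12) →* Q, Function.Injective φ := by
  let y : ℕ → Equiv.Perm (Fin 12) := fun i => Equiv.swap 0 (finPt 12 (i + 2)) * Equiv.swap 0 1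
  have h1 : ∀ t ∈ altR12, t.ev y = 1 := by decide +kernel
  have h2 : Nat.card (genW (altL12 y) [.l 1, .l 3, .l 5, .l 7, .l 9, .l 11, .l 13, .l 15, .l 17, .l 19]) = 239500800 := by
    rw [genW_eq_closure]
    refine (altC12_chain (inj_finPt 12) (faithful_finPt 12) ?_).card.trans altC12_ord
    simp only [List.map, List.forall₂_cons, List.forall₂_nil_left_iff, and_true, Calc.Rep]
    decide +kernel
  have h3 : genW (altL12 y) [.l 1, .l 3, .l 5, .l 7, .l 9, .l 11, .l 13, .l 15, .l 17, .l 19] = alternatingGroup (Fin 12) :=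
    Subgroup.eq_of_le_of_card_ge (genW_le.2 (by simp only [Equiv.Perm.mem_alternatingGroup]; decide +kernel)) (by
      have := two_mul_nat_card_alternatingGroup (α := Fin 12)
      rw [Nat.card_perm, Nat.card_fin, show Nat.factorial 12 = 2 * 239500800 from rfl] at this
      omega)
  obtain ⟨φ, -, h⟩ := exists_hom_of_card_le (γ := altL12 y) (γ' := altL12 x) rfl rfl (card_alt12 ((altL12_lab y).prod (altL12_lab x))
    fun t k => by rw [W.ev_prod, altL12_rels h1 t k, altL12_rels hr t k]; rfl) h2.ge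
  have := alternatingGroup.isSimpleGroup (α := Fin 12) (by simp)
  let ψ := φ.comp (MulEquiv.subgroupCongr h3).symm.toMonoidHom
  refine ⟨ψ, (MonoidHom.ker_eq_bot_iff ψ).1 (ψ.normal_ker.eq_bot_or_eq_top.resolve_right fun e => h0 ?_)⟩
  have k : (W.l 1).ev (altL12 y) ∈ genW (altL12 y) [.l 1, .l 3, .l 5, .l 7, .l 9, .l 11, .l 13, .l 15, .l 17, .l 19] := mem_genW _ List.mem_cons_self
  exact (h (.l 1) k rfl).symm.trans (e ▸ Subgroup.mem_top _ : (⟨_, h3 ▸ k⟩ : alternatingGroup _) ∈ ψ.ker)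

end Cfsg.Lib.Big
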