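import Cfsg.Agent.Lib.Calc.Pres
import Cfsg.Prelude.Def_Spor_Fi22

set_option autoImplicit false
set_option maxRecDepth 1000000
set_option maxHeartbeats 0

namespace Cfsg.Lib.Calc.Fi22

/-- The letters. -/
def L : List (Spor.Fi22.Gen × Bool) := [(.a, false), (.b, false), (.c, false), (.d, false), (.e, false), (.f, false), (.g, false), (.h, false), (.i, false)]
/-- The letter of a generator. -/
def lab : Spor.Fi22.Gen → ℕ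
  | .a => 1
  | .b => 2
  | .c => 3
  | .d => 4
  | .e => 5
  | .f => 6
  | .g => 7
  | .h => 8
  | .i => 9
/-- Inverse letters. -/
def iv : ℕ := (nat_lit 325702574508064)
/-- The Coxeter relators. -/
def cox : List W := [.pow (.mul (.l 1) (.l 2)) 3, .pow (.mul (.l 1) (.l 3)) 2, .pow (.mul (.l 1) (.l 4)) 2, .pow (.mul (.l 1) (.l 5)) 2, .pow (.mul (.l 1) (.l 6)) 2, .pow (.mul (.l 1) (.l 7)) 2, .pow (.mul (.l 1) (.l 8)) 2, .pow (.mul (.l 1) (.l 9)) 2, .pow (.mul (.l 2) (.l 3)) 3, .pow (.mul (.l 2) (.l 4)) 2, .pow (.mul (.l 2) (.l 5)) 2, .pow (.mul (.l 2) (.l 6)) 2, .pow (.mul (.l 2) (.l 7)) 2, .pow (.mul (.l 2) (.l 8)) 2, .pow (.mul (.l 2) (.l 9)) 2, .pow (.mul (.l 3) (.l 4)) 3, .pow (.mul (.l 3) (.l 5)) 2, .pow (.mul (.l 3) (.l 6)) 2, .pow (.mul (.l 3) (.l 7)) 2, .pow (.mul (.l 3) (.l 8)) 2, .pow (.mul (.l 3) (.l 9)) 2, .pow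 (.mul (.l 4) (.l 5)) 3, .pow (.mul (.l 4) (.l 6)) 2, .pow (.mul (.l 4) (.l 7)) 2, .pow (.mul (.l 4) (.l 8)) 3, .pow (.mul (.l 4) (.l 9)) 2, .pow (.mul (.l 5) (.l 6)) 3, .pow (.mul (.l 5) (.l 7)) 2, .pow (.mul (.l 5) (.l 8)) 2, .pow (.mul (.l 5) (.l 9)) 2, .pow (.mul (.l 6) (.l 7)) 3, .pow (.mul (.l 6) (.l 8)) 2, .pow (.mul (.l 6) (.l 9)) 2, .pow (.mul (.l 7) (.l 8)) 2, .pow (.mul (.l 7) (.l 9)) 2, .pow (.mul (.l 8) (.l 9)) 3]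
/-- The further relators. -/
def ext : List W := [.pow (.mul (.mul (.mul (.mul (.mul (.mul (.mul (.mul (.l 4) (.l 3)) (.l 2)) (.l 4)) (.l 5)) (.l 6)) (.l 4)) (.l 8)) (.l 9)) 10, .pow (.mul (.mul (.mul (.mul (.mul (.mul (.l 1) (.l 2)) (.l 3)) (.l 4)) (.l 5)) (.l 6)) (.l 8)) 9, .pow (.mul (.mul (.mul (.mul (.mul (.mul (.l 2) (.l 3)) (.l 4)) (.l 5)) (.l 6)) (.l 7)) (.l 8)) 9]
/-- All relators. -/
def rels : List W := cox ++ ext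
/-- The letters in the presented group. -/
def gam : ℕ → Spor.Fi22 := presLet Spor.Fi22.edges Spor.Fi22.extra L

theorem data : PresData Spor.Fi22.edges Spor.Fi22.extra L lab iv cox ext :=
  ⟨fun x => by cases x <;> rfl, by decide +kernel, by decide +kernel, by decide +kernel, rfl, by decide +kernel,
    by decide +kernel⟩

theorem isLab : Lab gam iv := data.isLab
theorem rels_hold : ∀ t ∈ rels, t.ev gam = 1 := data.rels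

/-- The relators without the last one: they define the double cover. -/
def relsY : List W := [.pow (.mul (.l 1) (.l 2)) 3, .pow (.mul (.l 1) (.l 3)) 2, .pow (.mul (.l 1) (.l 4)) 2, .pow (.mul (.l 1) (.l 5)) 2, .pow (.mul (.l 1) (.l 6)) 2, .pow (.mul (.l 1) (.l 7)) 2, .pow (.mul (.l 1) (.l 8)) 2, .pow (.mul (.l 1) (.l 9)) 2, .pow (.mul (.l 2) (.l 3)) 3, .pow (.mul (.l 2) (.l 4)) 2, .pow (.mul (.l 2) (.l 5)) 2, .pow (.mul (.l 2) (.l 6)) 2, .pow (.mul (.l 2) (.l 7)) 2, .pow (.mul (.l 2) (.l 8)) 2, .pow (.mul (.l 2) (.l 9)) 2, .pow (.mul (.l 3) (.l 4)) 3, .pow (.mul (.l 3) (.l 5)) 2, .pow (.mul (.l 3) (.l 6)) 2, .pow (.mul (.l 3) (.l 7)) 2, .pow (.mul (.l 3) (.l 8)) 2, .pow (.mul (.l 3) (.l 9)) 2, .pow (.mul (.l 4) (.l 5)) 3, .pow (.mul (.l 4) (.l 6)) 2, .pow (.mul (.l 4) (.l 7)) 2, .pow (.mul (.l 4) (.l 8)) 3, .pow (.mul (.l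 4) (.l 9)) 2, .pow (.mul (.l 5) (.l 6)) 3, .pow (.mul (.l 5) (.l 7)) 2, .pow (.mul (.l 5) (.l 8)) 2, .pow (.mul (.l 5) (.l 9)) 2, .pow (.mul (.l 6) (.l 7)) 3, .pow (.mul (.l 6) (.l 8)) 2, .pow (.mul (.l 6) (.l 9)) 2, .pow (.mul (.l 7) (.l 8)) 2, .pow (.mul (.l 7) (.l 9)) 2, .pow (.mul (.l 8) (.l 9)) 3, .pow (.mul (.mul (.mul (.mul (.mul (.mul (.mul (.mul (.l 4) (.l 3)) (.l 2)) (.l 4)) (.l 5)) (.l 6)) (.l 4)) (.l 8)) (.l 9)) 10, .pow (.mul (.mul (.mul (.mul (.mul (.mul (.l 1) (.l 2)) (.l 3)) (.l 4)) (.l 5)) (.l 6)) (.l 8)) 9]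
/-- Letters `c, d, e, f, g, h, i, x = (abcdeh)^5` for the centralizer of `a`. -/
def labs : List W := [.l 0, .l 3, .l 4, .l 5, .l 6, .l 7, .l 8, .l 9, .pow (.mul (.mul (.mul (.mul (.mul (.l 1) (.l 2)) (.l 3)) (.l 4)) (.l 5)) (.l 8)) 5]
/-- Inverses of the new letters. -/
def iv2 : ℕ := (nat_lit 9043225708576)
/-- Relators for the new letters. -/
def rels2 : List W := [.pow (.mul (.l 1) (.l 2)) 3, .pow (.mul (.l 1) (.l 3)) 2, .pow (.mul (.l 1) (.l 4)) 2, .pow (.mul (.l 1) (.l 5)) 2, .pow (.mul (.l 1) (.l 6)) 2, .pow (.mul (.l 1) (.l 7)) 2, .pow (.mul (.l 1) (.l 8)) 2, .pow (.mul (.l 2) (.l 3)) 3, .pow (.mul (.l 2) (.l 4)) 2, .pow (.mul (.l 2) (.l 5)) 2, .pow (.mul (.l 2) (.l 6)) 3, .pow (.mul (.l 2) (.l 7)) 2, .pow (.mul (.l 2) (.l 8)) 2, .pow (.mul (.l 3) (.l 4)) 3, .pow (.mul (.l 3) (.l 5)) 2, .pow (.mul (.l 3) (.l 6)) 2,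 .pow (.mul (.l 3) (.l 7)) 2, .pow (.mul (.l 3) (.l 8)) 2, .pow (.mul (.l 4) (.l 5)) 3, .pow (.mul (.l 4) (.l 6)) 2, .pow (.mul (.l 4) (.l 7)) 2, .pow (.mul (.l 4) (.l 8)) 3, .pow (.mul (.l 5) (.l 6)) 2, .pow (.mul (.l 5) (.l 7)) 2, .pow (.mul (.l 5) (.l 8)) 2, .pow (.mul (.l 6) (.l 7)) 3, .pow (.mul (.l 6) (.l 8)) 2, .pow (.mul (.l 7) (.l 8)) 3, .mul (.mul (.mul (.mul (.mul (.mul (.mul (.mul (.mul (.mul (.mul (.mul (.mul (.mul (.mul (.mul (.mul (.mul (.mul (.mul (.mul (.mul (.mul (.l 2) (.l 3)) (.l 4)) (.l 7)) (.l 6)) (.l 2)) (.l 3)) (.l 8)) (.l 4)) (.l 7)) (.l 6)) (.l 2)) (.l 3)) (.l 8)) (.l 4)) (.l 7)) (.l 8)) (.l 6)) (.l 7)) (.l 2)) (.l 3)) (.l 4)) (.l 8)) (.l 6), .pow (.mul (.mul (.mul (.mul (.mul (.mul (.mul (.mul (.mul (.l 2) (.l 3)) (.l 4)) (.l 8)) (.l 7)) (.l 6)) (.l 7)) (.l 8)) (.l 4)) (.l 3)) 3, .mul (.pow (.mul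 (.mul (.mul (.mul (.mul (.mul (.l 1) (.l 2)) (.l 3)) (.l 4)) (.l 5)) (.l 6)) (.l 7)) 9) (.inv (.pow (.mul (.mul (.mul (.mul (.mul (.l 3) (.l 8)) (.l 6)) (.l 7)) (.l 5)) (.l 4)) 5))]
/-- Relators for the new letters in `Fi22`. -/
def rels3 : List W := rels2 ++ [.pow (.mul (.mul (.mul (.mul (.mul (.mul (.l 1) (.l 2)) (.l 3)) (.l 4)) (.l 5)) (.l 6)) (.l 7)) 9]

end Cfsg.Lib.Calc.Fi22
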