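import Cfsg.Agent.Lib.Calc.TMStd
import Cfsg.Agent.Lib.Calc.Fi22PT

set_option autoImplicit false
set_option maxRecDepth 1000000
set_option maxHeartbeats 0

namespace Cfsg.Lib.Calc.Fi22

def pcs : List W := [wd [2, 3, 4, 8, 5, 6, 3, 4, 5, 1, 2, 3, 4, 8, 9, 6, 4, 5, 3, 4, 8, 4, 5, 3, 4, 2, 1, 3, 2, 1, 4, 6], wd [8, 4, 5, 2, 3, 4, 8, 9, 8, 4, 5, 3, 4, 8, 1, 2, 3, 4, 3, 1, 2, 1], wd [5, 4, 8, 9, 5, 4, 8, 2, 3, 4, 5, 1, 2, 3, 4, 8, 4, 5, 6, 4, 5, 4, 2, 3], wd [2, 3, 4, 5, 1, 2, 3, 4, 8, 9, 8, 4, 5, 1, 2, 3, 4, 8, 4, 5, 4], wd [8, 3, 4, 5, 2, 3, 4, 8, 9, 5, 3, 4, 8, 3, 4, 5, 2, 3, 4, 2, 1], wd [8, 9, 3, 4, 8, 5, 6, 4, 5, 2, 3, 4, 8, 9, 4, 5, 3, 4, 8, 5, 6, 4, 5, 3, 4, 2, 3, 2], wd [6, 2, 3, 4, 5, 1, 2, 3, 4, 8, 9, 8, 4, 5, 1, 2, 3, 4, 8, 3, 4, 5, 6], wd [5, 4, 8, 3, 4, 5, 2, 3, 4, 8, 9, 8, 6, 4, 5, 1, 2, 3, 4, 8, 5, 3, 4, 2, 3, 2, 1, 2, 5, 6, 5, 4, 3, 2, 1, 9, 8, 4, 3, 2, 1, 5], wd [4, 8, 5, 6, 3, 4, 5, 1, 2, 3, 4, 8, 9, 8, 4, 5, 3, 4, 8, 5, 6, 4,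 5, 4, 3, 2, 1, 2, 3, 2, 4, 5, 6, 8, 4, 3, 5, 4, 8, 9, 8, 4, 3, 2, 5, 4, 3, 6, 5, 8]]
def pcv (i j : ℕ) : W := (([[.l 0, .mul (.l 2) (.mul (.inv (.l 4)) (.mul (.l 6) (.mul (.inv (.l 7)) (.mul (.inv (.l 8)) (.l 9))))), .mul (.l 3) (.mul (.inv (.l 4)) (.mul (.l 8) (.l 9))), .mul (.l 4) (.mul (.l 6) (.inv (.l 8))), .mul (.l 5) (.mul (.l 6) (.mul (.l 7) (.mul (.l 8) (.inv (.l 9))))), .l 6, .mul (.l 7) (.mul (.inv (.l 8)) (.inv (.l 9))), .l 8, .l 9],
  [.l 0, .l 0, .mul (.l 3) (.mul (.l 4) (.inv (.l 5))), .l 4, .l 5, .mul (.l 6) (.inv (.l 9)), .mul (.l 7) (.l 9), .mul (.l 8) (.l 9), .l 9],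
  [.l 0, .l 0, .mul (.l 6) (.mul (.l 7) (.mul (.inv (.l 8)) (.l 9))), .mul (.l 4) (.mul (.inv (.l 7)) (.mul (.l 8) (.inv (.l 9)))), .mul (.l 5) (.mul (.l 6) (.l 8)), .mul (.l 6) (.mul (.l 8) (.inv (.l 9))), .mul (.l 7) (.mul (.inv (.l 8)) (.inv (.l 9))), .mul (.l 8) (.l 9), .l 9],
  [.l 0, .l 0, .l 0, .l 0, .l 5, .l 6, .mul (.l 7) (.inv (.l 9)), .l 8, .l 9],
  [.l 0, .l 0, .l 0, .l 0, .l 0, .mul (.l 6) (.inv (.l 9)), .l 7, .l 8, .l 9],
  [.l 0, .l 0, .l 0, .l 0, .l 0, .l 0, .l 7, .l 8, .l 9],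
  [.l 0, .l 0, .l 0, .l 0, .l 0, .l 0, .l 0, .l 8, .l 9],
  [.l 0, .l 0, .l 0, .l 0, .l 0, .l 0, .l 0, .l 0, .l 9],
  [.l 0, .l 0, .l 0, .l 0, .l 0, .l 0, .l 0, .l 0, .l 0]] : List (List W)).getD i []).getD j (.l 0)
noncomputable def pcF (k : ℕ) : Bool := pcOK (fun t => ptab.baseOK iv low (t.subst (.l 0 :: pcs))) 3 pcv (Nat.div k 9) (Nat.mod k 9)
theorem pc_0 : allFrom (nat_lit 0) (nat_lit 81) (pcF) = true := by decide +kernel
theorem pc_ok : ∀ i < 9, ∀ j < 9, pcOK (fun t => ptab.baseOK iv low (t.subst (.l 0 :: pcs))) 3 pcv i j = true :=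
  of_flat (m := 9) (show ∀ k < 81, pcF k = true from (of_allFrom_append of_lt_zero pc_0))
def orb0 : ℕ := (nat_lit 0xa00000000000000000000000000000000000000000800020000000000000000000000000000000000000040000000000000000000000000000000000000080000000000000000000000000000000000600000000000000000000000a00000000000004c0000000000000000000008000000120000000000000324000000000000102020000000000040040030)
def orb1 : ℕ := (nat_lit 0x200000000000000000000000000000000000000000000000084000000000000000000000000000000000000000000050001000000000000000000000000000000000000403015080000000000000000000040000000000030828120000000000000000030000000b08100a000000000000060000000190320000000000800200c0800000001000131c000004000100000200004000a0200a00410806021504280a1300088602)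
def orb2 : ℕ := (nat_lit 0x1f0000000000000000000000000000000000000000000000d7b5800000000000000000000000000000000000000004abfde00000000000000000000000000000000000018c7caf4000000000000000000001780000000170c797ec00000000000000037c00000010f30ff5000000000000798000211e4fcc000000001300003b3f78000001e80104e3c00009804eff8005e0409b005810f503a281d81c627b15d5e43fb379cd)
def orb3 : ℕ := (nat_lit 0x4001a0040800109000c04000002000200a0004010001c008080000091200024200000088100000800100001001008000800000000004008c0000020000111000000000008000000820200800101004020000000200450401004000002208000000000280000000204000400202020400002000002000804801020000040200080000001000000010400000010608000002000000000002240040080000000000800000100000010000080100000000080000400200001004000200000000010000800004200080a000000000008000080200001000008000000100002000200102008000000000040000000800000000000201000800400400000000000004001004000000000000200404000000000000000000040100081001000a800000000200008000000010000008004008000000010150000004020020008c0108000000060a900000000a40008002100480810020804000000000001801040001040001000088002000000000004030084080420100002040418000000018402310400000280402000000002008000041000000058800000200a0000608001000004400000000080401000010000000800000000000000000)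
def orb4 : ℕ := (nat_lit 0x2000006800105066239048888984552404087c23a108e0500103108064ccad125048813062130111400c2088a000110450480408cc8a160501d208840b18c4fc060020801400283870000d012c68400802138b1a01000810865808e051c44c60204000040c014881c240d0d45a0d000022504806b800048801078054003d02000002800041d0a000618d161008000900910c0007301000c8120200100035800000000142d3a380021d5000008c80110260043380118404802c100000060080010953a430001341007440005b0060011640dbc100401000000010402888e88023881c114000483e1331408111181080080011000150064261300050080211481a40100001400000240c1080025521a10018086000c08420a64450029010000080094293b0530000507000044a40011a08801085820600008890d5a004000000000000064009288577425a650040828085632810290300000190d2120601f44a004001280012a409200100000b942002056018604808e101260008000848000e01140005343004000019800a290200620c0000014234201c840002104802aa0000840008400b00000008800000000000080200800000000)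
def orb5 : ℕ := (nat_lit 0x3dbffe597bf6fae90dc63b3777679aad9fb57839c4ef703af7e7cef7f0a1352c98fb77ec71cecfee6bfe3df765fefe6fba7b7fbf73375a9f23e2df75bf4e62a03f9ffdf7fe3ffd7c70dfdf27ed296bfb7ddec74e5defba7af69a3f71fac1b339fdfbfffd3f3feb77c39bf2b2b85d2dfbfddadb7f945fff3737ee85fabff82ddff7ffd7ffebe2f5ffe9a72e9efe79f76ff6ed3fff8cfefff15adf9ff6fffca7ffff7fffebc2c5c7fede2af7fef737feefd1ffbc87fce7bfa7f93efdffff9ff7feef6a45bcfbdecb6f58bbfffa4ff97fee93f043efebfeff7ffffefafd775177ddc67c3e6bfffb7c1ec8ebf7eee67ef7ff7ffeedfeeaf79b99e8fffaff7fdeeb7a5beefbffebfffffdbf1ef3fbdaade5effe4079fff3f3bcf593aafed6f47ffff7ff69d6c47acffffae82000335bbfe65f77fef6a68f9ffff374f285ff33fef7f3040009916f6d77a8819a592ff9e7d37728cd5e7d2a00820026f2c6de9be0ba5bfbfee80776d59f6c84204001068df79f29bc78f80051afac04040000633fdc0faebf8004b8dc00200067df556f8038dd04000263dcbc0436000018f36045100033b81f38004703ce00740c6601c1088042000080400000)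
def cd : CD := ⟨[(orb0, 4, wd [3, 1, 2]),
  (orb1, 1, wd [2]),
  (orb2, 0, wd []),
  (orb3, 71, wd [4, 8, 7, 6, 5, 4, 3, 1, 2]),
  (orb4, 35, wd [8, 7, 6, 5, 4, 3, 2]),
  (orb5, 22, wd [7, 6, 5, 4, 3, 2])],
  [(1, 1, 0), (2, 2, 1), (4, 4, 2), (5, 5, 4), (1, 4, 5), (3, 3, 1), (2, 3, 4), (2, 4, 3)], [(1, 27), (3, 108)], [0], [7, 11]⟩
def pws : List W := [pcs.getD 8 (.l 0), pcs.getD 8 (.l 0), pcs.getD 7 (.l 0), pcs.getD 7 (.l 0), pcs.getD 6 (.l 0), pcs.getD 6 (.l 0), pcs.getD 5 (.l 0), pcs.getD 5 (.l 0), pcs.getD 4 (.l 0), pcs.getD 4 (.l 0), pcs.getD 3 (.l 0), pcs.getD 3 (.l 0), pcs.getD 2 (.l 0), pcs.getD 2 (.l 0), pcs.getD 1 (.l 0), pcs.getD 1 (.l 0), pcs.getD 0 (.l 0), pcs.getD 0 (.l 0)]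
theorem cd_orb_0 : allFrom (nat_lit 0) (nat_lit 6) (cd.orbOK net 3510 iv pws 1 0 (ptab.mapOK iv)) = true := by decide +kernel
theorem cd_orb : ∀ i < 6, cd.orbOK net 3510 iv pws 1 0 (ptab.mapOK iv) i = true := (of_allFrom_append of_lt_zero cd_orb_0)
theorem cd_imp : cd.imps.all (cd.impOK net 3510 iv) = true := by decide +kernel
theorem cd_fin : cd.finOK net 3510 iv 13 0 = true := by decide +kernel
def us0 : List (W × ℕ) := [(wd [], 0),
  (wd [1, 2], 2),
  (wd [2, 3, 1, 2], 6),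
  (wd [3, 4, 2, 3, 1, 2], 16),
  (wd [4, 5, 3, 4, 2, 3, 1, 2], 40),
  (wd [5, 6, 4, 5, 3, 4, 2, 3, 1, 2], 88),
  (wd [6, 7, 5, 6, 4, 5, 3, 4, 2, 3, 1, 2], 154),
  (wd [4, 8, 3, 4, 2, 3, 1, 2], 43),
  (wd [8, 9, 4, 8, 3, 4, 2, 3, 1, 2], 92)]
theorem us0_map : (us0.all fun a => ptab.mapOK iv a.1 0 a.2 && blt a.2 3510) = true := by decide +kernel
theorem us0_r_0 : allFrom (nat_lit 0) (nat_lit 39) (fun j => ptab.baseOK iv low ((rels.getD j (.l 0)).subst (tup us0))) = true := by decide +kernel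
theorem us0_rels : ∀ t ∈ rels, ptab.baseOK iv low (t.subst (tup us0)) = true :=
  forall_mem_of_getD (d := .l 0) (n := 39) rfl (of_allFrom_append of_lt_zero us0_r_0)
theorem us0_in : ([1, 2, 3, 4, 5, 6, 8, 9].all fun i => blt 0 i && blt (i - 1) 9 && bit (cd.un 7) (us0.getD (i - 1) (.l 0, 0)).2) = true := by decide +kernel
def us1 : List (W × ℕ) := [(wd [4, 8, 9, 5, 4, 8, 5, 6, 3, 4, 5, 1, 2, 3, 4, 8, 9, 6, 3, 4, 5, 2, 3, 4, 8, 7, 6, 5, 4, 3, 2], 3344),
  (wd [2, 3, 4, 8, 9, 6, 5, 3, 4, 8, 7, 6, 5, 4, 3, 1, 2], 518),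
  (wd [4, 8, 9, 4, 5, 3, 4, 8, 7, 6, 5, 4, 3, 2], 283),
  (wd [8, 6, 5, 4, 3, 1, 2], 32),
  (wd [4, 8, 7, 5, 6, 4, 5, 3, 4, 8, 9, 4, 8, 5, 6, 4, 5, 2, 3, 4, 8, 7, 6, 5, 4, 3, 2], 2497),
  (wd [4, 8, 5, 4, 3, 1, 2], 33),
  (wd [8, 9, 2, 3, 4, 8, 4, 5, 6, 3, 4, 5, 2, 3, 4, 8, 9, 5, 6, 4, 5, 2, 3, 4, 8, 7, 6, 5, 4, 3, 2], 3378),
  (wd [4, 8, 9, 6, 3, 4, 5, 2, 3, 4, 8, 7, 6, 5, 4, 3, 2], 544),
  (wd [6, 5, 3, 4, 8, 9, 8, 6, 4, 5, 3, 4, 8, 7, 6, 5, 4, 3, 1, 2], 968)]
theorem us1_map : (us1.all fun a => ptab.mapOK iv a.1 0 a.2 && blt a.2 3510) = true := by decide +kernel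
theorem us1_r_0 : allFrom (nat_lit 0) (nat_lit 39) (fun j => ptab.baseOK iv low ((rels.getD j (.l 0)).subst (tup us1))) = true := by decide +kernel
theorem us1_rels : ∀ t ∈ rels, ptab.baseOK iv low (t.subst (tup us1)) = true :=
  forall_mem_of_getD (d := .l 0) (n := 39) rfl (of_allFrom_append of_lt_zero us1_r_0)
theorem us1_in : ([1, 2, 3, 4, 5, 6, 8, 9].all fun i => blt 0 i && blt (i - 1) 9 && bit (cd.un 11) (us1.getD (i - 1) (.l 0, 0)).2) = true := by decide +kernel
theorem fix13 : net.fixIn iv [wd [7, 8, 4, 3, 9, 5, 2, 6]] (msk 3510) [] = true := by decide +kernel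
theorem map13 : ptab.mapOK iv (wd [7, 8, 4, 3, 9, 5, 2, 6]) 0 9 = true := by decide +kernel

open Subgroup Cfsg.Lib.ThreeTr TM

attribute [local instance] act

instance finite : Finite Spor.Fi22 := model.finite

theorem comm_hs : ∀ t ∈ hs, Commute (t.ev gam) (gam 1) := fun t ht =>
  model.pt_eq pts (.mul t (.l 1)) (.mul (.l 1) t) (List.all_eq_true.1
    (by decide +kernel : (hs.all fun t => ptab.baseOK iv low (.mul (.mul t (.l 1)) (.inv (.mul (.l 1) t)))) = true) t ht)

theorem transp : IsThreeTranspositionClass (conjugatesOf (gam 1)) :=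
  have := simple
  class_of_prim net_ok (inj_finPt _) (surj_finPt _) isLab model.acts prim_ok stab comm_hs
    (orderOf_eq_prime (model.pt_one pts (.pow (.l 1) 2) (by decide +kernel))
      (model.pt_ne_one pts rfl (.l 1) 1 2 (by decide +kernel) (by decide)))
    (List.forall_mem_cons.2 ⟨Or.inr (model.pt_one pts (.pow (.mul (.l 1) (cw _)) 3) (by decide +kernel)),
      List.forall_mem_singleton.2 (Or.inl (model.pt_one pts (.pow (.mul (.l 1) (cw _)) 2) (by decide +kernel)))⟩)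

/-- The points are the transpositions. -/
theorem tact : TAct (finPt 3510 0) (gam 1) :=
  tact_of_prim net_ok (inj_finPt _) (surj_finPt _) isLab model.acts prim_ok stab comm_hs (g := gam 2) fun h =>
    model.pt_ne_one pts rfl (commW (.l 2) (.l 1)) 0 2 (by decide +kernel) (by decide) (commutatorElement_eq_one_iff_commute.2 h)

theorem tmodel : TModel gam iv net 3510 (finPt 3510) 0 (ptab.mapOK iv) :=
  ⟨net_ok, inj_finPt _, surj_finPt _, isLab, model.acts, tact, fun _ _ _ => pts.smul_eq isLab, transp⟩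

theorem invTab : InvTab iv 9 := by decide +kernel

theorem card_class : Nat.card (conjugatesOf (gam 1)) = 3510 := tact.card.trans (Nat.card_fin _)

theorem gam_mem : ∀ i, 0 < i → i ≤ 9 → gam i ∈ conjugatesOf (gam 1) :=
  mem_class_of_words (model.pt_one pts) (us := us0) (by decide +kernel)

theorem closure_gam : closure (Set.range gam) = ⊤ := closure_range_eq_top genW_top

/-- The subspace `D_d ∩ D_c` in standard position. -/
theorem std {G : Type*} [Group G] {D : Set G} {d c : G} {π : HH D d →* Spor.Fi22} (M : Loc D d π (conjugatesOf (gam 1)))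
    (h : Nat.card (LL D d c ⧸ center (LL D d c)) = 9170703360 ∨ Nat.card (LL D d c ⧸ center (LL D d c)) = 4585351680) :
    ∃ π' : HH D d →* Spor.Fi22, Loc D d π' (conjugatesOf (gam 1)) ∧ ∀ i ∈ [1, 2, 3, 4, 5, 6, 8, 9], gam i ∈ Del π' c := by
  obtain ⟨π1, M1, s, hs, h1⟩ := M.classify (c := c) (C := cd) tmodel cd_orb cd_imp cd_fin (by norm_num) (by decide)
    (tmodel.fix_le (by norm_num) (by rw [card]; decide) (model.ev_eq_one_of_base _ z_ok)
      (model.pt_ne_one pts rfl _ _ _ map13 (by decide)) fix13)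
    ((isPGroup_genW (ws := pcs) isLab.zero (model.pt_one pts) pc_ok).to_le
      (genW_mono _ (subset_of_all_isIn (by decide +kernel)))) (a := 9) (by rw [card]; decide)
    (by rcases h with h | h <;> rw [h] <;> decide) (by rcases h with h | h <;> rw [h] <;> decide)
    (by rw [card]; omega)
  rcases List.mem_pair.1 hs with rfl | rfl
  · exact M1.std tmodel invTab (fun _ => data.exists_hom) rfl (by decide) us0_map
      (fun t ht => model.pt_one pts _ (us0_rels t ht)) h1 us0_in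
  · exact M1.std tmodel invTab (fun _ => data.exists_hom) rfl (by decide) us1_map
      (fun t ht => model.pt_one pts _ (us1_rels t ht)) h1 us1_in

end Cfsg.Lib.Calc.Fi22
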