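import Cfsg.Agent.Lib.Calc.Double
import Cfsg.Prelude.Def_Spor_Fi23

set_option autoImplicit false
set_option maxRecDepth 1000000
set_option maxHeartbeats 0

namespace Cfsg.Lib.Calc.Fi23

/-- The letters. -/
def L : List (Spor.Fi23.Gen × Bool) := [(.a, false), (.b, false), (.c, false), (.d, false), (.e, false), (.f, false), (.g, false), (.h, false), (.i, false), (.j, false)]
/-- The letter of a generator. -/
def lab : Spor.Fi23.Gen → ℕ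
  | .a => 1
  | .b => 2
  | .c => 3
  | .d => 4
  | .e => 5
  | .f => 6
  | .g => 7
  | .h => 8
  | .i => 9
  | .j => 10
/-- Inverse letters. -/
def iv : ℕ := (nat_lit 0x2928398a418820)
/-- The Coxeter relators. -/
def cox : List W := [.pow (.mul (.l 1) (.l 2)) 3, .pow (.mul (.l 1) (.l 3)) 2, .pow (.mul (.l 1) (.l 4)) 2, .pow (.mul (.l 1) (.l 5)) 2, .pow (.mul (.l 1) (.l 6)) 2, .pow (.mul (.l 1) (.l 7)) 2, .pow (.mul (.l 1) (.l 8)) 2, .pow (.mul (.l 1) (.l 9)) 2, .pow (.mul (.l 1) (.l 10)) 2, .pow (.mul (.l 2) (.l 3)) 3, .pow (.mul (.l 2) (.l 4)) 2, .pow (.mul (.l 2) (.l 5)) 2, .pow (.mul (.l 2) (.l 6)) 2, .pow (.mul (.l 2) (.l 7)) 2, .pow (.mul (.l 2) (.l 8)) 2, .pow (.mul (.l 2) (.l 9)) 2, .pow (.mul (.l 2) (.l 10)) 2, .pow (.mul (.l 3) (.l 4)) 3, .pow (.mul (.l 3) (.l 5)) 2, .pow (.mul (.l 3) (.l 6)) 2, .pow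 (.mul (.l 3) (.l 7)) 2, .pow (.mul (.l 3) (.l 8)) 2, .pow (.mul (.l 3) (.l 9)) 2, .pow (.mul (.l 3) (.l 10)) 2, .pow (.mul (.l 4) (.l 5)) 3, .pow (.mul (.l 4) (.l 6)) 2, .pow (.mul (.l 4) (.l 7)) 2, .pow (.mul (.l 4) (.l 8)) 3, .pow (.mul (.l 4) (.l 9)) 2, .pow (.mul (.l 4) (.l 10)) 2, .pow (.mul (.l 5) (.l 6)) 3, .pow (.mul (.l 5) (.l 7)) 2, .pow (.mul (.l 5) (.l 8)) 2, .pow (.mul (.l 5) (.l 9)) 2, .pow (.mul (.l 5) (.l 10)) 2, .pow (.mul (.l 6) (.l 7)) 3, .pow (.mul (.l 6) (.l 8)) 2, .pow (.mul (.l 6) (.l 9)) 2, .pow (.mul (.l 6) (.l 10)) 2, .pow (.mul (.l 7) (.l 8)) 2, .pow (.mul (.l 7) (.l 9)) 2, .pow (.mul (.l 7) (.l 10)) 3, .pow (.mul (.l 8) (.l 9)) 3, .pow (.mul (.l 8) (.l 10)) 2, .pow (.mul (.l 9) (.l 10)) 2]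
/-- The further relators. -/
def ext : List W := [.pow (.mul (.mul (.mul (.mul (.mul (.mul (.mul (.mul (.l 4) (.l 3)) (.l 2)) (.l 4)) (.l 5)) (.l 6)) (.l 4)) (.l 8)) (.l 9)) 10, .pow (.mul (.mul (.mul (.mul (.mul (.mul (.l 1) (.l 2)) (.l 3)) (.l 4)) (.l 5)) (.l 6)) (.l 8)) 9]
/-- All relators. -/
def rels : List W := cox ++ ext
/-- The letters in the presented group. -/
def gam : ℕ → Spor.Fi23 := presLet Spor.Fi23.edges Spor.Fi23.extra L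

theorem data : PresData Spor.Fi23.edges Spor.Fi23.extra L lab iv cox ext :=
  ⟨fun x => by cases x <;> rfl, by decide +kernel, by decide +kernel, by decide +kernel, rfl, by decide +kernel,
    by decide +kernel⟩

theorem isLab : Lab gam iv := data.isLab
theorem rels_hold : ∀ t ∈ rels, t.ev gam = 1 := data.rels
def hs : List W := [wd [1], wd [2], wd [3], wd [4], wd [5], wd [6], wd [7], wd [8], wd [9]]
def cs : List W := [wd [1], wd [2], wd [3], wd [4], wd [5], wd [6], wd [8], wd [9]]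
def d0 : DC := ⟨.l 0, 0, [],
  [(wd [], 0, 1, wd [])]⟩
def d1 : DC := ⟨wd [10], 1, [wd [1], wd [2], wd [3], wd [4], wd [5], wd [6], wd [8], wd [9]],
  [(wd [], 1, 0, wd []),
   (wd [7], 2, 1, wd [7]),
   (wd [7, 6, 5, 4, 8, 3, 4, 5, 6, 7], 36, 2, wd [2, 1, 3, 4, 5, 6, 8, 4, 3, 5, 4, 8, 7, 6, 5, 4, 3, 2]),
   (wd [7, 6, 5, 4, 8, 9, 3, 4, 8, 2, 3, 4, 5, 6, 7], 224, 1, wd [1, 2, 3, 4, 5, 6, 8, 9, 4, 8, 7, 5, 6, 4, 5, 3, 4, 8, 9, 2, 3, 4, 8, 1, 2, 3, 4, 5, 6, 7]),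
   (wd [7, 6, 5, 4, 8, 3, 4, 5, 2, 3, 4, 8, 6, 7, 5, 6, 4, 5, 3, 4, 8, 2, 3, 4, 5, 6, 7], 7999, 1, wd [7, 6, 5, 4, 8, 3, 4, 5, 2, 3, 4, 8, 6, 7, 5, 6, 4, 5, 3, 4, 8, 2, 3, 4, 5, 6, 7])]⟩
def d2 : DC := ⟨wd [2, 3, 4, 5, 6, 7, 10, 8, 4, 5, 3, 4, 8, 6, 7, 5, 6, 4, 5, 3, 4, 8, 1, 2, 3, 4, 5, 6, 7, 10], 11589, [wd [1], wd [3], wd [4], wd [5], wd [6], wd [7], wd [8], wd [9], wd [1, 2, 3, 4, 5, 8, 1, 2, 3, 4, 5, 8, 1, 2, 3, 4, 5, 8, 1, 2, 3, 4, 5, 8, 1, 2, 3, 4, 5, 8]],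
  [(wd [2, 1, 3, 4, 5, 6, 8, 4, 3, 5, 4, 8, 7, 6, 5, 4, 3, 2], 53, 1, wd [7, 6, 5, 4, 8, 3, 4, 5, 6, 7]),
   (wd [], 11589, 2, wd [])]⟩
def ds : List DC := [d1, d2]

end Cfsg.Lib.Calc.Fi23
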