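import Cfsg.Agent.Lib.Calc.Fi24Net

set_option autoImplicit false
set_option maxRecDepth 1000000
set_option maxHeartbeats 0
set_option Elab.async false

namespace Cfsg.Lib.Calc.Fi24

def eqB : List (List ℕ × List ℕ) := [([10, 10], []), ([11, 11], []), ([12, 12], []), ([1, 10], [10, 1]), ([1, 11], [11, 1]), ([1, 12, 1], [12, 1, 12]), ([2, 10], [10, 2]), ([2, 11], [11, 2]), ([2, 12], [12, 2]), ([3, 10], [10, 3]), ([3, 11], [11, 3]), ([3, 12], [12, 3]), ([4, 10], [10, 4]), ([4, 11], [11, 4]), ([4, 12], [12, 4]), ([5, 10], [10, 5]), ([5, 11], [11, 5]), ([5, 12], [12, 5]), ([6, 10], [10, 6]), ([6, 11], [11, 6]), ([6, 12], [12, 6]), ([7, 10, 7], [10, 7, 10]), ([7, 11], [11, 7]), ([7, 12], [12, 7]), ([8, 10], [10, 8]), ([8, 11], [11, 8]), ([8, 12], [12, 8]), ([9, 10], [10, 9]), ([9, 11], [11, 9]), ([9, 12], [12, 9]), ([10, 11], [11, 10]), ([10, 12], [12, 10]), ([11, 12, 11], [12, 11, 12])]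
theorem eqB_0 : allFrom (nat_lit 0) (nat_lit 1) (fun b => eqB.all (net.eqL b)) = true := by
  decide +kernel
theorem eqB_1 : allFrom (nat_lit 1) (nat_lit 1) (fun b => eqB.all (net.eqL b)) = true := by
  decide +kernel
theorem eqB_2 : allFrom (nat_lit 2) (nat_lit 1) (fun b => eqB.all (net.eqL b)) = true := by
  decide +kernel
theorem eqB_3 : allFrom (nat_lit 3) (nat_lit 1) (fun b => eqB.all (net.eqL b)) = true := by
  decide +kernel
theorem eqB_4 : allFrom (nat_lit 4) (nat_lit 1) (fun b => eqB.all (net.eqL b)) = true := by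
  decide +kernel
theorem eqB_5 : allFrom (nat_lit 5) (nat_lit 1) (fun b => eqB.all (net.eqL b)) = true := by
  decide +kernel
theorem eqB_6 : allFrom (nat_lit 6) (nat_lit 1) (fun b => eqB.all (net.eqL b)) = true := by
  decide +kernel
theorem eqB_7 : allFrom (nat_lit 7) (nat_lit 1) (fun b => eqB.all (net.eqL b)) = true := by
  decide +kernel
theorem eqB_8 : allFrom (nat_lit 8) (nat_lit 1) (fun b => eqB.all (net.eqL b)) = true := by
  decide +kernel
theorem eqB_9 : allFrom (nat_lit 9) (nat_lit 1) (fun b => eqB.all (net.eqL b)) = true := by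
  decide +kernel
theorem eqB_10 : allFrom (nat_lit 10) (nat_lit 1) (fun b => eqB.all (net.eqL b)) = true := by
  decide +kernel
theorem eqB_11 : allFrom (nat_lit 11) (nat_lit 1) (fun b => eqB.all (net.eqL b)) = true := by
  decide +kernel
theorem eqB_12 : allFrom (nat_lit 12) (nat_lit 1) (fun b => eqB.all (net.eqL b)) = true := by
  decide +kernel
theorem eqB_13 : allFrom (nat_lit 13) (nat_lit 1) (fun b => eqB.all (net.eqL b)) = true := by
  decide +kernel
theorem eqB_14 : allFrom (nat_lit 14) (nat_lit 1) (fun b => eqB.all (net.eqL b)) = true := by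
  decide +kernel
theorem eqB_15 : allFrom (nat_lit 15) (nat_lit 1) (fun b => eqB.all (net.eqL b)) = true := by
  decide +kernel
theorem eqB_16 : allFrom (nat_lit 16) (nat_lit 1) (fun b => eqB.all (net.eqL b)) = true := by
  decide +kernel
theorem eqB_17 : allFrom (nat_lit 17) (nat_lit 1) (fun b => eqB.all (net.eqL b)) = true := by
  decide +kernel
theorem eqB_18 : allFrom (nat_lit 18) (nat_lit 1) (fun b => eqB.all (net.eqL b)) = true := by
  decide +kernel
theorem eqB_ok : ∀ b < net.L, eqB.all (net.eqL b) = true :=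
  (of_allFrom_append (of_allFrom_append (of_allFrom_append (of_allFrom_append (of_allFrom_append (of_allFrom_append (of_allFrom_append (of_allFrom_append (of_allFrom_append (of_allFrom_append (of_allFrom_append (of_allFrom_append (of_allFrom_append (of_allFrom_append (of_allFrom_append (of_allFrom_append (of_allFrom_append (of_allFrom_append (of_allFrom_append of_lt_zero eqB_0) eqB_1) eqB_2) eqB_3) eqB_4) eqB_5) eqB_6) eqB_7) eqB_8) eqB_9) eqB_10) eqB_11) eqB_12) eqB_13) eqB_14) eqB_15) eqB_16) eqB_17) eqB_18)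

end Cfsg.Lib.Calc.Fi24
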