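import Cfsg.Agent.Lib.Calc.Fi24M1
import Cfsg.Agent.Lib.Calc.Fi24M2
import Cfsg.Agent.Lib.Calc.Fi24M3
import Cfsg.Agent.Lib.Calc.Fi24M4
import Cfsg.Agent.Lib.Calc.NetBig
import Cfsg.Agent.Lib.Calc.Fi24Pres

set_option autoImplicit false
set_option maxRecDepth 1000000
set_option maxHeartbeats 0

namespace Cfsg.Lib.Calc.Fi24

noncomputable def net_M : Tr := .node (.node (.node (.node (.node (.node (.node (.node (.node (.leaf (nat_lit 0)) (.leaf m6_34)) (.node (.leaf m3_17) (.leaf m10_14))) (.node (.node (.leaf m1_27) (.leaf m8_24)) (.node (.leaf m5_7) (.leaf m12_4)))) (.node (.node (.node (.leaf (nat_lit 0)) (.leaf m7_29)) (.node (.leaf m4_12) (.leaf m11_9))) (.node (.node (.leaf m2_22) (.leaf m9_19)) (.node (.leaf m6_2) (.leaf m12_36))))) (.node (.node (.node (.node (.leaf (nat_lit 0)) (.leaf m7_13)) (.node (.leaf m3_33) (.leaf m10_30))) (.node (.node (.leaf m2_6) (.leaf m9_3)) (.node (.leaf m5_23) (.leaf m12_20)))) (.node (.node (.node (.leaf m1_11) (.leaf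 m8_8)) (.node (.leaf m4_28) (.leaf m11_25))) (.node (.node (.leaf m3_1) (.leaf m9_35)) (.leaf m6_18))))) (.node (.node (.node (.node (.node (.leaf (nat_lit 0)) (.leaf m7_5)) (.node (.leaf m3_25) (.leaf m10_22))) (.node (.node (.leaf m1_35) (.leaf m8_32)) (.node (.leaf m5_15) (.leaf m12_12)))) (.node (.node (.node (.leaf m1_3) (.leaf m8_0)) (.node (.leaf m4_20) (.leaf m11_17))) (.node (.node (.leaf m2_30) (.leaf m9_27)) (.leaf m6_10)))) (.node (.node (.node (.node (.leaf (nat_lit 0)) (.leaf m7_21)) (.node (.leaf m4_4) (.leaf m11_1))) (.node (.node (.leaf m2_14) (.leaf m9_11)) (.node (.leaf m5_31) (.leaf m12_28)))) (.node (.node (.node (.leaf m1_19) (.leaf m8_16)) (.node (.leaf m4_36) (.leaf m11_33))) (.node (.node (.leaf m3_9) (.leaf m10_6)) (.leaf m6_26)))))) (.node (.node (.node (.node (.node (.node (.leaf (nat_lit 0)) (.leaf m7_1)) (.node (.leaf m3_21) (.leaf m10_18))) (.node (.node (.leaf m1_31) (.leaf m8_28)) (.node (.leaf m5_11) (.leaf m12_8))))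 (.node (.node (.node (.leaf (nat_lit 0)) (.leaf m7_33)) (.node (.leaf m4_16) (.leaf m11_13))) (.node (.node (.leaf m2_26) (.leaf m9_23)) (.leaf m6_6)))) (.node (.node (.node (.node (.leaf (nat_lit 0)) (.leaf m7_17)) (.node (.leaf m4_0) (.leaf m10_34))) (.node (.node (.leaf m2_10) (.leaf m9_7)) (.node (.leaf m5_27) (.leaf m12_24)))) (.node (.node (.node (.leaf m1_15) (.leaf m8_12)) (.node (.leaf m4_32) (.leaf m11_29))) (.node (.node (.leaf m3_5) (.leaf m10_2)) (.leaf m6_22))))) (.node (.node (.node (.node (.node (.leaf (nat_lit 0)) (.leaf m7_9)) (.node (.leaf m3_29) (.leaf m10_26))) (.node (.node (.leaf m2_2) (.leaf m8_36)) (.node (.leaf m5_19) (.leaf m12_16)))) (.node (.node (.node (.leaf m1_7) (.leaf m8_4)) (.node (.leaf m4_24) (.leaf m11_21))) (.node (.node (.leaf m2_34) (.leaf m9_31)) (.leaf m6_14)))) (.node (.node (.node (.node (.leaf (nat_lit 0)) (.leaf m7_25)) (.node (.leaf m4_8) (.leaf m11_5))) (.node (.node (.leaf m2_18) (.leaf m9_15)) (.node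 (.leaf m5_35) (.leaf m12_32)))) (.node (.node (.node (.leaf m1_23) (.leaf m8_20)) (.node (.leaf m5_3) (.leaf m12_0))) (.node (.node (.leaf m3_13) (.leaf m10_10)) (.leaf m6_30))))))) (.node (.node (.node (.node (.node (.node (.node (.leaf (nat_lit 0)) (.leaf m6_36)) (.node (.leaf m3_19) (.leaf m10_16))) (.node (.node (.leaf m1_29) (.leaf m8_26)) (.node (.leaf m5_9) (.leaf m12_6)))) (.node (.node (.node (.leaf (nat_lit 0)) (.leaf m7_31)) (.node (.leaf m4_14) (.leaf m11_11))) (.node (.node (.leaf m2_24) (.leaf m9_21)) (.leaf m6_4)))) (.node (.node (.node (.node (.leaf (nat_lit 0)) (.leaf m7_15)) (.node (.leaf m3_35) (.leaf m10_32))) (.node (.node (.leaf m2_8) (.leaf m9_5)) (.node (.leaf m5_25) (.leaf m12_22)))) (.node (.node (.node (.leaf m1_13) (.leaf m8_10)) (.node (.leaf m4_30) (.leaf m11_27))) (.node (.node (.leaf m3_3) (.leaf m10_0)) (.leaf m6_20))))) (.node (.node (.node (.node (.node (.leaf (nat_lit 0)) (.leaf m7_7)) (.node (.leaf m3_27) (.leaf m10_24)))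 (.node (.node (.leaf m2_0) (.leaf m8_34)) (.node (.leaf m5_17) (.leaf m12_14)))) (.node (.node (.node (.leaf m1_5) (.leaf m8_2)) (.node (.leaf m4_22) (.leaf m11_19))) (.node (.node (.leaf m2_32) (.leaf m9_29)) (.leaf m6_12)))) (.node (.node (.node (.node (.leaf (nat_lit 0)) (.leaf m7_23)) (.node (.leaf m4_6) (.leaf m11_3))) (.node (.node (.leaf m2_16) (.leaf m9_13)) (.node (.leaf m5_33) (.leaf m12_30)))) (.node (.node (.node (.leaf m1_21) (.leaf m8_18)) (.node (.leaf m5_1) (.leaf m11_35))) (.node (.node (.leaf m3_11) (.leaf m10_8)) (.leaf m6_28)))))) (.node (.node (.node (.node (.node (.node (.leaf (nat_lit 0)) (.leaf m7_3)) (.node (.leaf m3_23) (.leaf m10_20))) (.node (.node (.leaf m1_33) (.leaf m8_30)) (.node (.leaf m5_13) (.leaf m12_10)))) (.node (.node (.node (.leaf m1_1) (.leaf m7_35)) (.node (.leaf m4_18) (.leaf m11_15))) (.node (.node (.leaf m2_28) (.leaf m9_25)) (.leaf m6_8)))) (.node (.node (.node (.node (.leaf (nat_lit 0)) (.leaf m7_19)) (.node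 (.leaf m4_2) (.leaf m10_36))) (.node (.node (.leaf m2_12) (.leaf m9_9)) (.node (.leaf m5_29) (.leaf m12_26)))) (.node (.node (.node (.leaf m1_17) (.leaf m8_14)) (.node (.leaf m4_34) (.leaf m11_31))) (.node (.node (.leaf m3_7) (.leaf m10_4)) (.leaf m6_24))))) (.node (.node (.node (.node (.node (.leaf (nat_lit 0)) (.leaf m7_11)) (.node (.leaf m3_31) (.leaf m10_28))) (.node (.node (.leaf m2_4) (.leaf m9_1)) (.node (.leaf m5_21) (.leaf m12_18)))) (.node (.node (.node (.leaf m1_9) (.leaf m8_6)) (.node (.leaf m4_26) (.leaf m11_23))) (.node (.node (.leaf m2_36) (.leaf m9_33)) (.leaf m6_16)))) (.node (.node (.node (.node (.leaf (nat_lit 0)) (.leaf m7_27)) (.node (.leaf m4_10) (.leaf m11_7))) (.node (.node (.leaf m2_20) (.leaf m9_17)) (.node (.leaf m6_0) (.leaf m12_34)))) (.node (.node (.node (.leaf m1_25) (.leaf m8_22)) (.node (.leaf m5_5) (.leaf m12_2))) (.node (.node (.leaf m3_15) (.leaf m10_12)) (.leaf m6_32)))))))) (.node (.node (.node (.node (.node (.node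 (.node (.node (.leaf (nat_lit 0)) (.leaf m6_35)) (.node (.leaf m3_18) (.leaf m10_15))) (.node (.node (.leaf m1_28) (.leaf m8_25)) (.node (.leaf m5_8) (.leaf m12_5)))) (.node (.node (.node (.leaf (nat_lit 0)) (.leaf m7_30)) (.node (.leaf m4_13) (.leaf m11_10))) (.node (.node (.leaf m2_23) (.leaf m9_20)) (.leaf m6_3)))) (.node (.node (.node (.node (.leaf (nat_lit 0)) (.leaf m7_14)) (.node (.leaf m3_34) (.leaf m10_31))) (.node (.node (.leaf m2_7) (.leaf m9_4)) (.node (.leaf m5_24) (.leaf m12_21)))) (.node (.node (.node (.leaf m1_12) (.leaf m8_9)) (.node (.leaf m4_29) (.leaf m11_26))) (.node (.node (.leaf m3_2) (.leaf m9_36)) (.leaf m6_19))))) (.node (.node (.node (.node (.node (.leaf (nat_lit 0)) (.leaf m7_6)) (.node (.leaf m3_26) (.leaf m10_23))) (.node (.node (.leaf m1_36) (.leaf m8_33)) (.node (.leaf m5_16) (.leaf m12_13)))) (.node (.node (.node (.leaf m1_4) (.leaf m8_1)) (.node (.leaf m4_21) (.leaf m11_18))) (.node (.node (.leaf m2_31) (.leaf m9_28))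 (.leaf m6_11)))) (.node (.node (.node (.node (.leaf (nat_lit 0)) (.leaf m7_22)) (.node (.leaf m4_5) (.leaf m11_2))) (.node (.node (.leaf m2_15) (.leaf m9_12)) (.node (.leaf m5_32) (.leaf m12_29)))) (.node (.node (.node (.leaf m1_20) (.leaf m8_17)) (.node (.leaf m5_0) (.leaf m11_34))) (.node (.node (.leaf m3_10) (.leaf m10_7)) (.leaf m6_27)))))) (.node (.node (.node (.node (.node (.node (.leaf (nat_lit 0)) (.leaf m7_2)) (.node (.leaf m3_22) (.leaf m10_19))) (.node (.node (.leaf m1_32) (.leaf m8_29)) (.node (.leaf m5_12) (.leaf m12_9)))) (.node (.node (.node (.leaf m1_0) (.leaf m7_34)) (.node (.leaf m4_17) (.leaf m11_14))) (.node (.node (.leaf m2_27) (.leaf m9_24)) (.leaf m6_7)))) (.node (.node (.node (.node (.leaf (nat_lit 0)) (.leaf m7_18)) (.node (.leaf m4_1) (.leaf m10_35))) (.node (.node (.leaf m2_11) (.leaf m9_8)) (.node (.leaf m5_28) (.leaf m12_25)))) (.node (.node (.node (.leaf m1_16) (.leaf m8_13)) (.node (.leaf m4_33) (.leaf m11_30))) (.node (.node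 (.leaf m3_6) (.leaf m10_3)) (.leaf m6_23))))) (.node (.node (.node (.node (.node (.leaf (nat_lit 0)) (.leaf m7_10)) (.node (.leaf m3_30) (.leaf m10_27))) (.node (.node (.leaf m2_3) (.leaf m9_0)) (.node (.leaf m5_20) (.leaf m12_17)))) (.node (.node (.node (.leaf m1_8) (.leaf m8_5)) (.node (.leaf m4_25) (.leaf m11_22))) (.node (.node (.leaf m2_35) (.leaf m9_32)) (.leaf m6_15)))) (.node (.node (.node (.node (.leaf (nat_lit 0)) (.leaf m7_26)) (.node (.leaf m4_9) (.leaf m11_6))) (.node (.node (.leaf m2_19) (.leaf m9_16)) (.node (.leaf m5_36) (.leaf m12_33)))) (.node (.node (.node (.leaf m1_24) (.leaf m8_21)) (.node (.leaf m5_4) (.leaf m12_1))) (.node (.node (.leaf m3_14) (.leaf m10_11)) (.leaf m6_31))))))) (.node (.node (.node (.node (.node (.node (.node (.leaf (nat_lit 0)) (.leaf m7_0)) (.node (.leaf m3_20) (.leaf m10_17))) (.node (.node (.leaf m1_30) (.leaf m8_27)) (.node (.leaf m5_10) (.leaf m12_7)))) (.node (.node (.node (.leaf (nat_lit 0)) (.leaf m7_32))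 (.node (.leaf m4_15) (.leaf m11_12))) (.node (.node (.leaf m2_25) (.leaf m9_22)) (.leaf m6_5)))) (.node (.node (.node (.node (.leaf (nat_lit 0)) (.leaf m7_16)) (.node (.leaf m3_36) (.leaf m10_33))) (.node (.node (.leaf m2_9) (.leaf m9_6)) (.node (.leaf m5_26) (.leaf m12_23)))) (.node (.node (.node (.leaf m1_14) (.leaf m8_11)) (.node (.leaf m4_31) (.leaf m11_28))) (.node (.node (.leaf m3_4) (.leaf m10_1)) (.leaf m6_21))))) (.node (.node (.node (.node (.node (.leaf (nat_lit 0)) (.leaf m7_8)) (.node (.leaf m3_28) (.leaf m10_25))) (.node (.node (.leaf m2_1) (.leaf m8_35)) (.node (.leaf m5_18) (.leaf m12_15)))) (.node (.node (.node (.leaf m1_6) (.leaf m8_3)) (.node (.leaf m4_23) (.leaf m11_20))) (.node (.node (.leaf m2_33) (.leaf m9_30)) (.leaf m6_13)))) (.node (.node (.node (.node (.leaf (nat_lit 0)) (.leaf m7_24)) (.node (.leaf m4_7) (.leaf m11_4))) (.node (.node (.leaf m2_17) (.leaf m9_14)) (.node (.leaf m5_34) (.leaf m12_31)))) (.node (.node (.node (.leaf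 m1_22) (.leaf m8_19)) (.node (.leaf m5_2) (.leaf m11_36))) (.node (.node (.leaf m3_12) (.leaf m10_9)) (.leaf m6_29)))))) (.node (.node (.node (.node (.node (.node (.leaf (nat_lit 0)) (.leaf m7_4)) (.node (.leaf m3_24) (.leaf m10_21))) (.node (.node (.leaf m1_34) (.leaf m8_31)) (.node (.leaf m5_14) (.leaf m12_11)))) (.node (.node (.node (.leaf m1_2) (.leaf m7_36)) (.node (.leaf m4_19) (.leaf m11_16))) (.node (.node (.leaf m2_29) (.leaf m9_26)) (.leaf m6_9)))) (.node (.node (.node (.node (.leaf (nat_lit 0)) (.leaf m7_20)) (.node (.leaf m4_3) (.leaf m11_0))) (.node (.node (.leaf m2_13) (.leaf m9_10)) (.node (.leaf m5_30) (.leaf m12_27)))) (.node (.node (.node (.leaf m1_18) (.leaf m8_15)) (.node (.leaf m4_35) (.leaf m11_32))) (.node (.node (.leaf m3_8) (.leaf m10_5)) (.leaf m6_25))))) (.node (.node (.node (.node (.node (.leaf (nat_lit 0)) (.leaf m7_12)) (.node (.leaf m3_32) (.leaf m10_29))) (.node (.node (.leaf m2_5) (.leaf m9_2)) (.node (.leaf m5_22) (.leaf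 m12_19)))) (.node (.node (.node (.leaf m1_10) (.leaf m8_7)) (.node (.leaf m4_27) (.leaf m11_24))) (.node (.node (.leaf m3_0) (.leaf m9_34)) (.leaf m6_17)))) (.node (.node (.node (.node (.leaf (nat_lit 0)) (.leaf m7_28)) (.node (.leaf m4_11) (.leaf m11_8))) (.node (.node (.leaf m2_21) (.leaf m9_18)) (.node (.leaf m6_1) (.leaf m12_35)))) (.node (.node (.node (.leaf m1_26) (.leaf m8_23)) (.node (.leaf m5_6) (.leaf m12_3))) (.node (.node (.leaf m3_16) (.leaf m10_13)) (.leaf m6_33))))))))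
noncomputable def net : Net :=
  ⟨(nat_lit 13), (nat_lit 19), (nat_lit 37), get (nat_lit 24) (nat_lit 0x2800001400000a000005000002800001400000a000005000002800001400000a000005000002800001400000a00000500000100000100000100000100000100000500000a0000140000280000500000a0000140000280000500000a0000140000280000500000a000014000028000),
    fun c j => net_M.get (Nat.add (Nat.mul (nat_lit 37) c) j)⟩
theorem net_ok : net.OK 306936 := fun _ => of_allLt (by decide +kernel : allLt 13 (net.ok 306936) = true)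

end Cfsg.Lib.Calc.Fi24
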