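import Cfsg.Agent.Lib.Calc.Fi24Rel5
import Cfsg.Agent.Lib.Calc.Fi24Rel6
import Cfsg.Agent.Lib.Calc.Fi24TC
import Cfsg.Agent.Lib.Calc.Fi23Net

set_option autoImplicit false
set_option maxRecDepth 1000000
set_option maxHeartbeats 0
set_option Elab.async false

namespace Cfsg.Lib.Calc.Fi24

theorem eqD_0 : allFrom (nat_lit 0) (nat_lit 1) (fun b => [eqD].all (net.eqL b)) = true := eqL_of eqD1_0 eqD2_0
theorem eqD_1 : allFrom (nat_lit 1) (nat_lit 1) (fun b => [eqD].all (net.eqL b)) = true := eqL_of eqD1_1 eqD2_1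
theorem eqD_2 : allFrom (nat_lit 2) (nat_lit 1) (fun b => [eqD].all (net.eqL b)) = true := eqL_of eqD1_2 eqD2_2
theorem eqD_3 : allFrom (nat_lit 3) (nat_lit 1) (fun b => [eqD].all (net.eqL b)) = true := eqL_of eqD1_3 eqD2_3
theorem eqD_4 : allFrom (nat_lit 4) (nat_lit 1) (fun b => [eqD].all (net.eqL b)) = true := eqL_of eqD1_4 eqD2_4
theorem eqD_5 : allFrom (nat_lit 5) (nat_lit 1) (fun b => [eqD].all (net.eqL b)) = true := eqL_of eqD1_5 eqD2_5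
theorem eqD_6 : allFrom (nat_lit 6) (nat_lit 1) (fun b => [eqD].all (net.eqL b)) = true := eqL_of eqD1_6 eqD2_6
theorem eqD_7 : allFrom (nat_lit 7) (nat_lit 1) (fun b => [eqD].all (net.eqL b)) = true := eqL_of eqD1_7 eqD2_7
theorem eqD_8 : allFrom (nat_lit 8) (nat_lit 1) (fun b => [eqD].all (net.eqL b)) = true := eqL_of eqD1_8 eqD2_8
theorem eqD_9 : allFrom (nat_lit 9) (nat_lit 1) (fun b => [eqD].all (net.eqL b)) = true := eqL_of eqD1_9 eqD2_9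
theorem eqD_10 : allFrom (nat_lit 10) (nat_lit 1) (fun b => [eqD].all (net.eqL b)) = true := eqL_of eqD1_10 eqD2_10
theorem eqD_11 : allFrom (nat_lit 11) (nat_lit 1) (fun b => [eqD].all (net.eqL b)) = true := eqL_of eqD1_11 eqD2_11
theorem eqD_12 : allFrom (nat_lit 12) (nat_lit 1) (fun b => [eqD].all (net.eqL b)) = true := eqL_of eqD1_12 eqD2_12
theorem eqD_13 : allFrom (nat_lit 13) (nat_lit 1) (fun b => [eqD].all (net.eqL b)) = true := eqL_of eqD1_13 eqD2_13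
theorem eqD_14 : allFrom (nat_lit 14) (nat_lit 1) (fun b => [eqD].all (net.eqL b)) = true := eqL_of eqD1_14 eqD2_14
theorem eqD_15 : allFrom (nat_lit 15) (nat_lit 1) (fun b => [eqD].all (net.eqL b)) = true := eqL_of eqD1_15 eqD2_15
theorem eqD_16 : allFrom (nat_lit 16) (nat_lit 1) (fun b => [eqD].all (net.eqL b)) = true := eqL_of eqD1_16 eqD2_16
theorem eqD_17 : allFrom (nat_lit 17) (nat_lit 1) (fun b => [eqD].all (net.eqL b)) = true := eqL_of eqD1_17 eqD2_17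
theorem eqD_18 : allFrom (nat_lit 18) (nat_lit 1) (fun b => [eqD].all (net.eqL b)) = true := eqL_of eqD1_18 eqD2_18
theorem eqD_ok : ∀ b < net.L, [eqD].all (net.eqL b) = true :=
  (of_allFrom_append (of_allFrom_append (of_allFrom_append (of_allFrom_append (of_allFrom_append (of_allFrom_append (of_allFrom_append (of_allFrom_append (of_allFrom_append (of_allFrom_append (of_allFrom_append (of_allFrom_append (of_allFrom_append (of_allFrom_append (of_allFrom_append (of_allFrom_append (of_allFrom_append (of_allFrom_append (of_allFrom_append of_lt_zero eqD_0) eqD_1) eqD_2) eqD_3) eqD_4) eqD_5) eqD_6) eqD_7) eqD_8) eqD_9) eqD_10) eqD_11) eqD_12) eqD_13) eqD_14) eqD_15) eqD_16) eqD_17) eqD_18)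
theorem grow_ok : Nat.beq (net.growN iv cs 11 (bitsM (Net.repPts (d0 :: ds)))) (msk 306936) = true := by decide +kernel
def lowL : List Low := [
  ⟨0, [wd [2], wd [3], wd [4], wd [5], wd [6], wd [7], wd [8], wd [9], wd [10], wd [1, 2, 3, 4, 5, 6, 7, 8, 4, 3, 2, 5, 4, 6, 9, 8, 4, 3, 2, 1, 5, 4, 3, 2, 6, 5, 8, 4, 3, 9, 8, 4, 5, 6, 7, 10, 7, 6, 5, 4, 8, 9, 3, 4, 8, 5, 6, 2, 3, 4, 5, 1, 2, 3, 4, 8, 9, 6, 4, 5, 2, 3, 4, 8, 7, 6, 5, 4, 3, 2, 1]], 3, 3240⟩,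
  ⟨1, [wd [2], wd [3], wd [4], wd [5], wd [6], wd [7], wd [8], wd [9]], 9, 728⟩,
  ⟨2, [wd [2], wd [3], wd [4], wd [5], wd [6], wd [8], wd [9]], 7, 243⟩,
  ⟨3, [wd [2], wd [3], wd [4], wd [5], wd [8], wd [9]], 6, 72⟩,
  ⟨6, [wd [2], wd [3], wd [4], wd [8], wd [9]], 3, 20⟩,
  ⟨4, [wd [4], wd [2, 3, 2], wd [3, 4, 8, 4, 3], wd [3, 4, 9, 4, 3]], 1, 9⟩,
  ⟨7, [wd [9], wd [2, 3, 2]], 1, 4⟩]
theorem lowL_ok : Fi23.net.lowOK 31671 Fi23.iv lowL = true := by decide +kernel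
/-- Words carrying point `0` of `Fi23` to its base points, and the corresponding points of `Fi24`. -/
def bws : List (W × ℕ × ℕ) := [(wd [], 0, 87475), (wd [10], 1, 71050), (wd [7, 10], 2, 56869), (wd [6, 7, 10], 3, 44972), (wd [5, 6, 7, 10], 4, 35198), (wd [2, 3, 4, 5, 6, 7, 10], 8, 16219), (wd [4, 5, 6, 7, 10], 5, 27318), (wd [8, 4, 5, 6, 7, 10], 7, 21081), (wd [3, 4, 5, 6, 7, 10], 6, 21080)]
def pu : List ℕ := [1, 2, 3, 4, 5, 6, 7, 10]
def pv : List ℕ := [7, 6, 5, 4, 3, 2, 1, 2]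
def zw : List ℕ := [12, 3, 6, 2, 9, 1, 7, 5, 8, 10, 4, 11, 12, 1, 8, 6, 3, 2, 5, 4]
def zu : List ℕ := [7, 11]

end Cfsg.Lib.Calc.Fi24
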