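import Cfsg.Agent.Lib.Calc.Fi24T1
import Cfsg.Agent.Lib.Calc.Fi24T2
import Cfsg.Agent.Lib.Calc.PT
import Cfsg.Agent.Lib.Calc.Fi24Net

set_option autoImplicit false
set_option maxRecDepth 1000000
set_option maxHeartbeats 0
set_option Elab.async false

namespace Cfsg.Lib.Calc.Fi24

noncomputable def ptab_T : Tr := .node (.node (.node (.node (.node (.node (.node (.node ptab_T_0
  ptab_T_1)
  (.node ptab_T_2
  ptab_T_3))
  (.node (.node ptab_T_4
  ptab_T_5)
  (.node ptab_T_6
  ptab_T_7)))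
  (.node (.node (.node ptab_T_8
  ptab_T_9)
  (.node ptab_T_10
  ptab_T_11))
  (.node (.node ptab_T_12
  ptab_T_13)
  (.node ptab_T_14
  ptab_T_15))))
  (.node (.node (.node (.node ptab_T_16
  ptab_T_17)
  (.node ptab_T_18
  ptab_T_19))
  (.node (.node ptab_T_20
  ptab_T_21)
  (.node ptab_T_22
  ptab_T_23)))
  (.node (.node (.node ptab_T_24
  ptab_T_25)
  (.node ptab_T_26
  ptab_T_27))
  (.node (.node ptab_T_28
  ptab_T_29)
  (.node ptab_T_30
  ptab_T_31)))))
  (.node (.node (.node (.node (.node ptab_T_32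
  ptab_T_33)
  (.node ptab_T_34
  ptab_T_35))
  (.node (.node ptab_T_36
  ptab_T_37)
  (.node ptab_T_38
  ptab_T_39)))
  (.node (.node (.node ptab_T_40
  ptab_T_41)
  (.node ptab_T_42
  ptab_T_43))
  (.node (.node ptab_T_44
  ptab_T_45)
  (.node ptab_T_46
  ptab_T_47))))
  (.node (.node (.node (.node ptab_T_48
  ptab_T_49)
  (.node ptab_T_50
  ptab_T_51))
  (.node (.node ptab_T_52
  ptab_T_53)
  (.node ptab_T_54
  ptab_T_55)))
  (.node (.node (.node ptab_T_56
  ptab_T_57)
  (.node ptab_T_58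
  ptab_T_59))
  (.node (.node ptab_T_60
  ptab_T_61)
  (.node ptab_T_62
  ptab_T_63))))))
  (.node (.node (.node (.node (.node (.node ptab_T_64
  ptab_T_65)
  (.node ptab_T_66
  ptab_T_67))
  (.node (.node ptab_T_68
  ptab_T_69)
  (.node ptab_T_70
  ptab_T_71)))
  (.node (.node (.node ptab_T_72
  ptab_T_73)
  (.node ptab_T_74
  ptab_T_75))
  (.node (.node ptab_T_76
  ptab_T_77)
  (.node ptab_T_78
  ptab_T_79))))
  (.node (.node (.node (.node ptab_T_80
  ptab_T_81)
  (.node ptab_T_82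
  ptab_T_83))
  (.node (.node ptab_T_84
  ptab_T_85)
  (.node ptab_T_86
  ptab_T_87)))
  (.node (.node (.node ptab_T_88
  ptab_T_89)
  (.node ptab_T_90
  ptab_T_91))
  (.node (.node ptab_T_92
  ptab_T_93)
  (.node ptab_T_94
  ptab_T_95)))))
  (.node (.node (.node (.node (.node ptab_T_96
  ptab_T_97)
  (.node ptab_T_98
  ptab_T_99))
  (.node (.node ptab_T_100
  ptab_T_101)
  (.node ptab_T_102
  ptab_T_103)))
  (.node (.node (.node ptab_T_104
  ptab_T_105)
  (.node ptab_T_106
  ptab_T_107))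
  (.node (.node ptab_T_108
  ptab_T_109)
  (.node ptab_T_110
  ptab_T_111))))
  (.node (.node (.node (.node ptab_T_112
  ptab_T_113)
  (.node ptab_T_114
  ptab_T_115))
  (.node (.node ptab_T_116
  ptab_T_117)
  (.node ptab_T_118
  ptab_T_119)))
  (.node (.node (.node ptab_T_120
  ptab_T_121)
  (.node ptab_T_122
  ptab_T_123))
  (.node (.node ptab_T_124
  ptab_T_125)
  (.node ptab_T_126
  ptab_T_127)))))))
  (.node (.node (.node (.node (.node (.node (.node ptab_T_128
  ptab_T_129)
  (.node ptab_T_130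
  ptab_T_131))
  (.node (.node ptab_T_132
  ptab_T_133)
  (.node ptab_T_134
  ptab_T_135)))
  (.node (.node (.node ptab_T_136
  ptab_T_137)
  (.node ptab_T_138
  ptab_T_139))
  (.node (.node ptab_T_140
  ptab_T_141)
  (.node ptab_T_142
  ptab_T_143))))
  (.node (.node (.node (.node ptab_T_144
  ptab_T_145)
  (.node ptab_T_146
  ptab_T_147))
  (.node (.node ptab_T_148
  ptab_T_149)
  (.node ptab_T_150
  ptab_T_151)))
  (.node (.node (.node ptab_T_152
  ptab_T_153)
  (.node ptab_T_154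
  ptab_T_155))
  (.node (.node ptab_T_156
  ptab_T_157)
  (.node ptab_T_158
  ptab_T_159)))))
  (.node (.node (.node (.node (.node ptab_T_160
  ptab_T_161)
  (.node ptab_T_162
  ptab_T_163))
  (.node (.node ptab_T_164
  ptab_T_165)
  (.node ptab_T_166
  ptab_T_167)))
  (.node (.node (.node ptab_T_168
  ptab_T_169)
  (.node ptab_T_170
  ptab_T_171))
  (.node (.node ptab_T_172
  ptab_T_173)
  (.node ptab_T_174
  ptab_T_175))))
  (.node (.node (.node (.node ptab_T_176
  ptab_T_177)
  (.node ptab_T_178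
  ptab_T_179))
  (.node (.node ptab_T_180
  ptab_T_181)
  (.node ptab_T_182
  ptab_T_183)))
  (.node (.node (.node ptab_T_184
  ptab_T_185)
  (.node ptab_T_186
  ptab_T_187))
  (.node (.node ptab_T_188
  ptab_T_189)
  (.node ptab_T_190
  ptab_T_191))))))
  (.node (.node (.node (.node (.node (.node ptab_T_192
  ptab_T_193)
  (.node ptab_T_194
  ptab_T_195))
  (.node (.node ptab_T_196
  ptab_T_197)
  (.node ptab_T_198
  ptab_T_199)))
  (.node (.node (.node ptab_T_200
  ptab_T_201)
  (.node ptab_T_202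
  ptab_T_203))
  (.node (.node ptab_T_204
  ptab_T_205)
  (.node ptab_T_206
  ptab_T_207))))
  (.node (.node (.node (.node ptab_T_208
  ptab_T_209)
  (.node ptab_T_210
  ptab_T_211))
  (.node (.node ptab_T_212
  ptab_T_213)
  (.node ptab_T_214
  ptab_T_215)))
  (.node (.node (.node ptab_T_216
  ptab_T_217)
  (.node ptab_T_218
  ptab_T_219))
  (.node (.node ptab_T_220
  ptab_T_221)
  (.node ptab_T_222
  ptab_T_223)))))
  (.node (.node (.node (.node (.node ptab_T_224
  ptab_T_225)
  (.node ptab_T_226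
  ptab_T_227))
  (.node (.node ptab_T_228
  ptab_T_229)
  (.node ptab_T_230
  ptab_T_231)))
  (.node (.node (.node ptab_T_232
  ptab_T_233)
  (.node ptab_T_234
  ptab_T_235))
  (.node (.node ptab_T_236
  ptab_T_237)
  (.node ptab_T_238
  ptab_T_239))))
  (.node (.node (.node (.node ptab_T_240
  ptab_T_241)
  (.node ptab_T_242
  ptab_T_243))
  (.node (.node ptab_T_244
  ptab_T_245)
  (.node ptab_T_246
  ptab_T_247)))
  (.node (.node (.node ptab_T_248
  ptab_T_249)
  (.node ptab_T_250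
  ptab_T_251))
  (.node (.node ptab_T_252
  ptab_T_253)
  (.node ptab_T_254
  ptab_T_255)))))))
noncomputable def ptab : PT := ⟨(nat_lit 306936), (nat_lit 13), (nat_lit 23), (nat_lit 1024), (nat_lit 300), ptab_T⟩

end Cfsg.Lib.Calc.Fi24
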