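import Cfsg.Agent.Lib.Calc.HUD2

/-!
# Facts about `2 × S₈`
-/

set_option autoImplicit false
set_option maxRecDepth 1000000
set_option maxHeartbeats 0
set_option Elab.async false

namespace Cfsg.Lib.Big.HU

open Cfsg.Lib.Calc Cfsg.Lib.Calc.HN Cfsg.Lib.Big.HN Cfsg.Lib.T2 Subgroup

variable {G : Type*} [Group G] {z : G} {γ : ℕ → G}

theorem f_c1_ev : hq.eval (.all 3 100 [] (.or (.one (.l 100)) (.or (.ex 0 101 [(.l 17, .l 100)] (.tt)) (.ex 0 101 [(.l 11, .l 100)] (.tt))))) = true := by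
  decide +kernel

theorem f_c1 (h : Bar z (newLet γ mN) hq.gam) :
    ∀ a ∈ genW γ (hq.ws 3), M1 z a ∨ (∃ k ∈ genW γ (hq.ws 0), Md z (k * γ 17) (a * k) ∧ True) ∨ (∃ k ∈ genW γ (hq.ws 0), Md z (k * γ 11) (a * k) ∧ True) :=
  hq_ok.trM h hq_fix f_c1_ev

theorem f_d1_ev : hq.eval (.all 1 100 [(.l 17, .l 17)] (.all 1 101 [(.l 17, .l 17)] (.imp (.one (.pow (.l 100) 3)) (.imp (.one (.mul (.l 101) (.l 101))) (.imp (.one (.pow (.mul (.l 100) (.l 101)) 3)) (.one (.l 101))))))) = true := by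
  decide +kernel

theorem f_d1 (h : Bar z (newLet γ mN) hq.gam) :
    ∀ a ∈ genW γ (hq.ws 1), Md z (a * γ 17) (γ 17 * a) → ∀ b ∈ genW γ (hq.ws 1), Md z (b * γ 17) (γ 17 * b) → M1 z (a ^ 3) → M1 z (b * b) → M1 z ((a * b) ^ 3) → M1 z b :=
  hq_ok.trM h hq_fix f_d1_ev

theorem f_d2_ev : hq.eval (.all 1 100 [(.l 11, .l 11)] (.imp (.one (.mul (.l 100) (.l 100))) (.imp (.not (.one (.l 100))) (.all 1 101 [(.l 11, .l 11)] (.imp (.one (.pow (.l 101) 3)) (.imp (.one (.pow (.mul (.l 101) (.l 100)) 3)) (.ex 0 102 [(.l 11, .l 11), (.l 5, .l 100)] (.or (.eq (.mul (.l 102) (.l 16)) (.mul (.l 101) (.l 102))) (.or (.eq (.mul (.l 102) (.mul (.l 16) (.l 11))) (.mul (.l 101) (.l 102))) (.eq (.mul (.l 102) (.mul (.mul (.l 16) (.l 11)) (.l 11))) (.mul (.l 101) (.l 102)))))))))))) = true := by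
  decide +kernel

theorem f_d2 (h : Bar z (newLet γ mN) hq.gam) :
    ∀ b ∈ genW γ (hq.ws 1), Md z (b * γ 11) (γ 11 * b) → M1 z (b * b) → ¬ M1 z b → ∀ a ∈ genW γ (hq.ws 1), Md z (a * γ 11) (γ 11 * a) → M1 z (a ^ 3) → M1 z ((a * b) ^ 3) → ∃ k ∈ genW γ (hq.ws 0), Md z (k * γ 11) (γ 11 * k) ∧ Md z (k * γ 5) (b * k) ∧ (Md z (k * γ 16) (a * k) ∨ Md z (k * (γ 16 * γ 11)) (a * k) ∨ Md z (k * (γ 16 * γ 11 * γ 11)) (a * k)) :=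
  hq_ok.trM h hq_fix f_d2_ev

theorem f_al_ev : hq.eval (.all 1 100 [(.l 11, .l 11)] (.imp (.or (.eq (.mul (.l 100) (.l 5)) (.mul (.l 5) (.l 100))) (.eq (.mul (.l 100) (.l 5)) (.mul (.l 3) (.mul (.l 5) (.l 100))))) (.or (.one (.mul (.l 100) (.l 100))) (.or (.eq (.mul (.l 100) (.l 100)) (.l 11)) (.eq (.mul (.l 100) (.l 100)) (.mul (.l 11) (.l 11))))))) = true := by
  decide +kernel

theorem f_al (h : Bar z (newLet γ mN) hq.gam) :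
    ∀ a ∈ genW γ (hq.ws 1), Md z (a * γ 11) (γ 11 * a) → Md z (a * γ 5) (γ 5 * a) ∨ Md z (a * γ 5) (γ 3 * (γ 5 * a)) → M1 z (a * a) ∨ Md z (a * a) (γ 11) ∨ Md z (a * a) (γ 11 * γ 11) :=
  hq_ok.trM h hq_fix f_al_ev

theorem f_be_ev : hq.eval (.all 1 100 [(.l 11, .l 11)] (.imp (.or (.one (.pow (.mul (.mul (.mul (.l 100) (.l 5)) (.inv (.l 100))) (.l 5)) 2)) (.eq (.pow (.mul (.mul (.mul (.l 100) (.l 5)) (.inv (.l 100))) (.l 5)) 2) (.l 3))) (.mem 2 (.pow (.l 100) 3)))) = true := by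
  decide +kernel

theorem f_be (h : Bar z (newLet γ mN) hq.gam) :
    ∀ a ∈ genW γ (hq.ws 1), Md z (a * γ 11) (γ 11 * a) → M1 z ((a * γ 5 * a⁻¹ * γ 5) ^ 2) ∨ Md z ((a * γ 5 * a⁻¹ * γ 5) ^ 2) (γ 3) → ∃ x ∈ genW γ (hq.ws 2), Md z (a ^ 3) x :=
  hq_ok.trM h hq_fix f_be_ev

theorem f_d3_ev : hq.eval (.all 3 100 [] (.imp (.one (.pow (.mul (.l 100) (.l 5)) 3)) (.all 1 101 [(.l 100, .l 100), (.l 5, .l 5)] (.imp (.one (.mul (.l 101) (.l 101))) (.imp (.not (.one (.l 101))) (.imp (.one (.pow (.mul (.l 11) (.l 101)) 3)) (.all 1 102 [(.l 101, .l 101), (.l 5, .l 5), (.l 11, .inv (.l 11)), (.l 100, .inv (.l 100))] (.all 1 103 [(.mul (.l 101) (.l 5), .mul (.l 101) (.l 5)), (.l 102, .l 101), (.l 101, .mul (.l 102) (.l 101))] (.imp (.one (.pow (.l 103) 3)) (.ex 0 104 [(.l 11, .l 11), (.l 16, .l 100), (.l 5, .l 5), (.l 14, .l 101), (.l 21, .l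 102)] (.or (.eq (.mul (.l 104) (.l 17)) (.mul (.l 103) (.l 104))) (.or (.eq (.mul (.l 104) (.mul (.mul (.l 14) (.l 17)) (.l 14))) (.mul (.l 103) (.l 104))) (.or (.eq (.mul (.l 104) (.mul (.mul (.l 21) (.l 17)) (.l 21))) (.mul (.l 103) (.l 104))) (.eq (.mul (.l 104) (.mul (.mul (.mul (.mul (.l 21) (.l 14)) (.l 17)) (.l 14)) (.l 21))) (.mul (.l 103) (.l 104)))))))))))))))) = true := by
  decide +kernel

theorem f_d3 (h : Bar z (newLet γ mN) hq.gam) :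
    ∀ e ∈ genW γ (hq.ws 3), M1 z ((e * γ 5) ^ 3) → ∀ b ∈ genW γ (hq.ws 1), Md z (b * e) (e * b) → Md z (b * γ 5) (γ 5 * b) → M1 z (b * b) → ¬ M1 z b → M1 z ((γ 11 * b) ^ 3) → ∀ c ∈ genW γ (hq.ws 1), Md z (c * b) (b * c) → Md z (c * γ 5) (γ 5 * c) → Md z (c * γ 11) ((γ 11)⁻¹ * c) → Md z (c * e) (e⁻¹ * c) → ∀ a ∈ genW γ (hq.ws 1), Md z (a * (b * γ 5)) (b * γ 5 * a) → Md z (a * c) (b * a) → Md z (a * b) (c * b * a) → M1 z (a ^ 3) → ∃ k ∈ genW γ (hq.ws 0), Md z (k * γ 11) (γ 11 * k) ∧ Md z (k * γ 16) (e * k) ∧ Md z (k * γ 5) (γ 5 * k) ∧ Md z (k * γ 14) (b * k) ∧ Md z (k * γ 21) (c * k) ∧ (Md z (k * γ 17) (a * k) ∨ Md z (k * (γ 14 * γ 17 * γ 14)) (a * k) ∨ Md z (k * (γ 21 * γ 17 * γ 21)) (a * k) ∨ Md z (k * (γ 21 * γ 14 * γ 17 * γ 14 * γ 21)) (a * k)) :=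
  hq_ok.trM h hq_fix f_d3_ev

theorem f_d6_ev : hq.eval (.all 0 100 [(.l 11, .l 11), (.l 14, .l 14), (.l 16, .inv (.l 16)), (.l 5, .mul (.mul (.inv (.l 16)) (.l 5)) (.l 16))] (.or (.eq (.l 100) (.l 19)) (.eq (.l 100) (.mul (.l 3) (.l 19))))) = true := by
  decide +kernel

theorem f_d6 (h : Bar z (newLet γ mN) hq.gam) :
    ∀ a ∈ genW γ (hq.ws 0), Md z (a * γ 11) (γ 11 * a) → Md z (a * γ 14) (γ 14 * a) → Md z (a * γ 16) ((γ 16)⁻¹ * a) → Md z (a * γ 5) ((γ 16)⁻¹ * γ 5 * γ 16 * a) → Md z a (γ 19) ∨ Md z a (γ 3 * γ 19) :=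
  hq_ok.trM h hq_fix f_d6_ev

theorem f_u1_ev : hq.eval (.all 1 100 [(.l 11, .l 11)] (.imp (.one (.pow (.l 100) 5)) (.all 1 101 [(.l 11, .l 11)] (.imp (.one (.pow (.l 101) 3)) (.imp (.one (.pow (.mul (.pow (.l 100) 2) (.l 101)) 2)) (.or (.one (.l 100)) (.ex 0 102 [(.l 11, .l 11), (.l 12, .l 100), (.l 8, .l 101)] (.tt)))))))) = true := by
  decide +kernel

theorem f_u1 (h : Bar z (newLet γ mN) hq.gam) :
    ∀ a ∈ genW γ (hq.ws 1), Md z (a * γ 11) (γ 11 * a) → M1 z (a ^ 5) → ∀ b ∈ genW γ (hq.ws 1), Md z (b * γ 11) (γ 11 * b) → M1 z (b ^ 3) → M1 z ((a ^ 2 * b) ^ 2) → M1 z a ∨ (∃ k ∈ genW γ (hq.ws 0), Md z (k * γ 11) (γ 11 * k) ∧ Md z (k * γ 12) (a * k) ∧ Md z (k * γ 8) (b * k) ∧ True) :=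
  hq_ok.trM h hq_fix f_u1_ev

theorem f_u2_ev : hq.eval (.all 1 100 [(.l 8, .l 8)] (.imp (.one (.pow (.l 100) 3)) (.imp (.one (.pow (.mul (.l 100) (.l 11)) 5)) (.imp (.one (.pow (.mul (.l 12) (.l 100)) 4)) (.ex 0 101 [(.l 11, .l 11), (.l 12, .l 12), (.l 13, .l 100)] (.tt)))))) = true := by
  decide +kernel

theorem f_u2 (h : Bar z (newLet γ mN) hq.gam) :
    ∀ a ∈ genW γ (hq.ws 1), Md z (a * γ 8) (γ 8 * a) → M1 z (a ^ 3) → M1 z ((a * γ 11) ^ 5) → M1 z ((γ 12 * a) ^ 4) → ∃ k ∈ genW γ (hq.ws 0), Md z (k * γ 11) (γ 11 * k) ∧ Md z (k * γ 12) (γ 12 * k) ∧ Md z (k * γ 13) (a * k) ∧ True :=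
  hq_ok.trM h hq_fix f_u2_ev

theorem f_u3_ev : hq.eval (.all 1 100 [(.l 11, .l 11), (.l 12, .l 12), (.l 13, .l 13)] (.or (.one (.l 100)) (.eq (.l 100) (.l 3)))) = true := by
  decide +kernel

theorem f_u3 (h : Bar z (newLet γ mN) hq.gam) :
    ∀ a ∈ genW γ (hq.ws 1), Md z (a * γ 11) (γ 11 * a) → Md z (a * γ 12) (γ 12 * a) → Md z (a * γ 13) (γ 13 * a) → M1 z a ∨ Md z a (γ 3) :=
  hq_ok.trM h hq_fix f_u3_ev


end Cfsg.Lib.Big.HU
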