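import Cfsg.Agent.Lib.Calc.HUD1

/-!
# Facts about `HS.2`
-/

set_option autoImplicit false
set_option maxRecDepth 1000000
set_option maxHeartbeats 0
set_option Elab.async false

namespace Cfsg.Lib.Big.HU

open Cfsg.Lib.Calc Cfsg.Lib.Calc.HN Cfsg.Lib.Big.HN Cfsg.Lib.T2 Subgroup

/-- conjugating words -/
def clv : List W := [.l 0, .l 26, .mul (.l 23) (.l 1), .mul (.l 26) (.l 1), .mul (.l 28) (.l 1), .mul (.l 11) (.l 17), .mul (.l 2) (.l 23), .mul (.l 11) (.l 23), .mul (.l 7) (.l 26), .mul (.l 11) (.l 26), .mul (.l 15) (.l 26), .mul (.l 25) (.l 26), .mul (.l 29) (.l 26), .mul (.l 30) (.l 26), .mul (.l 32) (.l 26), .mul (.l 34) (.l 26), .mul (.mul (.l 25) (.l 23)) (.l 1), .mul (.mul (.l 29) (.l 23)) (.l 1), .mul (.mul (.l 30) (.l 23)) (.l 1), .mul (.mul (.l 32) (.l 23)) (.l 1), .mul (.mul (.l 2) (.l 25)) (.l 1), .mul (.mul (.l 11) (.l 25)) (.l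 1), .mul (.mul (.l 30) (.l 26)) (.l 1), .mul (.mul (.l 29) (.l 28)) (.l 1), .mul (.mul (.l 30) (.l 28)) (.l 1), .mul (.mul (.l 33) (.l 29)) (.l 1), .mul (.mul (.l 3) (.l 30)) (.l 1), .mul (.mul (.l 9) (.l 30)) (.l 1), .mul (.mul (.l 11) (.l 33)) (.l 1), .mul (.mul (.l 12) (.l 28)) (.l 12), .mul (.mul (.l 11) (.l 7)) (.l 16), .mul (.mul (.l 11) (.l 23)) (.l 16), .mul (.mul (.l 36) (.l 29)) (.l 16), .mul (.mul (.l 3) (.l 30)) (.l 16), .mul (.mul (.l 9) (.l 30)) (.l 16), .mul (.mul (.l 34) (.l 30)) (.l 16), .mul (.mul (.l 25) (.l 7)) (.l 17), .mul (.mul (.l 29) (.l 11)) (.l 17), .mul (.mul (.l 3) (.l 2)) (.l 23), .mul (.mul (.l 7) (.l 2)) (.l 23), .mul (.mul (.l 11) (.l 2)) (.l 23), .mul (.mul (.l 15) (.l 2)) (.l 23), .mul (.mul (.l 31) (.l 2)) (.l 23), .mul (.mul (.l 34) (.l 2)) (.l 23), .mul (.mul (.l 36) (.l 2)) (.l 23), .mul (.mul (.l 11)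 (.l 7)) (.l 26), .mul (.mul (.l 36) (.l 25)) (.l 26)]
/-- conjugating words -/
def clx : List W := [.mul (.l 28) (.l 15), .mul (.l 33) (.l 26), .mul (.l 36) (.l 26), .mul (.l 8) (.l 31), .mul (.l 37) (.l 31), .mul (.mul (.l 28) (.l 15)) (.l 5), .mul (.mul (.l 37) (.l 24)) (.l 5), .mul (.mul (.l 8) (.l 31)) (.l 5), .mul (.mul (.l 37) (.l 31)) (.l 5), .mul (.mul (.l 22) (.l 32)) (.l 5), .mul (.mul (.l 37) (.l 1)) (.l 7), .mul (.mul (.l 16) (.l 37)) (.l 7), .mul (.mul (.l 11) (.l 7)) (.l 8), .mul (.mul (.l 24) (.l 22)) (.l 8), .mul (.mul (.l 11) (.l 25)) (.l 8), .mul (.mul (.l 34) (.l 26)) (.l 8), .mul (.mul (.l 35) (.l 26)) (.l 8), .mul (.mul (.l 3) (.l 30)) (.l 8), .mul (.mul (.l 9) (.l 30)) (.l 8), .mul (.mul (.l 34) (.l 30)) (.l 8), .mul (.mul (.l 29) (.l 28)) (.l 15), .mul (.mul (.l 12) (.l 30)) (.l 15), .mul (.mul (.l 22) (.l 24)) (.l 17),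 .mul (.mul (.l 12) (.l 32)) (.l 17), .mul (.mul (.l 22) (.l 32)) (.l 17), .mul (.mul (.l 18) (.l 37)) (.l 25), .mul (.mul (.l 20) (.l 23)) (.l 26), .mul (.mul (.l 26) (.l 24)) (.l 26), .mul (.mul (.l 34) (.l 29)) (.l 26), .mul (.mul (.l 35) (.l 29)) (.l 26), .mul (.mul (.l 3) (.l 30)) (.l 26), .mul (.mul (.l 31) (.l 33)) (.l 26), .mul (.mul (.l 29) (.l 36)) (.l 26), .mul (.mul (.l 11) (.l 23)) (.l 31), .mul (.mul (.mul (.l 24) (.l 2)) (.l 16)) (.l 2), .mul (.mul (.mul (.l 12) (.l 7)) (.l 19)) (.l 2), .mul (.mul (.mul (.l 2) (.l 2)) (.l 29)) (.l 2), .mul (.mul (.mul (.l 19) (.l 22)) (.l 35)) (.l 2), .mul (.mul (.mul (.l 28) (.l 11)) (.l 24)) (.l 5), .mul (.mul (.mul (.l 9) (.l 30)) (.l 26)) (.l 5)]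
/-- conjugating words -/
def clu : List W := [.l 23, .l 28, .l 37, .mul (.l 11) (.l 7), .mul (.l 17) (.l 7), .mul (.l 29) (.l 23), .mul (.l 30) (.l 23), .mul (.l 32) (.l 23), .mul (.l 35) (.l 23), .mul (.l 11) (.l 24), .mul (.l 10) (.l 28), .mul (.l 15) (.l 28), .mul (.l 21) (.l 28), .mul (.l 23) (.l 28), .mul (.l 29) (.l 28), .mul (.l 33) (.l 28), .mul (.l 34) (.l 28), .mul (.l 36) (.l 28), .mul (.l 33) (.l 29), .mul (.l 36) (.l 29), .mul (.l 3) (.l 30), .mul (.l 9) (.l 30), .mul (.l 34) (.l 30), .mul (.mul (.l 22) (.l 17)) (.l 2), .mul (.mul (.l 30) (.l 17)) (.l 7), .mul (.mul (.l 3) (.l 29)) (.l 23), .mul (.mul (.l 7) (.l 29)) (.l 23), .mul (.mul (.l 3) (.l 30)) (.l 23)]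
/-- conjugating words -/
def cld : List W := [.l 1, .l 16, .mul (.l 7) (.l 1), .mul (.l 23) (.l 1), .mul (.l 29) (.l 1), .mul (.l 30) (.l 1), .mul (.l 32) (.l 1), .mul (.l 11) (.l 7), .mul (.l 30) (.l 16), .mul (.l 7) (.l 17), .mul (.l 34) (.l 17), .mul (.l 35) (.l 17), .mul (.l 11) (.l 23), .mul (.l 11) (.l 25), .mul (.l 36) (.l 29), .mul (.l 3) (.l 30), .mul (.l 9) (.l 30), .mul (.l 34) (.l 30), .mul (.mul (.l 7) (.l 7)) (.l 1), .mul (.mul (.l 11) (.l 7)) (.l 1), .mul (.mul (.l 15) (.l 7)) (.l 1), .mul (.mul (.l 25) (.l 7)) (.l 1), .mul (.mul (.l 34) (.l 7)) (.l 1), .mul (.mul (.l 36) (.l 7)) (.l 1), .mul (.mul (.l 11) (.l 23)) (.l 1), .mul (.mul (.l 15) (.l 23)) (.l 1), .mul (.mul (.l 3) (.l 29)) (.l 1), .mul (.mul (.l 7) (.l 29)) (.l 1), .mul (.mul (.l 3) (.l 30)) (.l 1), .mul (.mul (.l 24) (.l 2)) (.l 2), .mul (.mul (.l 7) (.l 1)) (.l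 7), .mul (.mul (.l 34) (.l 1)) (.l 7), .mul (.mul (.l 35) (.l 1)) (.l 7), .mul (.mul (.l 25) (.l 7)) (.l 7), .mul (.mul (.l 7) (.l 16)) (.l 7), .mul (.mul (.l 34) (.l 16)) (.l 7), .mul (.mul (.l 35) (.l 16)) (.l 7), .mul (.mul (.l 34) (.l 23)) (.l 7), .mul (.mul (.l 35) (.l 23)) (.l 7), .mul (.mul (.l 17) (.l 25)) (.l 7), .mul (.mul (.l 16) (.l 33)) (.l 13), .mul (.mul (.l 19) (.l 33)) (.l 13), .mul (.mul (.l 22) (.l 37)) (.l 13), .mul (.mul (.l 3) (.l 30)) (.l 16), .mul (.mul (.l 11) (.l 7)) (.l 17), .mul (.mul (.l 15) (.l 7)) (.l 17), .mul (.mul (.l 29) (.l 7)) (.l 17), .mul (.mul (.l 20) (.l 25)) (.l 17), .mul (.mul (.l 3) (.l 29)) (.l 17), .mul (.mul (.l 9) (.l 29)) (.l 17), .mul (.mul (.l 25) (.l 31)) (.l 17), .mul (.mul (.l 33) (.l 32)) (.l 17), .mul (.mul (.l 36) (.l 32)) (.l 17), .mul (.mul (.l 11) (.l 34)) (.l 17), .mul (.mul (.l 29)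 (.l 34)) (.l 17), .mul (.mul (.l 29) (.l 35)) (.l 17), .mul (.mul (.l 1) (.l 29)) (.l 24), .mul (.mul (.l 7) (.l 16)) (.l 25), .mul (.mul (.l 18) (.l 17)) (.l 32), .mul (.mul (.mul (.l 12) (.l 28)) (.l 12)) (.l 1), .mul (.mul (.mul (.l 22) (.l 37)) (.l 13)) (.l 1), .mul (.mul (.mul (.l 7) (.l 2)) (.l 23)) (.l 1), .mul (.mul (.mul (.l 24) (.l 3)) (.l 2)) (.l 2), .mul (.mul (.mul (.l 21) (.l 24)) (.l 2)) (.l 2), .mul (.mul (.mul (.l 35) (.l 2)) (.l 12)) (.l 2), .mul (.mul (.mul (.l 26) (.l 7)) (.l 23)) (.l 2), .mul (.mul (.mul (.l 26) (.l 25)) (.l 23)) (.l 2), .mul (.mul (.mul (.l 16) (.l 30)) (.l 36)) (.l 2), .mul (.mul (.mul (.l 20) (.l 33)) (.l 1)) (.l 7), .mul (.mul (.mul (.l 11) (.l 34)) (.l 1)) (.l 7), .mul (.mul (.mul (.l 36) (.l 32)) (.l 16)) (.l 7), .mul (.mul (.mul (.l 25) (.l 30)) (.l 23)) (.l 7), .mul (.mul (.mul (.l 29) (.l 34))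 (.l 23)) (.l 7), .mul (.mul (.mul (.l 29) (.l 35)) (.l 23)) (.l 7), .mul (.mul (.mul (.l 19) (.l 11)) (.l 33)) (.l 13), .mul (.mul (.mul (.l 10) (.l 15)) (.l 7)) (.l 17)]

variable {G : Type*} [Group G] {z : G} {γ : ℕ → G}

theorem f_cl_ev : hp.eval (.all 1 100 [] (.imp (.one (.mul (.l 100) (.l 100))) (.or (.one (.l 100)) (.or (orCj 100 (.l 5) clv) (.or (orCj 100 (.l 1) clx) (.or (orCj 100 (.l 3) clu) (orCj 100 (.l 6) cld))))))) = true := by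
  decide +kernel

theorem f_cl (h : Bar z γ hp.gam) :
    ∀ a ∈ genW γ (hp.ws 1), M1 z (a * a) → M1 z a ∨ (orCj 100 (.l 5) clv).holdsM z (fun k => genW γ (hp.ws k)) (upd γ 100 a) ∨ (orCj 100 (.l 1) clx).holdsM z (fun k => genW γ (hp.ws k)) (upd γ 100 a) ∨ (orCj 100 (.l 3) clu).holdsM z (fun k => genW γ (hp.ws k)) (upd γ 100 a) ∨ (orCj 100 (.l 6) cld).holdsM z (fun k => genW γ (hp.ws k)) (upd γ 100 a) :=
  hp_ok.transferM h f_cl_ev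

theorem f_cen_ev : hp.eval (.all 2 100 [(.l 11, .l 11), (.l 7, .l 7), (.l 8, .l 8)] (.one (.l 100))) = true := by
  decide +kernel

theorem f_cen (h : Bar z γ hp.gam) :
    ∀ a ∈ genW γ (hp.ws 2), Md z (a * γ 11) (γ 11 * a) → Md z (a * γ 7) (γ 7 * a) → Md z (a * γ 8) (γ 8 * a) → M1 z a :=
  hp_ok.transferM h f_cen_ev

theorem f_C_ev : hp.eval (.all 2 100 [] (.imp (.one (.pow (.l 100) 10)) (.or (.one (.mul (.l 100) (.l 100))) (.or (.one (.pow (.l 100) 5)) (.eq (.pow (.l 100) 5) (.l 5)))))) = true := by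
  decide +kernel

theorem f_C (h : Bar z γ hp.gam) :
    ∀ a ∈ genW γ (hp.ws 2), M1 z (a ^ 10) → M1 z (a * a) ∨ M1 z (a ^ 5) ∨ Md z (a ^ 5) (γ 5) :=
  hp_ok.transferM h f_C_ev

theorem f_D_ev : hp.eval (.all 3 100 [] (.imp (.one (.pow (.l 100) 10)) (.or (.one (.mul (.l 100) (.l 100))) (.or (.one (.pow (.l 100) 5)) (.eq (.pow (.l 100) 5) (.l 6)))))) = true := by
  decide +kernel

theorem f_D (h : Bar z γ hp.gam) :
    ∀ a ∈ genW γ (hp.ws 3), M1 z (a ^ 10) → M1 z (a * a) ∨ M1 z (a ^ 5) ∨ Md z (a ^ 5) (γ 6) :=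
  hp_ok.transferM h f_D_ev

theorem f_D1_ev : hp.eval (.all 3 100 [] (.imp (.one (.pow (.l 100) 5)) (.or (.one (.l 100)) (.ex 3 101 [(.l 26, .l 100)] (.tt))))) = true := by
  decide +kernel

theorem f_D1 (h : Bar z γ hp.gam) :
    ∀ a ∈ genW γ (hp.ws 3), M1 z (a ^ 5) → M1 z a ∨ (∃ k ∈ genW γ (hp.ws 3), Md z (k * γ 26) (a * k) ∧ True) :=
  hp_ok.transferM h f_D1_ev

theorem f_D2_ev : hp.eval (.all 3 100 [] (.imp (.one (.pow (.l 100) 3)) (.imp (.one (.pow (.mul (.mul (.mul (.mul (.mul (.l 26) (.l 100)) (.pow (.l 26) 3)) (.l 100)) (.pow (.l 26) 3)) (.pow (.l 100) 2)) 2)) (.imp (.not (.one (.pow (.mul (.l 26) (.l 100)) 2))) (.ex 3 101 [(.l 26, .l 26), (.l 11, .l 100)] (.tt)))))) = true := by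
  decide +kernel

theorem f_D2 (h : Bar z γ hp.gam) :
    ∀ a ∈ genW γ (hp.ws 3), M1 z (a ^ 3) → M1 z ((γ 26 * a * γ 26 ^ 3 * a * γ 26 ^ 3 * a ^ 2) ^ 2) → ¬ M1 z ((γ 26 * a) ^ 2) → ∃ k ∈ genW γ (hp.ws 3), Md z (k * γ 26) (γ 26 * k) ∧ Md z (k * γ 11) (a * k) ∧ True :=
  hp_ok.transferM h f_D2_ev

theorem f_D3_ev : hp.eval (.all 3 100 [(.l 26, .l 26), (.l 11, .l 11)] (.or (.one (.l 100)) (.eq (.l 100) (.l 6)))) = true := by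
  decide +kernel

theorem f_D3 (h : Bar z γ hp.gam) :
    ∀ a ∈ genW γ (hp.ws 3), Md z (a * γ 26) (γ 26 * a) → Md z (a * γ 11) (γ 11 * a) → M1 z a ∨ Md z a (γ 6) :=
  hp_ok.transferM h f_D3_ev


end Cfsg.Lib.Big.HU
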