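import Cfsg.Agent.Lib.Calc.HUD1

/-!
# More facts about `HS.2`
-/

set_option autoImplicit false
set_option maxRecDepth 1000000
set_option maxHeartbeats 0
set_option Elab.async false

namespace Cfsg.Lib.Big.HU

open Cfsg.Lib.Calc Cfsg.Lib.Calc.HN Cfsg.Lib.Big.HN Cfsg.Lib.T2 Subgroup

variable {G : Type*} [Group G] {z : G} {γ : ℕ → G}

theorem f_E1_ev : hp.eval (.all 2 100 [] (.imp (.one (.pow (.l 100) 5)) (.imp (.one (.pow (.mul (.l 100) (.l 3)) 6)) (.imp (.one (.pow (.mul (.l 100) (.l 10)) 6)) (.imp (.one (.pow (.mul (.l 100) (.l 11)) 10)) (.imp (.one (.pow (.mul (.mul (.l 100) (.l 100)) (.l 11)) 5)) (.imp (.eq (.pow (.mul (.mul (.l 100) (.l 100)) (.l 9)) 4) (.l 5)) (.imp (.or (.one (.pow (.mul (.l 100) (.l 15)) 4)) (.eq (.pow (.mul (.l 100) (.l 15)) 4) (.l 5))) (.imp (.one (.pow (.mul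 (.mul (.mul (.mul (.l 100) (.l 100)) (.l 3)) (.l 11)) (.l 11)) 2)) (.or (.eq (.l 100) (.l 33)) (.or (.eq (.l 100) (.l 34)) (.or (.eq (.l 100) (.l 35)) (.eq (.l 100) (.l 36)))))))))))))) = true := by
  decide +kernel

theorem f_E1 (h : Bar z γ hp.gam) :
    ∀ a ∈ genW γ (hp.ws 2), M1 z (a ^ 5) → M1 z ((a * γ 3) ^ 6) → M1 z ((a * γ 10) ^ 6) → M1 z ((a * γ 11) ^ 10) → M1 z ((a * a * γ 11) ^ 5) → Md z ((a * a * γ 9) ^ 4) (γ 5) → M1 z ((a * γ 15) ^ 4) ∨ Md z ((a * γ 15) ^ 4) (γ 5) → M1 z ((a * a * γ 3 * γ 11 * γ 11) ^ 2) → Md z a (γ 33) ∨ Md z a (γ 34) ∨ Md z a (γ 35) ∨ Md z a (γ 36) :=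
  hp_ok.transferM h f_E1_ev

theorem f_F1_ev : hp.eval (.all 5 100 [] (.and (.one (.pow (.l 100) 4)) (.and (.or (.eq (.mul (.mul (.l 100) (.l 14)) (.inv (.l 100))) (.l 14)) (.eq (.mul (.mul (.l 100) (.l 14)) (.inv (.l 100))) (.mul (.l 27) (.l 14)))) (.and (.or (.eq (.mul (.mul (.l 100) (.mul (.mul (.l 11) (.l 14)) (.inv (.l 11)))) (.inv (.l 100))) (.mul (.mul (.l 11) (.l 14)) (.inv (.l 11)))) (.eq (.mul (.mul (.l 100) (.mul (.mul (.l 11) (.l 14)) (.inv (.l 11)))) (.inv (.l 100))) (.mul (.l 27) (.mul (.mul (.l 11) (.l 14)) (.inv (.l 11)))))) (.imp (.or (.one (.mul (.l 100) (.l 100))) (.eq (.mul (.l 100) (.l 100)) (.l 27))) (.or (.mem 6 (.l 100)) (.and (.or (.and (.one (.pow (.mul (.l 100) (.l 14)) 2)) (.not (.one (.pow (.mul (.l 100) (.mul (.mul (.l 11) (.l 14)) (.inv (.l 11)))) 2)))) (.or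 (.and (.one (.pow (.mul (.l 100) (.l 14)) 2)) (.not (.one (.pow (.mul (.l 100) (.mul (.l 14) (.mul (.mul (.l 11) (.l 14)) (.inv (.l 11))))) 2)))) (.or (.and (.one (.pow (.mul (.l 100) (.mul (.mul (.l 11) (.l 14)) (.inv (.l 11)))) 2)) (.not (.one (.pow (.mul (.l 100) (.l 14)) 2)))) (.or (.and (.one (.pow (.mul (.l 100) (.mul (.mul (.l 11) (.l 14)) (.inv (.l 11)))) 2)) (.not (.one (.pow (.mul (.l 100) (.mul (.l 14) (.mul (.mul (.l 11) (.l 14)) (.inv (.l 11))))) 2)))) (.or (.and (.one (.pow (.mul (.l 100) (.mul (.l 14) (.mul (.mul (.l 11) (.l 14)) (.inv (.l 11))))) 2)) (.not (.one (.pow (.mul (.l 100) (.l 14)) 2)))) (.and (.one (.pow (.mul (.l 100) (.mul (.l 14) (.mul (.mul (.l 11) (.l 14)) (.inv (.l 11))))) 2)) (.not (.one (.pow (.mul (.l 100) (.mul (.mul (.l 11) (.l 14)) (.inv (.l 11))))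 2))))))))) (.imp (.one (.mul (.l 100) (.l 100))) (.ex 7 101 [(.l 28, .l 100)] (.tt)))))))))) = true := by
  decide +kernel

theorem f_F1 (h : Bar z γ hp.gam) :
    ∀ a ∈ genW γ (hp.ws 5), M1 z (a ^ 4) ∧ (Md z (a * γ 14 * a⁻¹) (γ 14) ∨ Md z (a * γ 14 * a⁻¹) (γ 27 * γ 14)) ∧ (Md z (a * (γ 11 * γ 14 * (γ 11)⁻¹) * a⁻¹) (γ 11 * γ 14 * (γ 11)⁻¹) ∨ Md z (a * (γ 11 * γ 14 * (γ 11)⁻¹) * a⁻¹) (γ 27 * (γ 11 * γ 14 * (γ 11)⁻¹))) ∧ (M1 z (a * a) ∨ Md z (a * a) (γ 27) → (∃ x ∈ genW γ (hp.ws 6), Md z a x) ∨ (M1 z ((a * γ 14) ^ 2) ∧ ¬ M1 z ((a * (γ 11 * γ 14 * (γ 11)⁻¹)) ^ 2) ∨ M1 z ((a * γ 14) ^ 2) ∧ ¬ M1 z ((a * (γ 14 * (γ 11 * γ 14 * (γ 11)⁻¹))) ^ 2) ∨ M1 z ((a * (γ 11 * γ 14 * (γ 11)⁻¹)) ^ 2) ∧ ¬ M1 z ((a * γ 14) ^ 2) ∨ M1 z ((a * (γ 11 * γ 14 * (γ 11)⁻¹)) ^ 2) ∧ ¬ M1 z ((a * (γ 14 * (γ 11 * γ 14 *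 (γ 11)⁻¹))) ^ 2) ∨ M1 z ((a * (γ 14 * (γ 11 * γ 14 * (γ 11)⁻¹))) ^ 2) ∧ ¬ M1 z ((a * γ 14) ^ 2) ∨ M1 z ((a * (γ 14 * (γ 11 * γ 14 * (γ 11)⁻¹))) ^ 2) ∧ ¬ M1 z ((a * (γ 11 * γ 14 * (γ 11)⁻¹)) ^ 2)) ∧ (M1 z (a * a) → ∃ k ∈ genW γ (hp.ws 7), Md z (k * γ 28) (a * k) ∧ True)) :=
  hp_ok.transferM h f_F1_ev

theorem f_F2_ev : hp.eval (.all 6 100 [] (.or (.or (.eq (.l 100) (.pow (.l 0) 0)) (.eq (.l 100) (.mul (.l 27) (.pow (.l 0) 0)))) (.or (.or (.eq (.l 100) (.l 14)) (.eq (.l 100) (.mul (.l 27) (.l 14)))) (.or (.or (.eq (.l 100) (.mul (.mul (.l 11) (.l 14)) (.inv (.l 11)))) (.eq (.l 100) (.mul (.l 27) (.mul (.mul (.l 11) (.l 14)) (.inv (.l 11)))))) (.or (.or (.eq (.l 100) (.mul (.l 14) (.mul (.mul (.l 11) (.l 14)) (.inv (.l 11))))) (.eq (.l 100) (.mul (.l 27) (.mul (.l 14) (.mul (.mul (.l 11)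 (.l 14)) (.inv (.l 11))))))) (.or (.ex 5 101 [(.l 5, .l 100)] (.tt)) (.ex 5 101 [(.mul (.l 27) (.l 5), .l 100)] (.tt)))))))) = true := by
  decide +kernel

theorem f_F2 (h : Bar z γ hp.gam) :
    ∀ a ∈ genW γ (hp.ws 6), (Md z a (γ 0 ^ 0) ∨ Md z a (γ 27 * γ 0 ^ 0)) ∨ (Md z a (γ 14) ∨ Md z a (γ 27 * γ 14)) ∨ (Md z a (γ 11 * γ 14 * (γ 11)⁻¹) ∨ Md z a (γ 27 * (γ 11 * γ 14 * (γ 11)⁻¹))) ∨ (Md z a (γ 14 * (γ 11 * γ 14 * (γ 11)⁻¹)) ∨ Md z a (γ 27 * (γ 14 * (γ 11 * γ 14 * (γ 11)⁻¹)))) ∨ (∃ k ∈ genW γ (hp.ws 5), Md z (k * γ 5) (a * k) ∧ True) ∨ (∃ k ∈ genW γ (hp.ws 5), Md z (k * (γ 27 * γ 5)) (a * k) ∧ True) :=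
  hp_ok.transferM h f_F2_ev


end Cfsg.Lib.Big.HU
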