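import Cfsg.Agent.Lib.Calc.HUL

/-!
# Facts about `2^8.(A₅ × A₅).2`
-/

set_option autoImplicit false
set_option maxRecDepth 1000000
set_option maxHeartbeats 0
set_option Elab.async false

namespace Cfsg.Lib.Big.HU

open Cfsg.Lib.Calc Cfsg.Lib.Calc.HN Cfsg.Lib.Big.HN Cfsg.Lib.T2 Subgroup

/-- conjugating words -/
def ces : List W := [.l 0, .l 3, .l 7, .l 10, .l 12, .l 13, .l 23, .mul (.l 1) (.l 3), .mul (.l 7) (.l 3), .mul (.l 9) (.l 3), .mul (.l 10) (.l 3), .mul (.l 12) (.l 3), .mul (.l 13) (.l 3), .mul (.l 1) (.l 7), .mul (.l 2) (.l 7), .mul (.l 3) (.l 7), .mul (.l 10) (.l 7), .mul (.l 12) (.l 7), .mul (.l 13) (.l 7), .mul (.l 23) (.l 7), .mul (.l 1) (.l 10), .mul (.l 2) (.l 10), .mul (.l 3) (.l 10), .mul (.l 23) (.l 10), .mul (.l 1) (.l 12), .mul (.l 9) (.l 12), .mul (.l 1) (.l 13), .mul (.l 3) (.l 13),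 .mul (.l 7) (.l 13), .mul (.l 23) (.l 13), .mul (.l 1) (.l 23), .mul (.l 3) (.l 23), .mul (.l 9) (.l 23), .mul (.mul (.l 3) (.l 1)) (.l 3), .mul (.mul (.l 9) (.l 1)) (.l 3), .mul (.mul (.l 10) (.l 1)) (.l 3), .mul (.mul (.l 23) (.l 1)) (.l 3), .mul (.mul (.l 9) (.l 7)) (.l 3), .mul (.mul (.l 10) (.l 7)) (.l 3), .mul (.mul (.l 1) (.l 9)) (.l 3), .mul (.mul (.l 3) (.l 9)) (.l 3), .mul (.mul (.l 10) (.l 9)) (.l 3), .mul (.mul (.l 23) (.l 9)) (.l 3), .mul (.mul (.l 9) (.l 10)) (.l 3), .mul (.mul (.l 12) (.l 10)) (.l 3), .mul (.mul (.l 23) (.l 13)) (.l 3), .mul (.mul (.l 2) (.l 1)) (.l 7), .mul (.mul (.l 13) (.l 1)) (.l 7), .mul (.mul (.l 23) (.l 1)) (.l 7), .mul (.mul (.l 3) (.l 2)) (.l 7), .mul (.mul (.l 10) (.l 2)) (.l 7), .mul (.mul (.l 12) (.l 2)) (.l 7), .mul (.mul (.l 12) (.l 3)) (.l 7), .mul (.mul (.l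 23) (.l 10)) (.l 7), .mul (.mul (.l 1) (.l 12)) (.l 7), .mul (.mul (.l 10) (.l 23)) (.l 7), .mul (.mul (.l 7) (.l 2)) (.l 10), .mul (.mul (.l 10) (.l 3)) (.l 10), .mul (.mul (.l 1) (.l 9)) (.l 12), .mul (.mul (.l 10) (.l 9)) (.l 12)]
/-- conjugating words -/
def cer75 : List W := [.l 0, .l 1, .l 2, .l 7, .l 9, .l 10, .l 12, .l 13, .l 23, .mul (.l 1) (.l 1), .mul (.l 9) (.l 1), .mul (.l 10) (.l 1), .mul (.l 12) (.l 1), .mul (.l 13) (.l 1), .mul (.l 23) (.l 1), .mul (.l 1) (.l 2), .mul (.l 7) (.l 2), .mul (.l 12) (.l 2), .mul (.l 13) (.l 2), .mul (.l 23) (.l 2), .mul (.l 1) (.l 7), .mul (.l 10) (.l 7), .mul (.l 12) (.l 7), .mul (.l 13) (.l 7), .mul (.l 23) (.l 7), .mul (.l 2) (.l 9), .mul (.l 3) (.l 9), .mul (.l 7) (.l 9), .mul (.l 10) (.l 9), .mul (.l 12) (.l 9), .mul (.l 13) (.l 9), .mul (.l 2) (.l 10), .mul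 (.l 9) (.l 10), .mul (.l 23) (.l 10), .mul (.l 1) (.l 12), .mul (.l 13) (.l 12), .mul (.l 23) (.l 12), .mul (.l 3) (.l 13), .mul (.l 9) (.l 13), .mul (.l 13) (.l 13), .mul (.l 9) (.l 23), .mul (.l 23) (.l 23), .mul (.mul (.l 1) (.l 1)) (.l 1), .mul (.mul (.l 10) (.l 1)) (.l 1), .mul (.mul (.l 12) (.l 1)) (.l 1), .mul (.mul (.l 13) (.l 1)) (.l 1), .mul (.mul (.l 23) (.l 1)) (.l 1), .mul (.mul (.l 2) (.l 9)) (.l 1), .mul (.mul (.l 7) (.l 9)) (.l 1), .mul (.mul (.l 13) (.l 9)) (.l 1), .mul (.mul (.l 23) (.l 9)) (.l 1), .mul (.mul (.l 1) (.l 10)) (.l 1), .mul (.mul (.l 2) (.l 10)) (.l 1), .mul (.mul (.l 1) (.l 12)) (.l 1), .mul (.mul (.l 10) (.l 13)) (.l 1), .mul (.mul (.l 23) (.l 13)) (.l 1), .mul (.mul (.l 3) (.l 23)) (.l 1), .mul (.mul (.l 13) (.l 23)) (.l 1), .mul (.mul (.l 23) (.l 23)) (.l 1), .mul (.mul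 (.l 7) (.l 1)) (.l 2), .mul (.mul (.l 10) (.l 1)) (.l 2), .mul (.mul (.l 12) (.l 1)) (.l 2), .mul (.mul (.l 1) (.l 7)) (.l 2), .mul (.mul (.l 23) (.l 7)) (.l 2), .mul (.mul (.l 1) (.l 12)) (.l 2), .mul (.mul (.l 7) (.l 13)) (.l 2), .mul (.mul (.l 12) (.l 10)) (.l 7), .mul (.mul (.l 23) (.l 10)) (.l 7), .mul (.mul (.l 1) (.l 12)) (.l 7), .mul (.mul (.l 13) (.l 12)) (.l 7), .mul (.mul (.l 9) (.l 13)) (.l 7), .mul (.mul (.l 13) (.l 2)) (.l 9), .mul (.mul (.l 23) (.l 12)) (.l 9), .mul (.mul (.l 3) (.l 13)) (.l 12), .mul (.mul (.l 12) (.l 23)) (.l 12)]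
/-- conjugating words -/
def cer120 : List W := [.l 0, .l 1, .l 3, .l 7, .l 10, .l 12, .l 13, .l 23, .mul (.l 3) (.l 1), .mul (.l 7) (.l 1), .mul (.l 10) (.l 1), .mul (.l 12) (.l 1), .mul (.l 13) (.l 1), .mul (.l 23) (.l 1), .mul (.l 1) (.l 3), .mul (.l 7) (.l 3), .mul (.l 9) (.l 3), .mul (.l 10) (.l 3), .mul (.l 12) (.l 3), .mul (.l 13) (.l 3), .mul (.l 1) (.l 7), .mul (.l 2) (.l 7), .mul (.l 3) (.l 7), .mul (.l 10) (.l 7), .mul (.l 12) (.l 7), .mul (.l 13) (.l 7), .mul (.l 23) (.l 7), .mul (.l 1) (.l 10), .mul (.l 2) (.l 10), .mul (.l 3) (.l 10), .mul (.l 23) (.l 10), .mul (.l 1) (.l 12), .mul (.l 9) (.l 12), .mul (.l 1) (.l 13), .mul (.l 3) (.l 13), .mul (.l 7) (.l 13), .mul (.l 23) (.l 13), .mul (.l 1) (.l 23), .mul (.l 3) (.l 23), .mul (.l 9) (.l 23), .mul (.l 10) (.l 23), .mul (.l 13) (.l 23), .mul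 (.l 23) (.l 23), .mul (.mul (.l 1) (.l 3)) (.l 1), .mul (.mul (.l 7) (.l 3)) (.l 1), .mul (.mul (.l 9) (.l 3)) (.l 1), .mul (.mul (.l 10) (.l 3)) (.l 1), .mul (.mul (.l 12) (.l 3)) (.l 1), .mul (.mul (.l 13) (.l 3)) (.l 1), .mul (.mul (.l 1) (.l 7)) (.l 1), .mul (.mul (.l 2) (.l 7)) (.l 1), .mul (.mul (.l 3) (.l 7)) (.l 1), .mul (.mul (.l 10) (.l 7)) (.l 1), .mul (.mul (.l 12) (.l 7)) (.l 1), .mul (.mul (.l 13) (.l 7)) (.l 1), .mul (.mul (.l 23) (.l 7)) (.l 1), .mul (.mul (.l 1) (.l 10)) (.l 1), .mul (.mul (.l 2) (.l 10)) (.l 1), .mul (.mul (.l 3) (.l 10)) (.l 1), .mul (.mul (.l 23) (.l 10)) (.l 1), .mul (.mul (.l 9) (.l 12)) (.l 1), .mul (.mul (.l 1) (.l 13)) (.l 1), .mul (.mul (.l 3) (.l 13)) (.l 1), .mul (.mul (.l 1) (.l 23)) (.l 1), .mul (.mul (.l 3) (.l 23)) (.l 1), .mul (.mul (.l 9) (.l 23)) (.l 1),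 .mul (.mul (.l 3) (.l 1)) (.l 3), .mul (.mul (.l 9) (.l 1)) (.l 3), .mul (.mul (.l 10) (.l 1)) (.l 3), .mul (.mul (.l 23) (.l 1)) (.l 3), .mul (.mul (.l 9) (.l 7)) (.l 3), .mul (.mul (.l 10) (.l 7)) (.l 3), .mul (.mul (.l 1) (.l 9)) (.l 3), .mul (.mul (.l 2) (.l 9)) (.l 3), .mul (.mul (.l 3) (.l 9)) (.l 3), .mul (.mul (.l 7) (.l 9)) (.l 3), .mul (.mul (.l 10) (.l 9)) (.l 3), .mul (.mul (.l 13) (.l 9)) (.l 3), .mul (.mul (.l 23) (.l 9)) (.l 3), .mul (.mul (.l 9) (.l 10)) (.l 3), .mul (.mul (.l 12) (.l 10)) (.l 3), .mul (.mul (.l 10) (.l 13)) (.l 3), .mul (.mul (.l 23) (.l 13)) (.l 3), .mul (.mul (.l 2) (.l 1)) (.l 7), .mul (.mul (.l 12) (.l 1)) (.l 7), .mul (.mul (.l 13) (.l 1)) (.l 7), .mul (.mul (.l 23) (.l 1)) (.l 7), .mul (.mul (.l 3) (.l 2)) (.l 7), .mul (.mul (.l 10) (.l 2)) (.l 7), .mul (.mul (.l 12)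 (.l 2)) (.l 7), .mul (.mul (.l 12) (.l 3)) (.l 7), .mul (.mul (.l 2) (.l 10)) (.l 7), .mul (.mul (.l 23) (.l 10)) (.l 7), .mul (.mul (.l 1) (.l 12)) (.l 7), .mul (.mul (.l 9) (.l 12)) (.l 7), .mul (.mul (.l 10) (.l 13)) (.l 7), .mul (.mul (.l 9) (.l 23)) (.l 7), .mul (.mul (.l 10) (.l 23)) (.l 7), .mul (.mul (.l 13) (.l 23)) (.l 7), .mul (.mul (.l 7) (.l 2)) (.l 10), .mul (.mul (.l 10) (.l 2)) (.l 10), .mul (.mul (.l 10) (.l 3)) (.l 10), .mul (.mul (.l 3) (.l 23)) (.l 10), .mul (.mul (.l 13) (.l 23)) (.l 10), .mul (.mul (.l 13) (.l 1)) (.l 12), .mul (.mul (.l 1) (.l 9)) (.l 12), .mul (.mul (.l 10) (.l 9)) (.l 12), .mul (.mul (.l 7) (.l 1)) (.l 13), .mul (.mul (.l 10) (.l 1)) (.l 13), .mul (.mul (.l 7) (.l 1)) (.l 23), .mul (.mul (.l 12) (.l 9)) (.l 23), .mul (.mul (.l 13) (.l 9)) (.l 23), .mul (.mul (.l 23)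 (.l 9)) (.l 23), .mul (.mul (.mul (.l 1) (.l 9)) (.l 3)) (.l 1), .mul (.mul (.mul (.l 12) (.l 10)) (.l 3)) (.l 1), .mul (.mul (.mul (.l 2) (.l 1)) (.l 7)) (.l 1), .mul (.mul (.mul (.l 13) (.l 1)) (.l 7)) (.l 1), .mul (.mul (.mul (.l 12) (.l 2)) (.l 7)) (.l 1), .mul (.mul (.mul (.l 12) (.l 3)) (.l 7)) (.l 1), .mul (.mul (.mul (.l 10) (.l 3)) (.l 10)) (.l 1)]
/-- conjugating words -/
def cer3600 : List W := [.mul (.l 2) (.l 1), .mul (.l 23) (.l 3), .mul (.mul (.l 9) (.l 1)) (.l 1), .mul (.mul (.l 10) (.l 2)) (.l 1), .mul (.mul (.l 11) (.l 2)) (.l 1), .mul (.mul (.l 12) (.l 2)) (.l 1), .mul (.mul (.l 13) (.l 2)) (.l 1), .mul (.mul (.l 16) (.l 2)) (.l 1), .mul (.mul (.l 18) (.l 2)) (.l 1), .mul (.mul (.l 19) (.l 2)) (.l 1), .mul (.mul (.l 20) (.l 2)) (.l 1), .mul (.mul (.l 22) (.l 2)) (.l 1), .mul (.mul (.l 7)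 (.l 3)) (.l 1), .mul (.mul (.l 1) (.l 9)) (.l 1), .mul (.mul (.l 3) (.l 12)) (.l 1), .mul (.mul (.l 2) (.l 19)) (.l 1), .mul (.mul (.l 2) (.l 1)) (.l 2), .mul (.mul (.l 23) (.l 3)) (.l 2), .mul (.mul (.l 12) (.l 23)) (.l 3), .mul (.mul (.l 13) (.l 23)) (.l 3), .mul (.mul (.l 23) (.l 12)) (.l 7), .mul (.mul (.l 23) (.l 7)) (.l 12), .mul (.mul (.l 3) (.l 10)) (.l 13), .mul (.mul (.l 2) (.l 1)) (.l 19), .mul (.mul (.l 7) (.l 1)) (.l 23), .mul (.mul (.l 1) (.l 12)) (.l 23), .mul (.mul (.l 3) (.l 23)) (.l 23), .mul (.mul (.mul (.l 9) (.l 2)) (.l 1)) (.l 1), .mul (.mul (.mul (.l 1) (.l 3)) (.l 1)) (.l 1), .mul (.mul (.mul (.l 9) (.l 5)) (.l 1)) (.l 1), .mul (.mul (.mul (.l 9) (.l 7)) (.l 1)) (.l 1), .mul (.mul (.mul (.l 5) (.l 9)) (.l 1)) (.l 1), .mul (.mul (.mul (.l 10) (.l 9)) (.l 1)) (.l 1), .mul (.mul (.mul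 (.l 11) (.l 9)) (.l 1)) (.l 1), .mul (.mul (.mul (.l 18) (.l 9)) (.l 1)) (.l 1), .mul (.mul (.mul (.l 19) (.l 9)) (.l 1)) (.l 1), .mul (.mul (.mul (.l 20) (.l 9)) (.l 1)) (.l 1), .mul (.mul (.mul (.l 9) (.l 17)) (.l 1)) (.l 1), .mul (.mul (.mul (.l 9) (.l 22)) (.l 1)) (.l 1), .mul (.mul (.mul (.l 20) (.l 12)) (.l 2)) (.l 1), .mul (.mul (.mul (.l 18) (.l 13)) (.l 2)) (.l 1), .mul (.mul (.mul (.l 21) (.l 13)) (.l 2)) (.l 1), .mul (.mul (.mul (.l 7) (.l 5)) (.l 3)) (.l 1), .mul (.mul (.mul (.l 7) (.l 6)) (.l 3)) (.l 1), .mul (.mul (.mul (.l 5) (.l 7)) (.l 3)) (.l 1), .mul (.mul (.mul (.l 11) (.l 7)) (.l 3)) (.l 1), .mul (.mul (.mul (.l 13) (.l 7)) (.l 3)) (.l 1), .mul (.mul (.mul (.l 17) (.l 7)) (.l 3)) (.l 1), .mul (.mul (.mul (.l 20) (.l 7)) (.l 3)) (.l 1), .mul (.mul (.mul (.l 7) (.l 11)) (.l 3)) (.l 1),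 .mul (.mul (.mul (.l 7) (.l 20)) (.l 3)) (.l 1), .mul (.mul (.mul (.l 1) (.l 10)) (.l 7)) (.l 1), .mul (.mul (.mul (.l 1) (.l 2)) (.l 9)) (.l 1), .mul (.mul (.mul (.l 9) (.l 3)) (.l 9)) (.l 1), .mul (.mul (.mul (.l 1) (.l 7)) (.l 10)) (.l 1), .mul (.mul (.mul (.l 7) (.l 3)) (.l 20)) (.l 1), .mul (.mul (.mul (.l 7) (.l 13)) (.l 23)) (.l 1), .mul (.mul (.mul (.l 10) (.l 2)) (.l 1)) (.l 2), .mul (.mul (.mul (.l 11) (.l 2)) (.l 1)) (.l 2), .mul (.mul (.mul (.l 13) (.l 2)) (.l 1)) (.l 2), .mul (.mul (.mul (.l 18) (.l 2)) (.l 1)) (.l 2), .mul (.mul (.mul (.l 19) (.l 2)) (.l 1)) (.l 2), .mul (.mul (.mul (.l 21) (.l 2)) (.l 1)) (.l 2), .mul (.mul (.mul (.l 7) (.l 3)) (.l 1)) (.l 2), .mul (.mul (.mul (.l 3) (.l 12)) (.l 1)) (.l 2), .mul (.mul (.mul (.l 2) (.l 22)) (.l 1)) (.l 2), .mul (.mul (.mul (.l 23) (.l 19))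 (.l 3)) (.l 2), .mul (.mul (.mul (.l 23) (.l 12)) (.l 7)) (.l 2), .mul (.mul (.mul (.l 23) (.l 7)) (.l 12)) (.l 2), .mul (.mul (.mul (.l 2) (.l 1)) (.l 19)) (.l 2), .mul (.mul (.mul (.l 23) (.l 3)) (.l 19)) (.l 2), .mul (.mul (.mul (.l 7) (.l 1)) (.l 23)) (.l 2), .mul (.mul (.mul (.l 3) (.l 23)) (.l 23)) (.l 2), .mul (.mul (.mul (.l 23) (.l 9)) (.l 1)) (.l 3), .mul (.mul (.mul (.l 9) (.l 12)) (.l 1)) (.l 3), .mul (.mul (.mul (.l 9) (.l 13)) (.l 7)) (.l 3), .mul (.mul (.mul (.l 7) (.l 13)) (.l 10)) (.l 3), .mul (.mul (.mul (.l 7) (.l 1)) (.l 23)) (.l 5), .mul (.mul (.mul (.l 1) (.l 7)) (.l 1)) (.l 7), .mul (.mul (.mul (.l 2) (.l 10)) (.l 1)) (.l 7), .mul (.mul (.mul (.l 23) (.l 7)) (.l 2)) (.l 7), .mul (.mul (.mul (.l 23) (.l 5)) (.l 12)) (.l 7), .mul (.mul (.mul (.l 6) (.l 23)) (.l 12)) (.l 7), .mul (.mul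 (.mul (.l 13) (.l 23)) (.l 12)) (.l 7), .mul (.mul (.mul (.l 9) (.l 13)) (.l 1)) (.l 10), .mul (.mul (.mul (.l 3) (.l 1)) (.l 2)) (.l 10), .mul (.mul (.mul (.l 9) (.l 10)) (.l 2)) (.l 10), .mul (.mul (.mul (.l 1) (.l 10)) (.l 3)) (.l 10), .mul (.mul (.mul (.l 3) (.l 2)) (.l 9)) (.l 10), .mul (.mul (.mul (.l 7) (.l 1)) (.l 13)) (.l 10), .mul (.mul (.mul (.l 3) (.l 23)) (.l 13)) (.l 10), .mul (.mul (.mul (.l 3) (.l 10)) (.l 23)) (.l 10), .mul (.mul (.mul (.l 23) (.l 23)) (.l 1)) (.l 12), .mul (.mul (.mul (.l 23) (.l 7)) (.l 3)) (.l 12), .mul (.mul (.mul (.l 13) (.l 23)) (.l 7)) (.l 12), .mul (.mul (.mul (.l 1) (.l 3)) (.l 13)) (.l 12), .mul (.mul (.mul (.l 1) (.l 12)) (.l 7)) (.l 13), .mul (.mul (.mul (.l 1) (.l 7)) (.l 12)) (.l 13), .mul (.mul (.mul (.l 7) (.l 1)) (.l 23)) (.l 15), .mul (.mul (.mul (.l 7)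 (.l 1)) (.l 23)) (.l 17), .mul (.mul (.mul (.l 7) (.l 1)) (.l 23)) (.l 19), .mul (.mul (.mul (.l 3) (.l 2)) (.l 1)) (.l 23), .mul (.mul (.mul (.l 2) (.l 3)) (.l 1)) (.l 23), .mul (.mul (.mul (.l 7) (.l 5)) (.l 1)) (.l 23), .mul (.mul (.mul (.l 10) (.l 7)) (.l 1)) (.l 23), .mul (.mul (.mul (.l 11) (.l 7)) (.l 1)) (.l 23), .mul (.mul (.mul (.l 22) (.l 7)) (.l 1)) (.l 23), .mul (.mul (.mul (.l 7) (.l 18)) (.l 1)) (.l 23), .mul (.mul (.mul (.l 7) (.l 1)) (.l 3)) (.l 23), .mul (.mul (.mul (.l 3) (.l 23)) (.l 3)) (.l 23), .mul (.mul (.mul (.l 3) (.l 7)) (.l 10)) (.l 23), .mul (.mul (.mul (.l 9) (.l 3)) (.l 13)) (.l 23), .mul (.mul (.mul (.l 7) (.l 1)) (.l 19)) (.l 23), .mul (.mul (.mul (.l 13) (.l 3)) (.l 23)) (.l 23), .mul (.mul (.mul (.l 2) (.l 13)) (.l 23)) (.l 23), .mul (.mul (.mul (.mul (.l 23) (.l 9)) (.l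 12)) (.l 1)) (.l 1), .mul (.mul (.mul (.mul (.l 3) (.l 9)) (.l 13)) (.l 1)) (.l 1), .mul (.mul (.mul (.mul (.l 9) (.l 1)) (.l 23)) (.l 1)) (.l 1), .mul (.mul (.mul (.mul (.l 3) (.l 2)) (.l 7)) (.l 2)) (.l 1), .mul (.mul (.mul (.mul (.l 2) (.l 3)) (.l 7)) (.l 2)) (.l 1), .mul (.mul (.mul (.mul (.l 13) (.l 7)) (.l 5)) (.l 3)) (.l 1), .mul (.mul (.mul (.mul (.l 13) (.l 7)) (.l 6)) (.l 3)) (.l 1), .mul (.mul (.mul (.mul (.l 13) (.l 5)) (.l 7)) (.l 3)) (.l 1), .mul (.mul (.mul (.mul (.l 13) (.l 11)) (.l 7)) (.l 3)) (.l 1), .mul (.mul (.mul (.mul (.l 20) (.l 13)) (.l 7)) (.l 3)) (.l 1), .mul (.mul (.mul (.mul (.l 13) (.l 7)) (.l 20)) (.l 3)) (.l 1), .mul (.mul (.mul (.mul (.l 1) (.l 10)) (.l 7)) (.l 5)) (.l 1), .mul (.mul (.mul (.mul (.l 9) (.l 3)) (.l 9)) (.l 5)) (.l 1), .mul (.mul (.mul (.mul (.l 1) (.l 10))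 (.l 5)) (.l 7)) (.l 1), .mul (.mul (.mul (.mul (.l 5) (.l 1)) (.l 10)) (.l 7)) (.l 1), .mul (.mul (.mul (.mul (.l 18) (.l 1)) (.l 10)) (.l 7)) (.l 1), .mul (.mul (.mul (.mul (.l 20) (.l 1)) (.l 10)) (.l 7)) (.l 1), .mul (.mul (.mul (.mul (.l 1) (.l 2)) (.l 10)) (.l 7)) (.l 1), .mul (.mul (.mul (.mul (.l 9) (.l 2)) (.l 3)) (.l 9)) (.l 1), .mul (.mul (.mul (.mul (.l 1) (.l 10)) (.l 9)) (.l 10)) (.l 1), .mul (.mul (.mul (.mul (.l 9) (.l 10)) (.l 3)) (.l 23)) (.l 1), .mul (.mul (.mul (.mul (.l 9) (.l 23)) (.l 13)) (.l 23)) (.l 1), .mul (.mul (.mul (.mul (.l 1) (.l 10)) (.l 7)) (.l 1)) (.l 2), .mul (.mul (.mul (.mul (.l 23) (.l 12)) (.l 7)) (.l 5)) (.l 2), .mul (.mul (.mul (.mul (.l 23) (.l 7)) (.l 12)) (.l 5)) (.l 2), .mul (.mul (.mul (.mul (.l 1) (.l 10)) (.l 3)) (.l 10)) (.l 2), .mul (.mul (.mul (.mul (.l 9)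 (.l 12)) (.l 5)) (.l 1)) (.l 3), .mul (.mul (.mul (.mul (.l 9) (.l 7)) (.l 12)) (.l 1)) (.l 3), .mul (.mul (.mul (.mul (.l 9) (.l 12)) (.l 1)) (.l 16)) (.l 3)]
/-- conjugating words -/
def cer480 : List W := [.l 9, .mul (.l 3) (.l 1), .mul (.l 9) (.l 2), .mul (.l 1) (.l 3), .mul (.l 9) (.l 4), .mul (.l 9) (.l 5), .mul (.l 9) (.l 6), .mul (.l 5) (.l 9), .mul (.l 10) (.l 9), .mul (.l 12) (.l 9), .mul (.l 13) (.l 9), .mul (.l 20) (.l 9), .mul (.l 21) (.l 9), .mul (.l 23) (.l 9), .mul (.l 9) (.l 10), .mul (.l 9) (.l 16), .mul (.l 9) (.l 21), .mul (.l 23) (.l 23), .mul (.mul (.l 2) (.l 1)) (.l 1), .mul (.mul (.l 7) (.l 2)) (.l 1), .mul (.mul (.l 13) (.l 3)) (.l 1), .mul (.mul (.l 23) (.l 3)) (.l 1), .mul (.mul (.l 3) (.l 6)) (.l 1), .mul (.mul (.l 9) (.l 10)) (.l 1), .mul (.mul (.l 2) (.l 13)) (.l 1), .mul (.mul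 (.l 3) (.l 13)) (.l 1), .mul (.mul (.l 3) (.l 22)) (.l 1), .mul (.mul (.l 7) (.l 1)) (.l 2), .mul (.mul (.l 9) (.l 4)) (.l 2), .mul (.mul (.l 9) (.l 6)) (.l 2), .mul (.mul (.l 5) (.l 9)) (.l 2), .mul (.mul (.l 10) (.l 9)) (.l 2), .mul (.mul (.l 13) (.l 9)) (.l 2), .mul (.mul (.l 17) (.l 9)) (.l 2), .mul (.mul (.l 18) (.l 9)) (.l 2), .mul (.mul (.l 21) (.l 9)) (.l 2), .mul (.mul (.l 3) (.l 10)) (.l 2), .mul (.mul (.l 9) (.l 11)) (.l 2), .mul (.mul (.l 9) (.l 16)) (.l 2), .mul (.mul (.l 9) (.l 21)) (.l 2), .mul (.mul (.l 3) (.l 23)) (.l 2), .mul (.mul (.l 4) (.l 1)) (.l 3), .mul (.mul (.l 5) (.l 1)) (.l 3), .mul (.mul (.l 6) (.l 1)) (.l 3), .mul (.mul (.l 10) (.l 1)) (.l 3), .mul (.mul (.l 11) (.l 1)) (.l 3), .mul (.mul (.l 12) (.l 1)) (.l 3), .mul (.mul (.l 13) (.l 1)) (.l 3), .mul (.mul (.l 21) (.l 1)) (.l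 3), .mul (.mul (.l 22) (.l 1)) (.l 3), .mul (.mul (.l 1) (.l 2)) (.l 3), .mul (.mul (.l 1) (.l 7)) (.l 3), .mul (.mul (.l 2) (.l 10)) (.l 3), .mul (.mul (.l 23) (.l 10)) (.l 3), .mul (.mul (.l 1) (.l 11)) (.l 3), .mul (.mul (.l 9) (.l 12)) (.l 3), .mul (.mul (.l 7) (.l 13)) (.l 3), .mul (.mul (.l 1) (.l 18)) (.l 3), .mul (.mul (.l 1) (.l 22)) (.l 3), .mul (.mul (.l 13) (.l 9)) (.l 4), .mul (.mul (.l 3) (.l 1)) (.l 5), .mul (.mul (.l 13) (.l 9)) (.l 6), .mul (.mul (.l 13) (.l 5)) (.l 9), .mul (.mul (.l 23) (.l 5)) (.l 9), .mul (.mul (.l 13) (.l 10)) (.l 9), .mul (.mul (.l 13) (.l 12)) (.l 9), .mul (.mul (.l 11) (.l 13)) (.l 9), .mul (.mul (.l 20) (.l 13)) (.l 9), .mul (.mul (.l 13) (.l 20)) (.l 9), .mul (.mul (.l 13) (.l 23)) (.l 9), .mul (.mul (.l 23) (.l 23)) (.l 10), .mul (.mul (.l 23) (.l 23)) (.l 11),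 .mul (.mul (.l 9) (.l 1)) (.l 23), .mul (.mul (.l 13) (.l 23)) (.l 23), .mul (.mul (.mul (.l 9) (.l 1)) (.l 1)) (.l 1), .mul (.mul (.mul (.l 7) (.l 6)) (.l 2)) (.l 1), .mul (.mul (.mul (.l 4) (.l 7)) (.l 2)) (.l 1), .mul (.mul (.mul (.l 6) (.l 7)) (.l 2)) (.l 1), .mul (.mul (.mul (.l 20) (.l 7)) (.l 2)) (.l 1), .mul (.mul (.mul (.l 21) (.l 7)) (.l 2)) (.l 1), .mul (.mul (.mul (.l 23) (.l 7)) (.l 2)) (.l 1), .mul (.mul (.mul (.l 17) (.l 13)) (.l 3)) (.l 1), .mul (.mul (.mul (.l 1) (.l 3)) (.l 10)) (.l 1), .mul (.mul (.mul (.l 1) (.l 13)) (.l 10)) (.l 1), .mul (.mul (.mul (.l 7) (.l 2)) (.l 20)) (.l 1), .mul (.mul (.mul (.l 2) (.l 7)) (.l 23)) (.l 1), .mul (.mul (.mul (.l 20) (.l 7)) (.l 1)) (.l 2), .mul (.mul (.mul (.l 2) (.l 7)) (.l 3)) (.l 2), .mul (.mul (.mul (.l 3) (.l 7)) (.l 3)) (.l 2), .mul (.mul (.mul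 (.l 13) (.l 4)) (.l 1)) (.l 3), .mul (.mul (.mul (.l 13) (.l 10)) (.l 1)) (.l 3), .mul (.mul (.mul (.l 10) (.l 13)) (.l 1)) (.l 3), .mul (.mul (.mul (.l 11) (.l 13)) (.l 1)) (.l 3), .mul (.mul (.mul (.l 17) (.l 13)) (.l 1)) (.l 3), .mul (.mul (.mul (.l 2) (.l 7)) (.l 2)) (.l 3), .mul (.mul (.mul (.l 23) (.l 2)) (.l 10)) (.l 3)]
/-- conjugating words -/
def cer960 : List W := [.mul (.mul (.l 1) (.l 1)) (.l 1), .mul (.mul (.l 7) (.l 1)) (.l 1), .mul (.mul (.l 9) (.l 1)) (.l 1), .mul (.mul (.l 7) (.l 3)) (.l 1), .mul (.mul (.l 1) (.l 13)) (.l 1), .mul (.mul (.l 9) (.l 13)) (.l 7), .mul (.mul (.l 1) (.l 1)) (.l 9), .mul (.mul (.l 7) (.l 1)) (.l 9), .mul (.mul (.l 7) (.l 3)) (.l 9), .mul (.mul (.l 1) (.l 13)) (.l 9), .mul (.mul (.l 3) (.l 23)) (.l 12), .mul (.mul (.l 23) (.l 1)) (.l 13), .mul (.mul (.l 3) (.l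 9)) (.l 13), .mul (.mul (.l 1) (.l 1)) (.l 23), .mul (.mul (.l 7) (.l 1)) (.l 23), .mul (.mul (.l 9) (.l 1)) (.l 23), .mul (.mul (.l 7) (.l 3)) (.l 23), .mul (.mul (.l 1) (.l 13)) (.l 23), .mul (.mul (.mul (.l 5) (.l 1)) (.l 1)) (.l 1), .mul (.mul (.mul (.l 6) (.l 1)) (.l 1)) (.l 1), .mul (.mul (.mul (.l 12) (.l 1)) (.l 1)) (.l 1), .mul (.mul (.mul (.l 13) (.l 1)) (.l 1)) (.l 1), .mul (.mul (.mul (.l 15) (.l 1)) (.l 1)) (.l 1), .mul (.mul (.mul (.l 19) (.l 1)) (.l 1)) (.l 1), .mul (.mul (.mul (.l 20) (.l 1)) (.l 1)) (.l 1), .mul (.mul (.mul (.l 22) (.l 1)) (.l 1)) (.l 1), .mul (.mul (.mul (.l 7) (.l 3)) (.l 1)) (.l 1), .mul (.mul (.mul (.l 9) (.l 3)) (.l 1)) (.l 1), .mul (.mul (.mul (.l 7) (.l 6)) (.l 1)) (.l 1), .mul (.mul (.mul (.l 9) (.l 6)) (.l 1)) (.l 1), .mul (.mul (.mul (.l 6) (.l 7)) (.l 1)) (.l 1),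 .mul (.mul (.mul (.l 10) (.l 7)) (.l 1)) (.l 1), .mul (.mul (.mul (.l 12) (.l 7)) (.l 1)) (.l 1), .mul (.mul (.mul (.l 15) (.l 7)) (.l 1)) (.l 1), .mul (.mul (.mul (.l 2) (.l 9)) (.l 1)) (.l 1), .mul (.mul (.mul (.l 12) (.l 9)) (.l 1)) (.l 1), .mul (.mul (.mul (.l 13) (.l 9)) (.l 1)) (.l 1), .mul (.mul (.mul (.l 19) (.l 9)) (.l 1)) (.l 1), .mul (.mul (.mul (.l 20) (.l 9)) (.l 1)) (.l 1), .mul (.mul (.mul (.l 22) (.l 9)) (.l 1)) (.l 1), .mul (.mul (.mul (.l 9) (.l 19)) (.l 1)) (.l 1), .mul (.mul (.mul (.l 7) (.l 3)) (.l 2)) (.l 1), .mul (.mul (.mul (.l 7) (.l 6)) (.l 3)) (.l 1), .mul (.mul (.mul (.l 4) (.l 7)) (.l 3)) (.l 1), .mul (.mul (.mul (.l 5) (.l 7)) (.l 3)) (.l 1), .mul (.mul (.mul (.l 10) (.l 7)) (.l 3)) (.l 1), .mul (.mul (.mul (.l 17) (.l 7)) (.l 3)) (.l 1), .mul (.mul (.mul (.l 7) (.l 11)) (.l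 3)) (.l 1), .mul (.mul (.mul (.l 1) (.l 1)) (.l 10)) (.l 1), .mul (.mul (.mul (.l 13) (.l 1)) (.l 13)) (.l 1), .mul (.mul (.mul (.l 19) (.l 1)) (.l 13)) (.l 1), .mul (.mul (.mul (.l 9) (.l 13)) (.l 23)) (.l 1), .mul (.mul (.mul (.l 9) (.l 13)) (.l 7)) (.l 5), .mul (.mul (.mul (.l 9) (.l 13)) (.l 2)) (.l 7), .mul (.mul (.mul (.l 23) (.l 12)) (.l 3)) (.l 7), .mul (.mul (.mul (.l 9) (.l 13)) (.l 5)) (.l 7), .mul (.mul (.mul (.l 1) (.l 1)) (.l 9)) (.l 7), .mul (.mul (.mul (.l 7) (.l 3)) (.l 10)) (.l 7), .mul (.mul (.mul (.l 23) (.l 2)) (.l 12)) (.l 7), .mul (.mul (.mul (.l 9) (.l 6)) (.l 13)) (.l 7), .mul (.mul (.mul (.l 5) (.l 9)) (.l 13)) (.l 7), .mul (.mul (.mul (.l 11) (.l 9)) (.l 13)) (.l 7), .mul (.mul (.mul (.l 9) (.l 13)) (.l 22)) (.l 7), .mul (.mul (.mul (.l 10) (.l 7)) (.l 1)) (.l 9)]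

variable {G : Type*} [Group G] {γ : ℕ → G}

theorem e_T_ev : he.eval (.all 2 100 [] (.imp (.one (.mul (.l 100) (.l 100))) (.or (.mem 3 (.l 100)) (.or (orCj 100 (.l 9) cer3600) (.or (orCj 100 (.l 7) cer480) (orCj 100 (.l 8) cer960)))))) = true := by
  decide +kernel

theorem e_T (h : IsoW he.gam γ) :
    ∀ a ∈ genW γ (he.ws 2), a * a = 1 → a ∈ genW γ (he.ws 3) ∨ (orCj 100 (.l 9) cer3600).holds (fun k => genW γ (he.ws k)) (upd γ 100 a) ∨ (orCj 100 (.l 7) cer480).holds (fun k => genW γ (he.ws k)) (upd γ 100 a) ∨ (orCj 100 (.l 8) cer960).holds (fun k => genW γ (he.ws k)) (upd γ 100 a) :=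
  he_ok.transfer h e_T_ev

theorem e_Q_ev : he.eval (.all 3 100 [] (.and (.one (.mul (.l 100) (.l 100))) (.or (.one (.l 100)) (.or (orCj 100 (.l 4) ces) (.or (orCj 100 (.l 5) cer75) (orCj 100 (.l 6) cer120)))))) = true := by
  decide +kernel

theorem e_Q (h : IsoW he.gam γ) :
    ∀ a ∈ genW γ (he.ws 3), a * a = 1 ∧ (a = 1 ∨ (orCj 100 (.l 4) ces).holds (fun k => genW γ (he.ws k)) (upd γ 100 a) ∨ (orCj 100 (.l 5) cer75).holds (fun k => genW γ (he.ws k)) (upd γ 100 a) ∨ (orCj 100 (.l 6) cer120).holds (fun k => genW γ (he.ws k)) (upd γ 100 a)) :=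
  he_ok.transfer h e_Q_ev

theorem e_N_ev : ((he.ws 0).all fun g => (he.ws 3).all fun t => he.eval (.mem 3 (.mul (.mul (.inv g) t) g))) = true := by
  decide +kernel

theorem e_N (h : IsoW he.gam γ) : ∀ g ∈ he.ws 0, ∀ t ∈ he.ws 3, (g.ev γ)⁻¹ * t.ev γ * g.ev γ ∈ genW γ (he.ws 3) :=
  fun g hg t ht => he_ok.transfer h (φ := .mem 3 (.mul (.mul (.inv g) t) g))
    (List.all_eq_true.1 (List.all_eq_true.1 e_N_ev g hg) t ht)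

theorem e_M_ev : he.eval (.and (.mem 3 (.l 4)) (.and (.mem 3 (.l 5)) (.and (.mem 3 (.l 6)) (.and (.not (.mem 1 (.l 22))) (.and (.eq (.mul (.l 22) (.l 4)) (.mul (.l 4) (.l 22))) (.not (.one (.l 4)))))))) = true := by
  decide +kernel

theorem e_M (h : IsoW he.gam γ) :
    γ 4 ∈ genW γ (he.ws 3) ∧ γ 5 ∈ genW γ (he.ws 3) ∧ γ 6 ∈ genW γ (he.ws 3) ∧ ¬ γ 22 ∈ genW γ (he.ws 1) ∧ γ 22 * γ 4 = γ 4 * γ 22 ∧ ¬ γ 4 = 1 :=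
  he_ok.transfer h e_M_ev


end Cfsg.Lib.Big.HU
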