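import Cfsg.Agent.Lib.Calc.HUK

/-!
# Groups of type `HN`: the generator of order five
-/

set_option autoImplicit false
set_option maxRecDepth 100000
set_option linter.unusedSectionVars false

namespace Cfsg.Lib.Big.HU

open Cfsg.Lib.Calc Cfsg.Lib.Calc.HN Cfsg.Lib.Big.HN Cfsg.Lib.T2 Cfsg.Lib.ES Subgroup

variable {G : Type*} [Group G] {γ : ℕ → G}

namespace Cfg

variable [Finite G] (h : Cfg γ)
include h

theorem isConj_u [IsSimpleGroup G] : IsConj (γ 4) (γ 3) := by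
  by_contra n
  obtain ⟨j, a, e | e⟩ := h.outer
  exacts [n (a.trans (h.ju 3 h.pu e).symm), h.caseC n (a.trans (h.ju 6 h.qd e).symm)]

theorem isConj_p (ju : IsConj (γ 4) (γ 3)) : IsConj (γ 4) (γ 10) := ju.trans (isConj_iff.2 ⟨(γ 24), h.eq (by decide +kernel)⟩)

theorem isConj_v (ju : IsConj (γ 4) (γ 3)) : IsConj (γ 4) (γ 5) :=
  h.jv_of (h.isConj_p ju) ((h.isConj_p ju).trans (isConj_iff.2 ⟨(γ 11)⁻¹ * (γ 14) * (γ 11), (h.eq (by decide +kernel) : _ = (γ 10) * (γ 14))⟩)) (h.eq (by decide +kernel)) (h.ne (by decide +kernel))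
    ((isConj_iff.2 ⟨_, h.bv⟩).symm.trans (isConj_iff.2 ⟨1, h.eq (by decide +kernel)⟩))

variable {r : G} (r3 : r ^ 3 = 1) (ru : r * (γ 3) * r⁻¹ = (γ 4)) (rs : r * (γ 4) * r⁻¹ = (γ 4) * (γ 3))
  (rX : ∀ x ∈ genW γ [.l 11, .l 12, .l 13], r * x = x * r) (pr : (γ 10) * r * (γ 10)⁻¹ = r⁻¹)
include ru rX

theorem isConj_d : IsConj (γ 6) ((γ 4) * (γ 5)) := isConj_iff.2 ⟨r, by
  rw [(h.eq (by decide +kernel) : (γ 6) = (γ 3) * (γ 5)), ← conj_mul, ru, cj_of_comm (rX _ (rmem h.q (.mul (.mul (.mul (.mul (.mul (.mul (.mul (.l 12) (.l 13)) (.l 12)) (.inv (.l 13))) (.l 12)) (.l 13)) (.l 12)) (.l 12)) (by decide +kernel)))]⟩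

theorem comm_a {x : G} (e : (γ 24)⁻¹ * x * (γ 24)⁻¹⁻¹ ∈ genW γ [.l 11, .l 12, .l 13]) : (γ 24) * r * (γ 24)⁻¹ * x = x * ((γ 24) * r * (γ 24)⁻¹) := by
  have := cj_comm (k := (γ 24)) (rX _ e)
  rwa [cj_cj, mul_inv_cancel, one_mul, inv_one, mul_one] at this

include r3 rs pr

theorem exists_delta : ∃ φ : MulAut G, φ (γ 5) = (γ 4) ∧ Md (γ 4) (φ (γ 9)) (γ 3) ∧ φ r = (γ 11) ∧ φ (γ 11) = (γ 16) ∧ φ (γ 14) = (γ 5) ∧ φ (γ 4) = (γ 14) ∧ φ (γ 10) = (γ 21) ∧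
    ∀ c, r * c = c * r → (γ 24) * r * (γ 24)⁻¹ * c = c * ((γ 24) * r * (γ 24)⁻¹) → φ c * (γ 18) = (γ 18) * φ c := by
  have ju : IsConj (γ 4) (γ 3) := (isConj_iff.2 ⟨r, ru⟩).symm
  have jv := h.isConj_v ju
  have jb : IsConj (γ 4) (γ 14) := jv.trans (isConj_iff.2 ⟨_, h.bv⟩).symm
  obtain ⟨k, hk⟩ := isConj_iff.1 jv.symm
  have j1 : IsConj (γ 4) (k * (γ 9) * k⁻¹) := jv.trans (isConj_iff.2 ⟨k * (γ 8), by rw [← cj_cj, (h.eq (by decide +kernel) : (γ 8) * (γ 5) * (γ 8)⁻¹ = (γ 9))]⟩)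
  obtain ⟨k, e⟩ : ∃ k, Fr γ 3 k (γ 5) (γ 9) := by
    rcases h.cls2 j1 (jv.trans (isConj_iff.2 ⟨k * (γ 16), by
      rw [← cj_cj, (h.eq (by decide +kernel) : (γ 16) * (γ 5) * (γ 16)⁻¹ = (γ 5) * (γ 9)), ← conj_mul, hk]⟩)) (hk ▸ cj_comm (h.eq (by decide +kernel))) with f | f
    · exact ty_norm hk f
    · exact absurd ((j1.trans (h.ju 6 h.qd f).symm).trans (h.isConj_d ru rX)) h.nz
  have rv := rX _ (rmem h.q (.mul (.mul (.mul (.mul (.mul (.mul (.mul (.l 12) (.l 13)) (.l 12)) (.inv (.l 13))) (.l 12)) (.l 13)) (.l 12)) (.l 12)) (by decide +kernel) : (γ 5) ∈ _)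
  have rw2 := rX _ (rmem h.q (.mul (.mul (.mul (.l 13) (.l 12)) (.l 13)) (.l 12)) (by decide +kernel) : (γ 9) ∈ _)
  have rb := rX _ (rmem h.q (.mul (.mul (.mul (.mul (.l 11) (.l 13)) (.inv (.l 11))) (.inv (.l 13))) (.l 11)) (by decide +kernel) : (γ 14) ∈ _)
  have r1 : r ≠ 1 := fun e => h.ne (by decide +kernel) (show (γ 3) = (γ 4) by simpa [e] using ru)
  obtain ⟨k, e, kr, kb, kg⟩ := h.norm4 (A := (γ 11)) (B := (γ 14)) e r3 r1 rv rw2 (h.eq (by decide +kernel)) (h.eq (by decide +kernel)) (rX _ (lmem γ 11)).symm (h.eq (by decide +kernel))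
    (h.eq (by decide +kernel)) rb.symm (h.eq (by decide +kernel)) (h.eq (by decide +kernel)) (h.eq (by decide +kernel)) (h.ne (by decide +kernel)) (h.ne (by decide +kernel))
  replace kb := h.exact_of (k := 1) (jb.trans (isConj_iff.2 ⟨k, rfl⟩)) kb (by simp) (by simp)
  have a1 : (γ 24) * r * (γ 24)⁻¹ * (γ 10) = (γ 4) * ((γ 24) * r * (γ 24)⁻¹) := mul_inv_eq_iff_eq_mul.1 (by
    rw [← (h.eq (by decide +kernel) : (γ 24) * (γ 3) * (γ 24)⁻¹ = (γ 10)), conj_inv, conj_mul, conj_mul, ru, cj_of_comm (h.cs _)])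
  have a2 : (γ 24) * r * (γ 24)⁻¹ * (γ 4) = (γ 10) * (γ 4) * ((γ 24) * r * (γ 24)⁻¹) := mul_inv_eq_iff_eq_mul.1 (by
    rw [← cj_of_comm (h.cs 24), conj_inv, conj_mul, conj_mul, rs]; exact h.eq (by decide +kernel))
  have a3 : (r * (γ 4)) ^ 3 = 1 := by
    have : (r * (γ 4)) ^ 3 = r * (γ 4) * r⁻¹ * (r * (r * (γ 4) * r⁻¹) * r⁻¹) * r ^ 3 * (γ 4) := by simp [pow_succ, mul_assoc]
    rw [this, r3, rs, ← conj_mul, rs, ru]; exact h.eq (by decide +kernel)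
  obtain ⟨l, ml, f1, f2, f3, f4, f5, f6⟩ := f_d3 h.barN (k * (γ 11) * k⁻¹) (by
      have m1 : (γ 16) ∈ genW γ (hq.ws 3) := lmem γ _
      have m2 : (γ 11) ∈ genW γ (hq.ws 3) := lmem γ _
      rcases kg with f | f | f <;> rw [f]
      exacts [m1, mul_mem m1 m2, mul_mem (mul_mem m1 m2) m2])
    (Or.inl (by rw [← kb, conj_mul]; exact cj_pw (h.eq (by decide +kernel)))) _ (h.fr_mem (x := (γ 4)) e (h.cs _).symm (h.cs _).symm)
    (Or.inl (cj_comm (h.cs _).symm)) (Or.inl (kb ▸ cj_comm (h.cs _).symm)) (Or.inl (cj_sq h.s2))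
    (h.nm1_cj e.1 h.s1 (h.ne (x := (γ 5)) (by decide +kernel)).symm) (Or.inl (by rw [← kr, conj_mul]; exact cj_pw a3)) _
    (h.fr_mem (x := (γ 10)) e (h.eq (by decide +kernel)) (h.eq (by decide +kernel))) (Or.inl (cj_comm (h.cs _))) (Or.inl (kb ▸ cj_comm (h.eq (by decide +kernel))))
    (Or.inl (by rw [← kr, conj_inv, conj_mul, conj_mul, mul_inv_eq_iff_eq_mul.1 pr]))
    (Or.inl (by rw [conj_inv, conj_mul, conj_mul, (h.eq (by decide +kernel) : (γ 10) * (γ 11) = (γ 11)⁻¹ * (γ 10))])) _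
    (h.fr_mem (x := (γ 24) * r * (γ 24)⁻¹) e (h.comm_a ru rX (rmem h.q (.mul (.mul (.mul (.mul (.mul (.l 12) (.l 13)) (.l 12)) (.inv (.l 13))) (.inv (.l 12))) (.inv (.l 12))) (by decide +kernel)))
      (h.comm_a ru rX (rmem h.q (.mul (.mul (.mul (.mul (.mul (.mul (.inv (.l 13)) (.l 12)) (.l 13)) (.inv (.l 12))) (.inv (.l 12))) (.inv (.l 13))) (.l 12)) (by decide +kernel))))
    (Or.inl (by rw [← kb, conj_mul]; exact cj_comm (h.comm_a ru rX (rmem h.q (.mul (.mul (.mul (.mul (.mul (.mul (.mul (.mul (.mul (.l 13) (.l 12)) (.l 12)) (.l 13)) (.l 11)) (.l 13)) (.l 12)) (.inv (.l 11))) (.l 13)) (.l 11)) (by decide +kernel)))))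
    (Or.inl (by rw [conj_mul, conj_mul, a1])) (Or.inl (by rw [conj_mul, conj_mul, conj_mul, a2])) (Or.inl (cj_pw (cj_pw r3)))
  have c := h.csq ml
  have e1 := h.fr_mulN e ml
  have ex : ∀ {x y k' : G}, IsConj (γ 4) x → Md (γ 4) (l * y) (k * x * k⁻¹ * l) → k' * (γ 4) = (γ 4) * k' → k' * y * k'⁻¹ = (γ 5) →
      l⁻¹ * k * x * (l⁻¹ * k)⁻¹ = y := fun j f a b =>
    h.exact_of (j.trans (isConj_iff.2 ⟨_, rfl⟩)) (cj_cj l⁻¹ k _ ▸ md_of_cj f c h.s2) a b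
  have g1 := h.keep kr f1 c (h.cs _) (n := 3) (by decide) (h.eq (by decide +kernel))
  refine ⟨MulAut.conj (l⁻¹ * k), e1.1, e1.2, g1, h.odd f2 c (h.cs _) (n := 3) (by decide) (h.eq (by decide +kernel)) (h.eq (by decide +kernel)),
    ex (k' := 1) jb (kb ▸ f3) (by simp) (by simp), ex (IsConj.refl _) f4 h.csw h.bv,
    ex (k' := ((γ 12) * (γ 13) * (γ 11) * (γ 13) * (γ 12) * (γ 11))) (h.isConj_p ju) f5 h.csw (h.eq (by decide +kernel)), fun x x1 x2 => ?_⟩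
  have key : ∀ t : W, Md (γ 4) (l * t.ev γ) (k * ((γ 24) * r * (γ 24)⁻¹) * k⁻¹ * l) → (t.ev γ) ^ 3 = 1 → (γ 18) ∈ genW γ [.l 11, t] →
      MulAut.conj (l⁻¹ * k) x * (γ 18) = (γ 18) * MulAut.conj (l⁻¹ * k) x := fun t f t3 m =>
    comm_genW (List.forall_mem_cons.2 ⟨(g1 ▸ cj_comm x1.symm :), List.forall_mem_singleton.2
      (h.odd f c (h.mem0.1 (h.evmem t)) (n := 3) (by decide) (cj_pw r3) t3 ▸ cj_comm x2.symm :)⟩) _ m
  rcases f6 with f | f | f | f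
  · exact key (.l 17) f (h.eq (x := (γ 17) ^ 3) (by decide +kernel)) (rmem h.q (.mul (.mul (.mul (.l 17) (.l 11)) (.inv (.l 17))) (.l 11)) (by decide +kernel))
  · exact key (.mul (.mul (.l 14) (.l 17)) (.l 14)) f (h.eq (x := ((γ 14) * (γ 17) * (γ 14)) ^ 3) (by decide +kernel)) (rmem h.q (.mul (.mul (.mul (.mul (.mul (.mul (.inv (.l 11)) (.mul (.mul (.l 14) (.l 17)) (.l 14))) (.inv (.l 11))) (.inv (.mul (.mul (.l 14) (.l 17)) (.l 14)))) (.inv (.l 11))) (.mul (.mul (.l 14) (.l 17)) (.l 14))) (.l 11)) (by decide +kernel))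
  · exact key (.mul (.mul (.l 21) (.l 17)) (.l 21)) f (h.eq (x := ((γ 21) * (γ 17) * (γ 21)) ^ 3) (by decide +kernel)) (rmem h.q (.mul (.mul (.mul (.mul (.mul (.mul (.l 11) (.mul (.mul (.l 21) (.l 17)) (.l 21))) (.l 11)) (.inv (.mul (.mul (.l 21) (.l 17)) (.l 21)))) (.l 11)) (.mul (.mul (.l 21) (.l 17)) (.l 21))) (.l 11)) (by decide +kernel))
  · exact key (.mul (.mul (.mul (.mul (.l 21) (.l 14)) (.l 17)) (.l 14)) (.l 21)) f (h.eq (x := ((γ 21) * (γ 14) * (γ 17) * (γ 14) * (γ 21)) ^ 3) (by decide +kernel))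
      (rmem h.q (.mul (.mul (.mul (.mul (.mul (.mul (.mul (.l 21) (.l 14)) (.l 17)) (.l 14)) (.l 21)) (.inv (.l 11))) (.inv (.mul (.mul (.mul (.mul (.l 21) (.l 14)) (.l 17)) (.l 14)) (.l 21)))) (.l 11)) (by decide +kernel))

omit r3 ru rs rX pr

theorem exists_T (ju : IsConj (γ 4) (γ 3)) : ∃ T : G, T ^ 5 = 1 ∧ (γ 1)⁻¹ * T * (γ 1) * T ^ 2 = 1 ∧ T⁻¹ * (γ 2)⁻¹ * T * (γ 2) = 1 ∧ ((γ 3) * T) ^ 3 = 1 := by
  obtain ⟨r, r3, ru, rs, rX, pr⟩ := h.exists_ru ju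
  obtain ⟨φ, v1, w1, r1, g1, b1, s1, p1, hc⟩ := h.exists_delta r3 ru rs rX pr
  have u1 : φ (γ 3) = (γ 11)⁻¹ * (γ 14) * (γ 11) := by rw [← cj_inv ru, inv_inv, map_mul, map_mul, map_inv, r1, s1]
  obtain ⟨T, hT⟩ := φ.surjective (γ 18)
  obtain ⟨ξ, hξ⟩ := φ.surjective (γ 23)
  have cT : ∀ {c}, φ c * (γ 18) = (γ 18) * φ c → T * c = c * T := fun e => φ.injective (by rw [map_mul, map_mul, hT, e])
  have ys : φ (γ 15) * (γ 4) = (γ 4) * φ (γ 15) := by rw [← v1, ← map_mul, ← map_mul]; exact congrArg φ (h.eq (by decide +kernel))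
  have yu : φ (γ 15) * φ (γ 9) = (γ 4) * (φ (γ 9) * φ (γ 15)) := by
    rw [← v1, ← map_mul, ← map_mul, ← map_mul]; exact congrArg φ (h.eq (by decide +kernel))
  have y1 := f_d6 h.barN (φ (γ 15)) ((h.memN ys).2 (((w1.symm h.s2).mul_left ys).trans
      (Md.trans (Or.inr yu) (w1.mul_right _) h.s2) h.s2))
    (Or.inl (by rw [← r1, ← map_mul, ← map_mul, rX _ (rmem h.q (.mul (.mul (.mul (.mul (.mul (.mul (.inv (.l 13)) (.inv (.l 11))) (.l 13)) (.l 12)) (.l 11)) (.l 13)) (.inv (.l 12))) (by decide +kernel))]))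
    (Or.inl (by rw [← s1, ← map_mul, ← map_mul, h.cs]))
    (Or.inl (by rw [← g1, ← map_inv, ← map_mul, ← map_mul]; exact congrArg φ (h.eq (by decide +kernel))))
    (Or.inl (by rw [← g1, ← b1, ← map_inv, ← map_mul, ← map_mul, ← map_mul, ← map_mul]; exact congrArg φ (h.eq (by decide +kernel))))
  have tl := cT (hc (γ 13) (rX _ (lmem γ _)) (h.comm_a ru rX (rmem h.q (.mul (.mul (.mul (.mul (.inv (.l 12)) (.l 13)) (.l 12)) (.l 12)) (.l 13)) (by decide +kernel))))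
  have tf := cT (hc (γ 12) (rX _ (lmem γ _)) (h.comm_a ru rX (rmem h.q (.mul (.l 12) (.inv (.l 13))) (by decide +kernel))))
  have ty : T * (γ 15) = (γ 15) * T := cT (by rcases y1 with (e | e) | e | e <;> rw [e] <;> exact h.eq (by decide +kernel))
  have tx : T * ξ = ξ * T := cT (hξ ▸ h.eq (by decide +kernel))
  have xs : ξ * (γ 4) = (γ 4) * ξ := φ.injective (by rw [map_mul, map_mul, hξ, s1]; exact h.eq (by decide +kernel))
  have x5 : ξ ^ 5 = 1 := φ.injective (by rw [map_pow, hξ, map_one]; exact h.eq (by decide +kernel))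
  have x3 : (ξ * ξ * (γ 10) * (γ 3)) ^ 3 = 1 := φ.injective (by simp only [map_pow, map_mul, map_one, hξ, p1, u1]; exact h.eq (by decide +kernel))
  have := f_E1 h.bar ξ ((h.memC xs).2 (Or.inl (φ.injective (by rw [map_mul, map_mul, hξ, v1]; exact h.cs _)))) (Or.inl x5)
    (Or.inl (φ.injective (by simp only [map_pow, map_mul, map_one, hξ, u1]; exact h.eq (by decide +kernel))))
    (Or.inl (φ.injective (by simp only [map_pow, map_mul, map_one, hξ, p1]; exact h.eq (by decide +kernel))))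
    (Or.inl (φ.injective (by simp only [map_pow, map_mul, map_one, hξ, g1]; exact h.eq (by decide +kernel))))
    (Or.inl (φ.injective (by simp only [map_pow, map_mul, map_one, hξ, g1]; exact h.eq (by decide +kernel))))
    (Or.inl (φ.injective (by simp only [map_pow, map_mul, hξ, v1]; rcases w1 with e | e <;> rw [e] <;> exact h.eq (by decide +kernel))))
    (by
      rcases y1 with e | e
      · exact .inr (.inl (φ.injective (by simp only [map_pow, map_mul, hξ, v1]; rcases e with e | e <;> rw [e] <;> exact h.eq (by decide +kernel))))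
      · exact .inl (.inl (φ.injective (by
          simp only [map_pow, map_mul, map_one, hξ]; rcases e with e | e <;> rw [e] <;> exact h.eq (by decide +kernel)))))
    (Or.inl (φ.injective (by simp only [map_pow, map_mul, map_one, hξ, g1, u1]; exact h.eq (by decide +kernel))))
  have ex : ∀ {c}, Md (γ 4) ξ (γ c) → γ c ^ 5 = 1 → ξ = γ c := fun e c5 => e.eq_of_odd h.ord (h.cs _).symm (n := 5) (by decide) x5 c5
  have key : ∀ c, ξ = γ c → (γ 2) ∈ genW γ [.l 13, .l 12, .l 15, .l c] → T * (γ 2) = (γ 2) * T := fun c e => comm_genW (by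
    simp only [List.forall_mem_cons, ev_l]; exact ⟨tl, tf, ty, e ▸ tx, by simp⟩) _
  have tq := comm_genW (ts := [.l 13, .l 12, .l 15]) (by simp only [List.forall_mem_cons, ev_l]; exact ⟨tl, tf, ty, by simp⟩)
    (((γ 3) * (γ 10) * (γ 11))⁻¹ * (γ 1)) (rmem h.q (.mul (.mul (.l 12) (.l 15)) (.inv (.l 12))) (by decide +kernel))
  have tq2 : ((γ 3) * (γ 10) * (γ 11))⁻¹ * T * ((γ 3) * (γ 10) * (γ 11)) * T ^ 2 = 1 :=
    φ.injective (by simp only [map_pow, map_mul, map_one, map_inv, hT, g1, u1, p1]; exact h.eq (by decide +kernel))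
  refine ⟨T, φ.injective (by rw [map_pow, hT, map_one]; exact h.eq (by decide +kernel)), ?_, ?_,
    φ.injective (by simp only [map_pow, map_mul, map_one, hT, u1]; exact h.eq (by decide +kernel))⟩
  · generalize (γ 3) * (γ 10) * (γ 11) = q at tq tq2
    have e : (γ 1)⁻¹ * T * (γ 1) * T ^ 2 = (q⁻¹ * (γ 1))⁻¹ * (q⁻¹ * T * q) * (q⁻¹ * (γ 1) * T ^ 2) := by group
    rw [e, ← comm_pow tq 2, eq_inv_of_mul_eq_one_left tq2]; group
  · have : T * (γ 2) = (γ 2) * T := by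
      rcases this with e | e | e | e <;> replace e := ex e (h.eq (by decide +kernel))
      · exact key _ e (rmem h.q (.mul (.mul (.mul (.mul (.mul (.mul (.mul (.inv (.l 12)) (.inv (.l 33))) (.l 12)) (.inv (.l 33))) (.inv (.l 12))) (.l 13)) (.inv (.l 33))) (.l 13)) (by decide +kernel))
      · exact absurd ((h.eq (by decide +kernel) : ((γ 34) * (γ 34) * (γ 10) * (γ 3)) ^ 3 = (γ 4)).symm.trans (e ▸ x3)) h.s1
      · exact key _ e (rmem h.q (.mul (.mul (.mul (.mul (.mul (.mul (.inv (.l 35)) (.inv (.l 35))) (.l 13)) (.inv (.l 12))) (.inv (.l 13))) (.inv (.l 35))) (.l 12)) (by decide +kernel))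
      · exact absurd ((h.eq (by decide +kernel) : ((γ 36) * (γ 36) * (γ 10) * (γ 3)) ^ 3 = (γ 4)).symm.trans (e ▸ x3)) h.s1
    rw [mul_assoc, mul_assoc, this]; group

end Cfg

end Cfsg.Lib.Big.HU
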