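import Cfsg.Agent.Lib.Calc.HUE
import Cfsg.Agent.Lib.Calc.HVA
import Cfsg.Agent.Lib.Calc.HV0

/-!
# The centraliser `4.HS.2`: elements of order three
-/

set_option autoImplicit false
set_option maxRecDepth 100000
set_option linter.unusedSectionVars false

namespace Cfsg.Lib.Big.HU

open Cfsg.Lib.Calc Cfsg.Lib.Calc.HN Cfsg.Lib.Big.HN Cfsg.Lib.T2 Cfsg.Lib.ES Subgroup

variable {G : Type*} [Group G] {γ : ℕ → G} {ω : G}

/-- the letters and `ω` generate the centraliser of `γ 4` -/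
structure Cz (γ : ℕ → G) (ω : G) : Prop where
  ord : orderOf (γ 4) = 2
  bar : Bar (γ 4) γ hp.gam
  q : QuoW gH γ
  cen : ∀ a, a * (γ 4) = (γ 4) * a → a ∈ genW γ (hp.ws 0) ∨ a * ω ∈ genW γ (hp.ws 0)
  rM : ∀ c, parW (· != 5) (labW labs c) = true → ω * γ c = γ c * ω
  ru : ω * (γ 3) * ω⁻¹ = (γ 4) * (γ 3)
  r2 : ω * ω = (γ 4)
  jH : ∀ a, IsConj (γ 4) a → a * (γ 4) = (γ 4) * a → a ∈ genW γ (hp.ws 0)
  nz : ¬ IsConj (γ 4) ((γ 4) * (γ 5))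
  jv : IsConj (γ 4) (γ 5)
  jo : IsConj (γ 4) (γ 3) ∨ IsConj (γ 4) (γ 6)

/-- conjugate to `γ 4` or of odd order -/
def Ok (γ : ℕ → G) (a : G) : Prop := IsConj (γ 4) a ∨ ∃ n, Odd n ∧ a ^ n = 1

theorem ok3 {a : G} (e : a ^ 3 = 1) : Ok γ a := .inr ⟨3, by decide, e⟩
theorem ok5 {a : G} (e : a ^ 5 = 1) : Ok γ a := .inr ⟨5, by decide, e⟩

theorem smem (γ : ℕ → G) (k : ℕ) (e : (hp.ws k).any (W.beq (.l 4)) = true := by decide) : (γ 4) ∈ genW γ (hp.ws k) :=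
  have ⟨_, a, b⟩ := List.any_eq_true.1 e
  mem_genW γ (t := .l 4) (W.eq_of_beq b ▸ a)

namespace Cz

variable (h : Cz γ ω)
include h

theorem s2 : (γ 4) * (γ 4) = 1 := mul_self_of_orderOf_two h.ord
theorem s1 : (γ 4) ≠ 1 := ne_one_of_orderOf_two h.ord
theorem eq {x y : G} {s t : W} [Rf γ x s] [Rf γ y t] (e : eH.weq gc gi s t = true) : x = y := req h.q e
theorem evmem (t : W) : t.ev γ ∈ genW γ (hp.ws 0) := h.bar.mem (smem γ 0) (ev_mem_of_forall hp_mem t)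
theorem wm {x : G} {t : W} [a : Rf γ x t] : x ∈ genW γ (hp.ws 0) := a.e ▸ h.evmem t
theorem cH {a : G} (m : a ∈ genW γ (hp.ws 0)) : a * (γ 4) = (γ 4) * a := (comm_genW (by
  simp only [show hp.ws 0 = [.l 1, .l 2, .l 3, .l 4] from rfl, List.forall_mem_cons, ev_l]
  exact ⟨h.eq (by decide +kernel), h.eq (by decide +kernel), h.eq (by decide +kernel), trivial, by simp⟩) a m).symm
theorem cs (c : ℕ) : γ c * (γ 4) = (γ 4) * γ c := h.cH h.wm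
theorem csw {x : G} {t : W} [Rf γ x t] : x * (γ 4) = (γ 4) * x := h.cH h.wm
theorem le0 {ts : List W} : genW γ ts ≤ genW γ (hp.ws 0) := genW_le.2 fun t _ => h.evmem t
theorem cs0 {ts : List W} {a : G} (ha : a ∈ genW γ ts) : a * (γ 4) = (γ 4) * a := h.cH (h.le0 ha)
theorem memC {a : G} (a1 : a ∈ genW γ (hp.ws 0)) : a ∈ genW γ (hp.ws 2) ↔ Md (γ 4) (a * (γ 5)) ((γ 5) * a) :=
  h.bar.cen_iff (x := .l 5) hp_cen2 (smem γ 2) a1
theorem memD {a : G} (a1 : a ∈ genW γ (hp.ws 0)) : a ∈ genW γ (hp.ws 3) ↔ Md (γ 4) (a * (γ 6)) ((γ 6) * a) :=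
  h.bar.cen_iff (x := .l 6) hp_cen3 (smem γ 3) a1
theorem memN {a : G} (a1 : a ∈ genW γ (hp.ws 0)) : a ∈ genW γ (hq.ws 0) ↔ Md (γ 4) (a * (γ 3)) ((γ 3) * a) :=
  h.bar.cen_iff (x := .l 3) hp_cen4 (smem γ 4) a1
theorem ne {x y : G} {s t : W} [Rf γ x s] [Rf γ y t] (e : hp.eval (.not (.eq s t)) = true) : x ≠ y :=
  fun k => hp_ok.nmd h.bar e (Or.inl k)
theorem card (k : ℕ) (e : (hp.ws k).any (W.beq (.l 4)) = true := by decide) :
    Nat.card (genW γ (hp.ws k)) = 2 * Nat.card (hp.K k) := h.bar.card h.ord (smem γ k e)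
theorem barN : Bar (γ 4) (newLet γ mN) hq.gam := (h.bar.newLet mN).iso isoN
theorem cardq (k : ℕ) (e : (hq.ws k).any (W.beq (.l 4)) = true := by decide) :
    Nat.card (genW γ (hq.ws k)) = 2 * Nat.card (hq.K k) := by
  rw [← congrFun (PM.ws_fix hq_fix γ) k]
  obtain ⟨_, a, b⟩ := List.any_eq_true.1 e
  exact h.barN.card h.ord (mem_genW (newLet γ mN) (t := .l 4) (W.eq_of_beq b ▸ a))
theorem v2 : (γ 5) * (γ 5) = 1 := h.eq (by decide +kernel)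
theorem pu : (γ 10) * (γ 3) * (γ 10)⁻¹ = (γ 4) * (γ 3) := h.eq (by decide +kernel)
theorem qd : (γ 20) * (γ 6) * (γ 20)⁻¹ = (γ 4) * (γ 6) := h.eq (by decide +kernel)
theorem rd : ω * (γ 6) * ω⁻¹ = (γ 4) * (γ 6) := by
  rw [(h.eq (by decide +kernel) : (γ 6) = (γ 5) * (γ 3)), ← conj_mul, h.ru, cj_of_comm (h.rM 5 (by decide +kernel))]; exact h.eq (by decide +kernel)

theorem rn : ∀ x ∈ genW γ (hp.ws 0), ω * x * ω⁻¹ ∈ genW γ (hp.ws 0) := by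
  have := conj_mem_genW (γ := γ) (ts := [.l 1, .l 2, .l 3, .l 4]) (p := ω⁻¹) (K := genW γ (hp.ws 0)) (by
    simp only [List.forall_mem_cons, ev_l, inv_inv, h.ru, cj_of_comm (h.rM 1 (by decide +kernel)), cj_of_comm (h.rM 2 (by decide +kernel)), cj_of_comm (h.rM 4 (by decide +kernel))]
    exact ⟨h.wm, h.wm, h.wm, h.wm, by simp⟩)
  rwa [inv_inv] at this

theorem ext : ∃ K, Ext2 K (genW γ (hp.ws 0)) ω ∧ ∀ a, a * (γ 4) = (γ 4) * a → a ∈ K :=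
  have ⟨K, k⟩ := exists_ext2 h.rn (h.r2 ▸ h.wm)
  ⟨K, k, fun a e => (k.mem a).2 (h.cen a e)⟩

theorem nr : ω ∉ genW γ (hp.ws 0) := fun m => h.s1 (h.r2 ▸ (f_cen h.bar ω ((h.memC m).2 (.inl (h.rM 5 (by decide +kernel)))) (.inl (h.rM 11 (by decide +kernel)))
  (.inl (h.rM 7 (by decide +kernel))) (.inl (h.rM 8 (by decide +kernel)))).sq h.s2)

theorem okH {k x : G} (o : Ok γ x) (c : k * x * k⁻¹ * (γ 4) = (γ 4) * (k * x * k⁻¹)) : k * x * k⁻¹ ∈ genW γ (hp.ws 0) := by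
  obtain j | ⟨n, o, e⟩ := o
  · exact h.jH _ (j.trans (isConj_iff.2 ⟨k, rfl⟩)) c
  · obtain ⟨K, e2, m⟩ := h.ext
    exact (e2.pow_odd (m _ c) o).1 (cj_pw (k := k) e ▸ one_mem _)

theorem cmp {k a : G} (e : k * (γ 5) * k⁻¹ = (γ 4)) (m : a ∈ genW γ (hp.ws 0)) (c : a * (γ 5) = (γ 5) * a) : k * a * k⁻¹ ∈ genW γ (hp.ws 0) := by
  have o : ∀ {x}, Ok γ x → x * (γ 5) = (γ 5) * x → k * x * k⁻¹ ∈ genW γ (hp.ws 0) := fun o c => h.okH o (e ▸ cj_comm c)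
  have := conj_mem_genW (γ := γ) (ts := [.l 25, .l 3, .l 4]) (p := k⁻¹) (K := genW γ (hp.ws 0)) (by
    simp only [List.forall_mem_cons, ev_l, inv_inv]
    have s := o (.inl (IsConj.refl (γ 4))) (h.cs 5).symm
    refine ⟨?_, ?_, s, by simp⟩
    · rw [(h.eq (by decide +kernel) : (γ 25) = (γ 4) * ((γ 4) * (γ 25) ^ 3) * (γ 25) ^ 4), ← conj_mul, ← conj_mul]
      exact mul_mem (mul_mem s (o (.inl (h.jv.trans (isConj_iff.2 ⟨((γ 20) * (γ 2) * (γ 13) * (γ 1)), h.eq (by decide +kernel)⟩)))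
        (h.eq (by decide +kernel)))) (o (ok3 (h.eq (by decide +kernel))) (h.eq (by decide +kernel)))
    · refine h.jo.elim (fun j => o (.inl j) (h.eq (by decide +kernel))) fun j => ?_
      rw [(h.eq (by decide +kernel) : (γ 3) = (γ 5) * (γ 6)), ← conj_mul, e]
      exact mul_mem h.wm (o (.inl j) (h.eq (by decide +kernel)))) a ((h.memC m).2 (.inl c))
  rwa [inv_inv] at this

theorem no7 {a : G} (ha : a ∈ genW γ (hp.ws 3)) (a7 : a ^ 7 = 1) : a = 1 := by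
  have : a ^ Nat.card (genW γ (hp.ws 3)) = 1 := congrArg Subtype.val (pow_card_eq_one' (x := (⟨a, ha⟩ : genW γ (hp.ws 3))))
  rw [h.card 3, hp_card3] at this; exact eq_one_of_coprime (by norm_num) a7 this

theorem fr_mul {c : ℕ} {k a b l : G} (e : Fr γ c k a b) (l1 : l * (γ 4) = (γ 4) * l) (l2 : Md (γ 4) (l * γ c) (γ c * l)) :
    Fr γ c (l⁻¹ * k) a b :=
  ⟨by rw [← cj_cj, e.1, cj_of_comm (comm_inv l1)], by
    rw [← cj_cj]; exact (e.2.cj (comm_inv l1)).trans (md_of_cj l2 l1 h.s2) h.s2⟩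

omit h in
theorem fr_comm {c : ℕ} {k a b x : G} (e : Fr γ c k a b) (x1 : x * a = a * x) (x2 : x * b = b * x) :
    k * x * k⁻¹ * (γ 4) = (γ 4) * (k * x * k⁻¹) ∧ k * x * k⁻¹ * γ c = γ c * (k * x * k⁻¹) :=
  have a := e.1 ▸ cj_comm (k := k) x1
  ⟨a, comm_of_md e.2 (cj_comm x2) a⟩

theorem odd {a b k l : G} (e : Md (γ 4) (l * b) (k * a * k⁻¹ * l)) (l1 : l * (γ 4) = (γ 4) * l) (c : b * (γ 4) = (γ 4) * b) {n : ℕ} (hn : Odd n)
    (ha : a ^ n = 1) (hb : b ^ n = 1) : l⁻¹ * k * a * (l⁻¹ * k)⁻¹ = b := by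
  rw [← cj_cj]; exact (md_of_cj e l1 h.s2).eq_of_odd h.ord c.symm hn (cj_pw (cj_pw ha)) hb

theorem keep {a b k l : G} (f : k * a * k⁻¹ = b) (e : Md (γ 4) (l * b) (b * l)) (l1 : l * (γ 4) = (γ 4) * l) (c : b * (γ 4) = (γ 4) * b) {n : ℕ}
    (hn : Odd n) (hb : b ^ n = 1) : l⁻¹ * k * a * (l⁻¹ * k)⁻¹ = b := by
  rw [← cj_cj, f]; exact (md_of_cj e l1 h.s2).eq_of_odd h.ord c.symm hn (cj_pw hb) hb

omit h in
theorem nm1_cj {k a x : G} (e : k * a * k⁻¹ = (γ 4)) (x1 : x ≠ 1) (x2 : x ≠ a) : ¬ M1 (γ 4) (k * x * k⁻¹) := fun f =>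
  f.elim (fun f => x1 (conj_eq_one_iff.1 f)) fun f => x2 (by rw [← cj_inv f, cj_inv e])

omit h in
theorem ju (c : ℕ) {p : G} (e : p * γ c * p⁻¹ = (γ 4) * γ c) {x : G} (f : Ty γ c x) : IsConj (γ c) x := by
  obtain ⟨k, -, f | f⟩ := f
  · exact (isConj_iff.2 ⟨k, f⟩).symm
  · exact (isConj_iff.2 ⟨p, e⟩).trans (isConj_iff.2 ⟨k, f⟩).symm

theorem exact_of {x y k : G} (j : IsConj (γ 4) x) (e : Md (γ 4) x y) (c : k * (γ 4) = (γ 4) * k) (f : k * y * k⁻¹ = (γ 5)) : x = y :=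
  e.resolve_right fun e => h.nz (j.trans (isConj_iff.2 ⟨k, by rw [e, ← conj_mul, f, cj_of_comm c]⟩))

theorem bv : ((γ 12) * (γ 13) * (γ 11) * (γ 13) * (γ 12) * (γ 12) * (γ 11) * (γ 13)) * (γ 14) * ((γ 12) * (γ 13) * (γ 11) * (γ 13) * (γ 12) * (γ 12) * (γ 11) * (γ 13))⁻¹ = (γ 5) := h.eq (by decide +kernel)

variable [Finite G]

theorem cls {a : G} (a1 : a ∈ genW γ (hp.ws 0)) (a2 : a * a = 1) : M1 (γ 4) a ∨ Ty γ 5 a ∨ Ty γ 3 a ∨ Ty γ 6 a := by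
  have hl : genW γ (hp.ws 1) ≤ genW γ (hp.ws 0) := h.le0
  have e := relIndex_mul_card hl
  rw [h.card 1, h.card 0, hp_card1, hp_card0] at e
  obtain ⟨k, mk, b⟩ := exists_conj_mem_of_odd (H := genW γ (hp.ws 1)) (by omega) a1 a2
  have m := upd_forall (P := fun _ x => x ∈ genW γ (hp.ws 0)) (v := 100) (fun c => h.evmem (.l c)) (hl b)
  have key : ∀ {c l}, c ≠ 100 → (orCj 100 (.l c) l).holdsM (γ 4) (fun k => genW γ (hp.ws k)) (upd γ 100 (k * a * k⁻¹)) →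
      Ty γ c a := fun hc e => by
    obtain ⟨g, mg, e⟩ := orCj_ex m e
    rw [upd_self, ev_l, upd_of_ne _ _ hc] at e
    refine ⟨g⁻¹ * k, h.cH (mul_mem (inv_mem mg) mk), ?_⟩
    rw [← cj_cj, inv_inv]; exact e.conj (h.cH mg)
  rcases f_cl h.bar _ b (Or.inl (cj_sq a2)) with e | e | e | e | e
  · refine Or.inl (e.imp conj_eq_one_iff.1 fun e => ?_)
    rw [← cj_inv e, cj_of_comm (comm_inv (h.cH mk))]
  · exact .inr (.inl (key (by decide) e))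
  · obtain ⟨g, -, e⟩ := key (by decide) e
    have := e.sq h.s2 (h.cs 1).symm
    rw [cj_sq a2, (h.eq (by decide +kernel) : (γ 1) * (γ 1) = (γ 4))] at this
    exact absurd this.symm h.s1
  · exact .inr (.inr (.inl (key (by decide) e)))
  · exact .inr (.inr (.inr (key (by decide) e)))

theorem cls2 {j : G} (a : IsConj (γ 4) j) (b : IsConj (γ 4) ((γ 4) * j)) (c : j * (γ 4) = (γ 4) * j) : Ty γ 3 j ∨ Ty γ 6 j := by
  rcases h.cls (h.jH j a c) (sq_of_conj h.s2 a) with (e | e) | ⟨k, c, e | e⟩ | e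
  · rw [e, isConj_one_left] at a; exact absurd a h.s1
  · rw [e, h.s2, isConj_one_left] at b; exact absurd b h.s1
  · exact absurd (b.trans (isConj_iff.2 ⟨k, by rw [← conj_mul, e, cj_of_comm c]⟩)) h.nz
  · exact absurd (a.trans (isConj_iff.2 ⟨k, e⟩)) h.nz
  · exact e

theorem cmp' {k a : G} (e : k * (γ 5) * k⁻¹ = (γ 4)) (c1 : a * (γ 4) = (γ 4) * a) (m : k * a * k⁻¹ ∈ genW γ (hp.ws 0)) :
    a ∈ genW γ (hp.ws 0) := by
  have j : IsConj (γ 4) (k * (γ 4) * k⁻¹) := isConj_iff.2 ⟨k, rfl⟩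
  have c : k * (γ 4) * k⁻¹ * (γ 4) = (γ 4) * (k * (γ 4) * k⁻¹) := by have := cj_comm (k := k) (h.cs 5).symm; rwa [e] at this
  have n : ∀ c p, p * γ c * p⁻¹ = (γ 4) * γ c → ¬ Ty γ c (k * (γ 4) * k⁻¹) := fun c p f ⟨l, a, b⟩ => h.nz (by
    refine (j.trans ((ju c f ⟨l, a, b⟩).symm.trans (ju c f (x := (γ 4) * (k * (γ 4) * k⁻¹)) ⟨l, a, ?_⟩))).trans
      (isConj_iff.2 ⟨k, ?_⟩).symm
    · rw [← conj_mul, cj_of_comm a]; exact Md.trans (Or.inr rfl) b h.s2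
    · rw [← h.cs 5, ← conj_mul, e])
  rcases h.cls (h.jH _ j c) (cj_sq h.s2) with (f | f) | ⟨l, b, f | f⟩ | f | f
  · exact absurd (conj_eq_one_iff.1 f) h.s1
  · exact absurd (by rw [← cj_inv e, cj_inv f]) (h.ne (by decide +kernel) : (γ 5) ≠ (γ 4))
  · obtain ⟨K, e2, mK⟩ := h.ext
    rw [cj_cj] at f
    have := h.cmp (cj_inv f) (cj_cj l k a ▸ e2.cj l (mK l b) _ m) (f ▸ cj_comm c1)
    rwa [cj_back] at this
  · exact absurd (j.trans (isConj_iff.2 ⟨l, f⟩)) h.nz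
  exacts [absurd f (n 3 _ h.pu), absurd f (n 6 _ h.qd)]

theorem memU {a : G} (m : a ∈ genW γ (hp.ws 0)) : a ∈ genW γ (hq.ws 1) ↔ a * (γ 3) = (γ 3) * a := by
  have e : genW γ (hq.ws 1) = genW γ (hq.ws 0) ⊓ centralizer {(γ 3)} := by
    refine eq_of_index_two (C := genW γ (hq.ws 0)) (le_inf (genW_le.2 ?_) (genW_le_centralizer ?_)) inf_le_left (fun e => ?_)
      (by rw [h.cardq 0, h.cardq 1, hq_card0, hq_card1])
    · simp only [show hq.ws 1 = [.l 3, .l 11, .l 22, .l 4] from rfl, List.forall_mem_cons, ev_l]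
      exact ⟨lmem γ _, lmem γ _, lmem γ _, lmem γ _, by simp⟩
    · simp only [show hq.ws 1 = [.l 3, .l 11, .l 22, .l 4] from rfl, List.forall_mem_cons, ev_l]
      exact ⟨trivial, h.eq (by decide +kernel), h.eq (by decide +kernel), h.eq (by decide +kernel), by simp⟩
    · have := mem_centralizer_singleton_iff.1 (e.ge (lmem γ 10)).2
      rw [(h.eq (by decide +kernel) : (γ 10) * (γ 3) = (γ 4) * ((γ 3) * (γ 10))), mul_eq_right] at this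
      exact h.s1 this
  rw [e, mem_inf, mem_centralizer_singleton_iff]
  exact ⟨fun a => a.2, fun a => ⟨(h.memN m).2 (Or.inl a), a⟩⟩

theorem fr_mem {k a b x : G} (e : Fr γ 3 k a b) (x1 : x * a = a * x) (x2 : x * b = b * x) (o : Ok γ x) :
    k * x * k⁻¹ ∈ genW γ (hq.ws 1) :=
  (h.memU (h.okH o (fr_comm e x1 x2).1)).2 (fr_comm e x1 x2).2

theorem fr_mulN {k a b l : G} (e : Fr γ 3 k a b) (m : l ∈ genW γ (hq.ws 0)) : Fr γ 3 (l⁻¹ * k) a b :=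
  h.fr_mul e (h.cs0 m) ((h.memN (h.le0 m)).1 m)

section Norm

variable {k a b r A B : G} (e : Fr γ 3 k a b) (r3 : r ^ 3 = 1) (r1 : r ≠ 1) (ra : r * a = a * r) (rb : r * b = b * r)
  (Aa : A * a = a * A) (Ab : A * b = b * A) (Ar : A * r = r * A) (Ba : B * a = a * B) (Bb : B * b = b * B) (Br : B * r = r * B)
  (A3 : A ^ 3 = 1) (jB : IsConj (γ 4) B) (AB : (A * B) ^ 3 = 1) (B0 : B ≠ a)
include e r3 r1 ra rb Aa Ab Ar Ba Bb Br A3 jB AB B0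

theorem norm3 : ∃ k, Fr γ 3 k a b ∧ k * r * k⁻¹ = (γ 11) := by
  have B1 : B ≠ 1 := fun e => h.s1 (isConj_one_left.1 (e ▸ jB))
  have hl : genW γ (hq.ws 3) ≤ genW γ (hq.ws 1) := genW_le.2 (by
    simp only [show hq.ws 3 = [.l 11, .l 16, .l 4] from rfl, List.forall_mem_cons, ev_l, h.memU h.wm]
    exact ⟨h.eq (by decide +kernel), h.eq (by decide +kernel), (h.cs _).symm, by simp⟩)
  have c := relIndex_mul_card hl
  rw [h.cardq 1, h.cardq 3, hq_card1, hq_card3] at c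
  have : Fact (Nat.Prime 3) := Nat.fact_prime_three
  obtain ⟨l, ml, hl⟩ := exists_conj_le_of_not_dvd (p := 3) (H := genW γ (hq.ws 3)) (by omega)
    (IsPGroup.of_card (n := 1) ((Nat.card_zpowers _).trans (orderOf_eq_prime (cj_pw (k := k) r3) fun e => r1 (conj_eq_one_iff.1 e))))
    (zpowers_le.2 (h.fr_mem e ra rb (ok3 r3)))
  have e1 := h.fr_mul e (comm_inv (h.cs0 ml)) (Or.inl (comm_inv ((h.memU (h.le0 ml)).1 ml)))
  have m := hl _ (mem_zpowers _)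
  rw [cj_cj, ← inv_inv l] at m
  generalize l⁻¹⁻¹ * k = k at e1 m
  rcases f_c1 h.barN _ m with f | ⟨l, ml, f, -⟩ | ⟨l, ml, f, -⟩
  · exact absurd (conj_eq_one_iff.1 (f.eq_one h.ord (n := 3) (by decide) (cj_pw r3))) r1
  · have e2 := h.fr_mulN e1 ml
    have f2 := h.odd f (h.cs0 ml) (h.cs _) (n := 3) (by decide) r3 (h.eq (by decide +kernel))
    exact absurd (f_d1 h.barN _ (h.fr_mem e2 Aa Ab (ok3 A3)) (Or.inl (f2 ▸ cj_comm Ar)) _ (h.fr_mem e2 Ba Bb (.inl jB))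
      (Or.inl (f2 ▸ cj_comm Br)) (Or.inl (cj_pw A3)) (Or.inl (cj_sq (sq_of_conj h.s2 jB)))
      (Or.inl (by rw [conj_mul]; exact cj_pw AB))) (nm1_cj e2.1 B1 B0)
  · exact ⟨_, h.fr_mulN e1 ml, h.odd f (h.cs0 ml) (h.cs _) (n := 3) (by decide) r3 (h.eq (by decide +kernel))⟩

theorem norm4 : ∃ k, Fr γ 3 k a b ∧ k * r * k⁻¹ = (γ 11) ∧ Md (γ 4) (k * B * k⁻¹) (γ 5) ∧
    (k * A * k⁻¹ = (γ 16) ∨ k * A * k⁻¹ = (γ 16) * (γ 11) ∨ k * A * k⁻¹ = (γ 16) * (γ 11) * (γ 11)) := by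
  have B1 : B ≠ 1 := fun e => h.s1 (isConj_one_left.1 (e ▸ jB))
  obtain ⟨k, e, f⟩ := h.norm3 e r3 r1 ra rb Aa Ab Ar Ba Bb Br A3 jB AB B0
  obtain ⟨l, ml, f1, f2, f3⟩ := f_d2 h.barN _ (h.fr_mem e Ba Bb (.inl jB)) (Or.inl (f ▸ cj_comm Br))
    (Or.inl (cj_sq (sq_of_conj h.s2 jB))) (nm1_cj e.1 B1 B0) _ (h.fr_mem e Aa Ab (ok3 A3)) (Or.inl (f ▸ cj_comm Ar))
    (Or.inl (cj_pw A3)) (Or.inl (by rw [conj_mul]; exact cj_pw AB))
  have c := h.cs0 ml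
  refine ⟨_, h.fr_mulN e ml, h.keep f f1 c (h.cs _) (n := 3) (by decide) (h.eq (by decide +kernel)),
    cj_cj l⁻¹ k B ▸ md_of_cj f2 c h.s2, f3.imp (fun f => ?_) (Or.imp (fun f => ?_) fun f => ?_)⟩ <;>
  exact h.odd f c h.csw (n := 3) (by decide) A3 (h.eq (by decide +kernel))

end Norm

theorem fr_ex {c : ℕ} {p : G} (e : p * γ c * p⁻¹ = (γ 4) * γ c) (j : IsConj (γ 4) (γ c)) :
    ∃ k, Fr γ 3 k (γ c) (γ 4) ∨ Fr γ 6 k (γ c) (γ 4) := by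
  obtain ⟨k, hk⟩ := isConj_iff.1 j.symm
  have := h.cls2 (j := k * (γ 4) * k⁻¹) (isConj_iff.2 ⟨k, rfl⟩) (j.trans (isConj_iff.2 ⟨k * p, by
    rw [← cj_cj, e, ← h.cs c, ← conj_mul, hk]⟩)) (by have := cj_comm (k := k) (h.cs c); rw [hk] at this; exact this.symm)
  rcases this with f | f <;> obtain ⟨k, f⟩ := ty_norm hk f
  exacts [⟨k, Or.inl f⟩, ⟨k, Or.inr f⟩]

theorem cenV {c : ℕ} {X : Subgroup G} (r1 : ω * γ c * ω⁻¹ = (γ 4) * γ c) (r2 : ∀ x ∈ X, ω * x = x * ω)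
    (f : ∀ a ∈ genW γ (hp.ws 0), Md (γ 4) (a * γ c) (γ c * a) → (∀ x ∈ X, a * x = x * a) → M1 (γ 4) a ∨ Md (γ 4) a (γ c)) (a : G)
    (c1 : a * (γ 4) = (γ 4) * a) (c2 : a * γ c = γ c * a) (c3 : ∀ x ∈ X, a * x = x * a) : M1 (γ 4) a ∨ Md (γ 4) a (γ c) := by
  refine (h.cen a c1).elim (fun m => f a m (.inl c2) c3) fun m => absurd (mul_eq_right.1 (?_ : _ * γ c = _)) h.s1
  have e : a * ω * γ c * (a * ω)⁻¹ = (γ 4) * γ c := by rw [← cj_cj, r1, ← conj_mul, cj_of_comm c1, cj_of_comm c2]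
  refine e.symm.trans (cj_of_comm ?_)
  rcases f _ m (Md.to_cj (.inr e)) fun x mx => comm_mul (c3 x mx) (r2 x mx) with (k | k) | k | k <;> rw [k]
  exacts [by simp, (h.cs c).symm, by rw [← mul_assoc, h.cs c]]

theorem cenU : ∀ c, c * (γ 4) = (γ 4) * c → c * (γ 3) = (γ 3) * c → (∀ x ∈ genW γ [.l 11, .l 12, .l 13], c * x = x * c) → M1 (γ 4) c ∨ Md (γ 4) c (γ 3) :=
  h.cenV h.ru (comm_genW (by simp only [List.forall_mem_cons, ev_l]; exact ⟨h.rM _ (by decide +kernel), h.rM _ (by decide +kernel), h.rM _ (by decide +kernel), by simp⟩))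
    fun c c1 c2 c3 => v_u h.barN c ((h.memN c1).2 c2) (Or.inl (c3 _ (lmem γ _))) (Or.inl (c3 _ (lmem γ _))) (Or.inl (c3 _ (lmem γ _)))

theorem rXd : ∀ x ∈ genW γ [.l 26, .l 11], ω * x = x * ω :=
  comm_genW (by simp only [List.forall_mem_cons, ev_l]; exact ⟨h.rM _ (by decide +kernel), h.rM _ (by decide +kernel), by simp⟩)

theorem cenD : ∀ c, c * (γ 4) = (γ 4) * c → c * (γ 6) = (γ 6) * c → (∀ x ∈ genW γ [.l 26, .l 11], c * x = x * c) → M1 (γ 4) c ∨ Md (γ 4) c (γ 6) :=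
  h.cenV h.rd h.rXd fun c c1 c2 c3 => f_D3 h.bar c ((h.memD c1).2 c2) (Or.inl (c3 _ (lmem γ _))) (Or.inl (c3 _ (lmem γ _)))

theorem exists_ru (j : IsConj (γ 4) (γ 3)) : ∃ r, r ^ 3 = 1 ∧ r * (γ 3) * r⁻¹ = (γ 4) ∧ r * (γ 4) * r⁻¹ = (γ 4) * (γ 3) ∧
    (∀ x ∈ genW γ [.l 11, .l 12, .l 13], r * x = x * r) ∧ (γ 10) * r * (γ 10)⁻¹ = r⁻¹ := by
  obtain ⟨k, e | e⟩ := h.fr_ex h.pu j
  swap
  · have := fr_comm (x := (γ 22)) e (h.eq (by decide +kernel)) (h.cs _)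
    exact absurd (conj_eq_one_iff.1 (h.no7 ((h.memD (h.okH (.inr ⟨7, by decide, h.eq (by decide +kernel)⟩) this.1)).2 (Or.inl this.2))
      (cj_pw (h.eq (by decide +kernel))))) (h.ne (by decide +kernel))
  obtain ⟨k, e, f⟩ := h.norm3 (r := (γ 11)) (A := (γ 16)) (B := (γ 5)) e (h.eq (by decide +kernel)) (h.ne (by decide +kernel)) (h.eq (by decide +kernel)) (h.cs _) (h.eq (by decide +kernel)) (h.cs _) (h.eq (by decide +kernel))
    (h.eq (by decide +kernel)) (h.cs _) (h.eq (by decide +kernel)) (h.eq (by decide +kernel)) h.jv (h.eq (by decide +kernel)) (h.ne (by decide +kernel))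
  obtain ⟨l, ml, f1, f2, f3, -⟩ := (f_u1 h.barN _ (h.fr_mem (x := (γ 12)) e (h.eq (by decide +kernel)) (h.cs _) (ok5 (h.eq (by decide +kernel))))
    (Or.inl (f ▸ cj_comm (h.eq (by decide +kernel)))) (Or.inl (cj_pw (h.eq (by decide +kernel)))) _ (h.fr_mem (x := (γ 8)) e (h.eq (by decide +kernel)) (h.cs _) (ok3 (h.eq (by decide +kernel))))
    (Or.inl (f ▸ cj_comm (h.eq (by decide +kernel)))) (Or.inl (cj_pw (h.eq (by decide +kernel))))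
    (Or.inl (by rw [conj_pow, conj_mul]; exact cj_pw (h.eq (by decide +kernel))))).resolve_left (nm1_cj e.1 (h.ne (by decide +kernel)) (h.ne (by decide +kernel)))
  have e1 := h.fr_mulN e ml
  have g1 := h.keep f f1 (h.cs0 ml) (h.cs _) (n := 3) (by decide) (h.eq (by decide +kernel))
  have g2 := h.odd f2 (h.cs0 ml) (h.cs _) (n := 5) (by decide) (h.eq (by decide +kernel)) (h.eq (by decide +kernel))
  have g3 := h.odd f3 (h.cs0 ml) (h.cs _) (n := 3) (by decide) (h.eq (by decide +kernel)) (h.eq (by decide +kernel))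
  generalize l⁻¹ * k = k at e1 g1 g2 g3
  obtain ⟨l, ml, f1, f2, f3, -⟩ := f_u2 h.barN _ (h.fr_mem (x := (γ 13)) e1 (h.eq (by decide +kernel)) (h.cs _) (ok3 (h.eq (by decide +kernel))))
    (Or.inl (g3 ▸ cj_comm (h.eq (by decide +kernel)))) (Or.inl (cj_pw (h.eq (by decide +kernel)))) (Or.inl (by rw [← g1, conj_mul]; exact cj_pw (h.eq (by decide +kernel))))
    (Or.inl (by rw [← g2, conj_mul]; exact cj_pw (h.eq (by decide +kernel))))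
  have e2 := h.fr_mulN e1 ml
  have i1 := h.keep g1 f1 (h.cs0 ml) (h.cs _) (n := 3) (by decide) (h.eq (by decide +kernel))
  have i2 := h.keep g2 f2 (h.cs0 ml) (h.cs _) (n := 5) (by decide) (h.eq (by decide +kernel))
  have i3 := h.odd f3 (h.cs0 ml) (h.cs _) (n := 3) (by decide) (h.eq (by decide +kernel)) (h.eq (by decide +kernel))
  obtain ⟨r, a1, a2, a3, a4, a5⟩ := exists_r (X := genW γ [.l 11, .l 12, .l 13]) h.s2 (h.cs 3).symm h.s1 (h.ne (by decide +kernel)) (h.ne (by decide +kernel)) e2.1 e2.2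
    (comm_genW (by simp only [List.forall_mem_cons, ev_l]; exact ⟨comm_of_cj i1, comm_of_cj i2, comm_of_cj i3, by simp⟩))
    (cj_of_comm (h.cs 10)) h.pu (conj_mem_genW (by
      simp only [List.forall_mem_cons, ev_l]
      exact ⟨rmem h.q (.inv (.l 11)) (by decide +kernel), rmem h.q (.l 12) (by decide +kernel), rmem h.q (.l 13) (by decide +kernel), by simp⟩)) h.cenU
  exact ⟨r, a1, a2, a3, a4, a5 (h.eq (by decide +kernel))⟩

theorem qXd : ∀ x ∈ genW γ [.l 26, .l 11], (γ 20)⁻¹ * x * (γ 20) ∈ genW γ [.l 26, .l 11] := conj_mem_genW (by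
  simp only [List.forall_mem_cons, ev_l]
  exact ⟨rmem h.q (.mul (.mul (.mul (.mul (.mul (.mul (.l 26) (.l 26)) (.l 11)) (.inv (.l 26))) (.inv (.l 11))) (.l 26)) (.l 11)) (by decide +kernel), rmem h.q (.inv (.l 11)) (by decide +kernel), by simp⟩)

theorem exists_rd (nu : ¬ IsConj (γ 4) (γ 3)) (j : IsConj (γ 4) (γ 6)) : ∃ r, r ^ 3 = 1 ∧ r * (γ 6) * r⁻¹ = (γ 4) ∧ r * (γ 4) * r⁻¹ = (γ 4) * (γ 6) ∧
    ∀ x ∈ genW γ [.l 26, .l 11], r * x = x * r := by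
  obtain ⟨k, e | e⟩ := h.fr_ex h.qd j
  · exact absurd ((isConj_iff.2 ⟨k, rfl⟩).trans (ju 3 h.pu ⟨1, by simp, by simpa using e.2⟩).symm) nu
  have mem : ∀ {k x}, Fr γ 6 k (γ 6) (γ 4) → x * (γ 6) = (γ 6) * x → x * (γ 4) = (γ 4) * x → Ok γ x → k * x * k⁻¹ ∈ genW γ (hp.ws 3) :=
    fun e a b o => (h.memD (h.okH o (fr_comm e a b).1)).2 (Or.inl (fr_comm e a b).2)
  obtain ⟨l, ml, f, -⟩ := (f_D1 h.bar _ (mem (x := (γ 26)) e (h.eq (by decide +kernel)) (h.cs _) (ok5 (h.eq (by decide +kernel)))) (Or.inl (cj_pw (h.eq (by decide +kernel))))).resolve_left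
    (nm1_cj e.1 (h.ne (by decide +kernel)) (h.ne (by decide +kernel)))
  have e1 := h.fr_mul e (h.cs0 ml) ((h.memD (h.le0 ml)).1 ml)
  have g1 := h.odd f (h.cs0 ml) (h.cs _) (n := 5) (by decide) (h.eq (by decide +kernel)) (h.eq (by decide +kernel))
  generalize l⁻¹ * k = k at e1 g1
  obtain ⟨l, ml, f1, f2, -⟩ := f_D2 h.bar _ (mem (x := (γ 11)) e1 (h.eq (by decide +kernel)) (h.cs _) (ok3 (h.eq (by decide +kernel)))) (Or.inl (cj_pw (h.eq (by decide +kernel))))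
    (Or.inl (by rw [← g1]; simp only [conj_pow, conj_mul, conj_eq_one_iff]; exact h.eq (by decide +kernel)))
    (by rw [← g1, conj_mul, conj_pow]; exact nm1_cj e1.1 (h.ne (by decide +kernel)) (h.ne (by decide +kernel)))
  have e2 := h.fr_mul e1 (h.cs0 ml) ((h.memD (h.le0 ml)).1 ml)
  have i1 := h.keep g1 f1 (h.cs0 ml) (h.cs _) (n := 5) (by decide) (h.eq (by decide +kernel))
  have i2 := h.odd f2 (h.cs0 ml) (h.cs _) (n := 3) (by decide) (h.eq (by decide +kernel)) (h.eq (by decide +kernel))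
  obtain ⟨r, a1, a2, a3, a4, -⟩ := exists_r (X := genW γ [.l 26, .l 11]) h.s2 (h.cs 6).symm h.s1 (h.ne (by decide +kernel)) (h.ne (by decide +kernel)) e2.1 e2.2
    (comm_genW (by simp only [List.forall_mem_cons, ev_l]; exact ⟨comm_of_cj i1, comm_of_cj i2, by simp⟩))
    (cj_of_comm (h.cs 20)) h.qd h.qXd h.cenD
  exact ⟨r, a1, a2, a3, a4⟩

end Cz

end Cfsg.Lib.Big.HU
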