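import Cfsg.Agent.Lib.Calc.HVB

/-!
# The centraliser `4.HS.2`: the involution `u` is conjugate to `s`
-/

set_option autoImplicit false
set_option maxRecDepth 100000
set_option linter.unusedSectionVars false

namespace Cfsg.Lib.Big.HU

open Cfsg.Lib.Calc Cfsg.Lib.Calc.HN Cfsg.Lib.Big.HN Cfsg.Lib.T2 Cfsg.Lib.ES Subgroup

variable {G : Type*} [Group G] {γ : ℕ → G} {ω : G}

theorem quot_six' {r e : G} (r3 : r ^ 3 = 1) (oe : orderOf e = 2) (c : r * e = e * r) :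
    ∃ (C : Subgroup G) (Z : Subgroup C) (_ : Z.Normal), (∀ a, a ∈ C ↔ a * r = r * a ∧ a * e = e * a) ∧
      (∀ a : C, (a : G) = r ∨ (a : G) = e → a ∈ Z) ∧ (∀ K : Subgroup G, r ∈ K → e ∈ K → ∀ a ∈ Z, (a : G) ∈ K) ∧
      ∀ a b : C, (a : C ⧸ Z) = b → (a : G) ^ 4 = 1 → (b : G) ^ 4 = 1 → Md e a b := by
  have e2 := mul_self_of_orderOf_two oe
  have a1 : (r * e) ^ 4 = r := by
    rw [Commute.mul_pow c, pow_succ, r3, one_mul, show e ^ 4 = e * e * (e * e) by simp [pow_succ, mul_assoc], e2, mul_one, mul_one]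
  have a2 : (r * e) ^ 3 = e := by rw [Commute.mul_pow c, r3, one_mul, pow_succ, sq, e2, one_mul]
  let z : centralizer ({r * e} : Set G) := ⟨_, mem_centralizer_singleton_iff.2 rfl⟩
  have cz : ∀ g x, x ∈ zpowers z → x * g = g * x := fun g x hx =>
    comm_zpowers (Subtype.ext (mem_centralizer_singleton_iff.1 g.2).symm) hx
  refine ⟨_, zpowers z, ⟨fun x hx g => by rwa [cj_of_comm (cz g x hx).symm]⟩, fun a => ?_, fun a ha => ?_,
    fun K p q a m => (zpowers_le (g := z) (H := K.subgroupOf _)).2 (K.mul_mem p q) m, fun a b h ha hb => ?_⟩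
  · rw [mem_centralizer_singleton_iff]
    exact ⟨fun h => ⟨a1 ▸ (comm_pow h.symm 4).symm, a2 ▸ (comm_pow h.symm 3).symm⟩, fun h => (comm_mul h.1.symm h.2.symm).symm⟩
  · rcases ha with h | h
    exacts [⟨(4 : ℕ), Subtype.ext ((zpow_natCast _ _).trans (a1.trans h.symm))⟩,
      ⟨(3 : ℕ), Subtype.ext ((zpow_natCast _ _).trans (a2.trans h.symm))⟩]
  · have m := QuotientGroup.eq.1 h.symm
    have h4 : ((b : G)⁻¹ * a) ^ 4 = 1 := by
      have := Commute.mul_pow (congrArg Subtype.val (cz b _ m).symm) 4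
      rwa [coe_mul, coe_inv, mul_inv_cancel_left, ha, hb, one_mul, eq_comm] at this
    obtain ⟨n, hn⟩ := mem_zpowers_iff.1 m
    have hn : r ^ n * e ^ n = (b : G)⁻¹ * a := (Commute.mul_zpow c n).symm.trans (congrArg Subtype.val hn)
    have h2 := (mem_zpowers_iff_of_orderOf_two oe).1 (zpow_mem_zpowers e n)
    have h5 : r ^ n = 1 := eq_one_of_coprime (m := 4) (n := 3) (by norm_num) (by
      rwa [← hn, (Commute.zpow_zpow c n n).mul_pow, show (e ^ n) ^ 4 = e ^ n * e ^ n * (e ^ n * e ^ n) by simp [pow_succ, mul_assoc],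
        M1.sq h2 e2, mul_one, mul_one] at h4) (by rw [← zpow_natCast, ← zpow_mul, mul_comm, zpow_mul, zpow_natCast, r3, one_zpow])
    rw [h5, one_mul] at hn
    rw [eq_inv_mul_iff_mul_eq] at hn
    rcases h2 with k | k <;> rw [k] at hn
    · exact Or.inl (by rw [← hn, mul_one])
    · have := comm_pow (mem_centralizer_singleton_iff.1 b.2).symm 3
      rw [a2] at this
      exact Or.inr (hn.symm.trans this.symm)

theorem fix_r {s d r e : G} (d2 : d * d = 1) (sd : s * d = d * s) (rd : r * d * r⁻¹ = s) (rs : r * s * r⁻¹ = s * d)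
    (h : M1 s (e * r * e⁻¹ * r⁻¹) ∨ Md s (e * r * e⁻¹ * r⁻¹) d) : ∃ c, (M1 s c ∨ Md s c d) ∧ c * e * r = r * (c * e) := by
  have key : ∀ c, c * (e * r * e⁻¹ * r⁻¹) = r * c * r⁻¹ → c * e * r = r * (c * e) := fun c k => by
    rw [show c * e * r = c * (e * r * e⁻¹ * r⁻¹) * r * e by group, k]; group
  rcases h with (k | k) | k | k
  · exact ⟨1, .inl (.inl rfl), key _ (by rw [k]; group)⟩
  · refine ⟨s * d, .inr (.inr rfl), key _ ?_⟩
    rw [k, ← conj_mul, rd, rs, mul_assoc]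
  · exact ⟨s, .inl (.inr rfl), key _ (by rw [k, rs])⟩
  · exact ⟨d, .inr (.inl rfl), key _ (by rw [k, rd, sd, ← mul_assoc, d2, one_mul])⟩

/-- a word -/
def wQ : W := .mul (.mul (.inv (.l 11)) (.l 20)) (.l 11)

namespace Cz

variable [Finite G] (h : Cz γ ω)
include h

theorem exists_eps {r : G} (rd : r * (γ 6) * r⁻¹ = (γ 4)) (rs : r * (γ 4) * r⁻¹ = (γ 4) * (γ 6)) (rX : ∀ x ∈ genW γ [.l 26, .l 11], r * x = x * r) :
    ∃ ε, ε * ε = 1 ∧ ε * r = r * ε ∧ ε * (γ 4) = (γ 4) * ε ∧ ε ∉ genW γ (hp.ws 0) ∧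
      ∀ x ∈ genW γ [.l 26, .l 11], ε * x * ε⁻¹ = (γ 11)⁻¹ * (γ 20) * (γ 11) * x * ((γ 11)⁻¹ * (γ 20) * (γ 11))⁻¹ := by
  obtain ⟨Q, hQ⟩ : ∃ Q, Q = (γ 11)⁻¹ * (γ 20) * (γ 11) := ⟨_, rfl⟩
  have Qω : ω * Q = Q * ω := by
    rw [hQ]; exact (comm_mul (comm_mul (comm_inv (h.rM 11 (by decide +kernel)).symm) (h.rM 20 (by decide +kernel)).symm) (h.rM 11 (by decide +kernel)).symm).symm
  have mg : (γ 11) ∈ genW γ [.l 26, .l 11] := lmem γ _
  have QX : ∀ x ∈ genW γ [.l 26, .l 11], Q⁻¹ * x * Q ∈ genW γ [.l 26, .l 11] := fun x m => by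
    simpa only [hQ, mul_inv_rev, inv_inv, mul_assoc] using
      mul_mem (mul_mem (inv_mem mg) (h.qXd _ (mul_mem (mul_mem mg m) (inv_mem mg)))) mg
  have es : ω * Q * (γ 4) = (γ 4) * (ω * Q) := comm_mul (h.rM 4 (by decide +kernel)) (hQ ▸ h.csw)
  have ed : ω * Q * (γ 6) = (γ 6) * (ω * Q) := comm_of_cj (by
    rw [← cj_cj, hQ, (h.eq (by decide +kernel) : (γ 11)⁻¹ * (γ 20) * (γ 11) * (γ 6) * ((γ 11)⁻¹ * (γ 20) * (γ 11))⁻¹ = (γ 4) * (γ 6)), ← conj_mul, h.rd, cj_of_comm (h.rM 4 (by decide +kernel))]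
    exact h.eq (by decide +kernel))
  have tr : ∀ {a b}, ω * Q * a = a * (ω * Q) → ω * Q * b = b * (ω * Q) → r * a * r⁻¹ = b →
      ω * Q * r * (ω * Q)⁻¹ * r⁻¹ * b = b * (ω * Q * r * (ω * Q)⁻¹ * r⁻¹) := fun {a b} p q k => comm_of_cj (by
    rw [← cj_cj, cj_inv k, ← cj_cj, cj_of_comm (comm_inv p), ← cj_cj, k, cj_of_comm q])
  have esd := (comm_mul es.symm ed.symm).symm
  obtain ⟨c, c1, c2⟩ := fix_r (h.eq (by decide +kernel)) (h.cs 6).symm rd rs (h.cenD _ (tr ed es rd)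
    (tr esd ed (by rw [← conj_mul, rs, rd]; exact h.eq (by decide +kernel))) fun x m => comm_of_cj (by
      have := rX _ (QX x m)
      rw [← cj_cj, cj_of_comm (comm_inv (rX x m)), ← cj_cj, ← cj_cj, mul_inv_rev ω, ← cj_cj, cj_of_comm (comm_inv (h.rXd x m)), inv_inv,
        cj_of_comm this, ← mul_inv_rev, ← cj_cj, show Q * (Q⁻¹ * x * Q) * Q⁻¹ = x by group, cj_of_comm (h.rXd x m)]))
  have cc : ∀ {a}, a * (γ 4) = (γ 4) * a → a * (γ 6) = (γ 6) * a → c * a = a * c := fun p q => by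
    rcases c1 with (k | k) | k | k <;> rw [k]
    exacts [by simp, p.symm, q.symm, comm_mul p.symm q.symm]
  have mc : c ∈ genW γ (hp.ws 0) := c1.elim (·.mem h.wm) (·.mem h.wm h.wm)
  have dX : ∀ x ∈ genW γ [.l 26, .l 11], (γ 6) * x = x * (γ 6) :=
    comm_genW (by simp only [List.forall_mem_cons, ev_l]; exact ⟨h.eq (by decide +kernel), h.eq (by decide +kernel), by simp⟩)
  refine ⟨c * (ω * Q), ?_, c2, comm_mul (h.cH mc) es, fun m => h.nr ?_, fun x m => ?_⟩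
  · rw [← Commute.mul_mul_mul_comm (cc es ed) , ← Commute.mul_mul_mul_comm Qω, h.r2, hQ,
      c1.elim (·.sq h.s2) fun e => (e.sq h.s2 (h.cs 6).symm).trans (h.eq (by decide +kernel)), one_mul]
    exact h.eq (by decide +kernel)
  · rwa [Subgroup.mul_mem_cancel_left _ mc, Subgroup.mul_mem_cancel_right _ (hQ ▸ h.wm)] at m
  · rw [cc es ed, ← cj_cj, cj_of_comm (cc (h.cs0 m) (dX x m).symm), Qω, ← cj_cj, cj_of_comm (h.rXd x m), hQ]

set_option maxHeartbeats 400000 in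
theorem caseC (nu : ¬ IsConj (γ 4) (γ 3)) (jd : IsConj (γ 4) (γ 6)) : False := by
  obtain ⟨r, r3, rd, rs, rX⟩ := h.exists_rd nu jd
  obtain ⟨ε, ε2, εr, εs, εH, εX⟩ := h.exists_eps rd rs rX
  have jv := h.jv
  have rv := rX _ (rmem h.q (.mul (.mul (.mul (.mul (.mul (.mul (.l 11) (.l 26)) (.l 26)) (.l 11)) (.l 26)) (.inv (.l 11))) (.l 26)) (by decide +kernel) : (γ 5) ∈ _)
  have re := rX _ (rmem h.q (.mul (.mul (.mul (.mul (.mul (.mul (.mul (.mul (.l 26) (.l 11)) (.l 26)) (.l 26)) (.l 11)) (.l 26)) (.l 26)) (.l 11)) (.l 26)) (by decide +kernel) : (γ 27) ∈ _)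
  have rb := rX _ (rmem h.q (.mul (.mul (.mul (.mul (.mul (.mul (.l 11) (.inv (.l 26))) (.inv (.l 11))) (.inv (.l 26))) (.inv (.l 26))) (.inv (.l 11))) (.inv (.l 26))) (by decide +kernel) : (γ 14) ∈ _)
  have rt := rX _ (rmem h.q (.mul (.mul (.mul (.mul (.mul (.mul (.mul (.mul (.l 11) (.inv (.l 26))) (.inv (.l 26))) (.inv (.l 11))) (.l 26)) (.l 26)) (.inv (.l 11))) (.l 26)) (.l 26)) (by decide +kernel) : (γ 28) ∈ _)
  have rg := rX _ (lmem γ 11)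
  have r1 : r ≠ 1 := fun e => h.ne (by decide +kernel) (show (γ 6) = (γ 4) by simpa [e] using rd)
  have sr : (γ 4) ∉ centralizer ({r} : Set G) := fun e => h.ne (by decide +kernel) (left_eq_mul.1
    ((cj_of_comm (mem_centralizer_singleton_iff.1 e).symm).symm.trans rs))
  have n1 : ¬ IsConj (γ 4) (γ 27) := fun e => h.nz (e.trans (isConj_iff.2 ⟨(γ 8), h.eq (by decide +kernel)⟩))
  have n2 : ¬ IsConj (γ 4) ((γ 27) * (γ 5)) := fun e => h.nz (e.trans (isConj_iff.2 ⟨(γ 8)⁻¹, h.eq (by decide +kernel)⟩))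
  have n3 : ¬ IsConj (γ 4) (γ 28) := fun e => h.nz (e.trans (isConj_iff.2 ⟨((γ 24) * (γ 2) * (γ 2) * (γ 11) * (γ 26)), h.eq (by decide +kernel)⟩))
  have n4 : ¬ IsConj (γ 4) ((γ 27) * (γ 28)) := fun e => n3 (e.trans (isConj_iff.2 ⟨(γ 14), h.eq (by decide +kernel)⟩))
  have jb : IsConj (γ 4) (γ 14) := jv.trans (isConj_iff.2 ⟨_, h.bv⟩).symm
  have e2 : (γ 27) * (γ 27) = 1 := h.eq (by decide +kernel)
  have ev : (γ 27) * (γ 5) = (γ 5) * (γ 27) := h.eq (by decide +kernel)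
  obtain ⟨k, hk⟩ := isConj_iff.1 jv.symm
  obtain ⟨k, e⟩ : ∃ k, Fr γ 3 k (γ 5) (γ 27) := by
    rcases h.cls (h.cmp hk h.wm ev) (cj_sq e2) with f | ⟨l, c, f | f⟩ | f | f
    · exact absurd f (nm1_cj hk (h.ne (by decide +kernel)) (h.ne (by decide +kernel)))
    · exact absurd (jv.trans (isConj_iff.2 ⟨_, cj_cj l k _ ▸ f⟩).symm) n1
    · refine absurd (jv.trans (isConj_iff.2 ⟨l * k, ?_⟩).symm) n2
      rw [ev, ← conj_mul, ← cj_cj, ← cj_cj, hk, f, cj_of_comm c, ← mul_assoc, h.s2, one_mul]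
    · exact ty_norm hk f
    · exact absurd ((jd.trans (ju 6 h.qd f)).trans (isConj_iff.2 ⟨k, rfl⟩).symm) n1
  obtain ⟨k, e, kr, kb, kg⟩ := h.norm4 (A := (γ 11)) (B := (γ 14)) e r3 r1 rv re (h.eq (by decide +kernel)) (h.eq (by decide +kernel)) rg.symm (h.eq (by decide +kernel)) (h.eq (by decide +kernel)) rb.symm
    (h.eq (by decide +kernel)) jb (h.eq (by decide +kernel)) (h.ne (by decide +kernel))
  replace kb := h.exact_of (k := 1) (jb.trans (isConj_iff.2 ⟨k, rfl⟩)) kb (by simp) (by simp)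
  have kt : k * ((γ 11) * (γ 14) * (γ 11)⁻¹) * k⁻¹ = (γ 5) * (γ 9) := by
    rw [← conj_mul, ← conj_mul, ← conj_inv, kb]
    rcases kg with f | f | f <;> rw [f] <;> exact h.eq (by decide +kernel)
  obtain ⟨C, Z, _, mC, mZ, lZ, key⟩ := quot_six' r3 (orderOf_eq_prime ((sq _).trans e2) (h.ne (by decide +kernel))) re
  let π := QuotientGroup.mk' Z
  let v : C := ⟨(γ 5), (mC _).2 ⟨rv.symm, ev.symm⟩⟩
  let b : C := ⟨(γ 14), (mC _).2 ⟨rb.symm, h.eq (by decide +kernel)⟩⟩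
  let g : C := ⟨(γ 11), (mC _).2 ⟨rg.symm, h.eq (by decide +kernel)⟩⟩
  let t : C := ⟨(γ 28), (mC _).2 ⟨rt.symm, h.eq (by decide +kernel)⟩⟩
  let z : C := ⟨(γ 27), (mC _).2 ⟨re.symm, rfl⟩⟩
  have fu : (γ 12) * (k * (γ 27) * k⁻¹) = k * (γ 27) * k⁻¹ * (γ 12) := comm_of_md (e.2.symm h.s2) (h.eq (by decide +kernel)) (h.cs _)
  let f : C := ⟨k⁻¹ * (γ 12) * k⁻¹⁻¹, (mC _).2 ⟨cj_inv kr ▸ cj_comm (h.eq (by decide +kernel)), cj_back k (γ 27) ▸ cj_comm fu⟩⟩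
  have πz : ∀ a, π (z * a) = π a := fun a => by
    rw [map_mul, show π z = 1 from (QuotientGroup.eq_one_iff z).2 (mZ z (Or.inr rfl)), one_mul]
  have md : ∀ {a b : C}, Md (γ 27) (a : G) b → π a = π b := fun {a b} e =>
    e.elim (fun e => congrArg π (Subtype.ext e)) fun e => (congrArg π (Subtype.ext e : a = z * b)).trans (πz b)
  have cr : ∀ a : C, (a : G) ∈ centralizer ({r} : Set G) := fun a => mem_centralizer_singleton_iff.2 ((mC _).1 a.2).1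
  have ex : ∀ {a b : C}, Md (γ 4) (a : G) b → a = b := fun {a b} e => Subtype.ext (e.eq_of_not_mem sr (cr a) (cr b))
  have l5 : genW γ (hp.ws 5) ≤ C := genW_le.2 (List.forall_mem_cons.2 ⟨t.2, List.forall_mem_cons.2 ⟨(g * t * g⁻¹).2,
    List.forall_mem_singleton.2 v.2⟩⟩)
  have l6 : genW γ (hp.ws 6) ≤ C := genW_le.2 (List.forall_mem_cons.2 ⟨v.2, List.forall_mem_cons.2 ⟨z.2,
    List.forall_mem_cons.2 ⟨b.2, List.forall_mem_singleton.2 (g * b * g⁻¹).2⟩⟩⟩)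
  have l7 : genW γ (hp.ws 7) ≤ C := genW_le.2 (List.forall_mem_cons.2 ⟨t.2, List.forall_mem_cons.2 ⟨g.2,
    List.forall_mem_singleton.2 v.2⟩⟩)
  have m5 : ∀ (a : C) (w : W), w.ev γ = a → hp.eval (.mem 5 w) = true → (a : G) ∈ genW γ (hp.ws 5) := fun a w p q => by
    obtain ⟨x, mx, y⟩ := hp_ok.transferM h.bar (φ := .mem 5 w) q
    rw [ex (a := a) (b := ⟨x, l5 mx⟩) (p ▸ y)]; exact mx
  have b2 : (γ 14) * (γ 14) = 1 := h.eq (by decide +kernel)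
  have cv : ∀ a : C, π a * π v = π v * π a → (a : G) * (γ 5) = (γ 5) * a := fun a p => comm_of_cj
    ((key (a * v * a⁻¹) v (by rw [← mul_inv_eq_iff_eq_mul, ← map_inv, ← map_mul, ← map_mul] at p; exact p)
      (sq4 (cj_sq h.v2)) (sq4 h.v2)).resolve_right fun p => n2 (jv.trans (isConj_iff.2 ⟨a, p⟩)))
  have cb : ∀ a : C, π a * π b * (π a)⁻¹ * π b = π b * (π a * π b * (π a)⁻¹) →
      M1 (γ 27) (((a : G) * (γ 14) * (a : G)⁻¹ * (γ 14)) ^ 2) := fun a p => by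
    have := key (b * (a * b * a⁻¹) * b⁻¹) (a * b * a⁻¹) (by
      rw [eq_comm, ← mul_inv_eq_iff_eq_mul, ← map_inv, ← map_inv, ← map_mul, ← map_mul, ← map_mul, ← map_mul] at p; exact p)
      (sq4 (cj_sq (cj_sq b2))) (sq4 (cj_sq b2))
    change Md _ ((γ 14) * (a * (γ 14) * (a : G)⁻¹) * (γ 14)⁻¹) (a * (γ 14) * (a : G)⁻¹) at this
    have c : a * (γ 14) * (a : G)⁻¹ * (γ 27) = (γ 27) * (a * (γ 14) * (a : G)⁻¹) := ((mC _).1 (a * b * a⁻¹).2).2
    have d : a * (γ 14) * (a : G)⁻¹ * (a * (γ 14) * (a : G)⁻¹) = 1 := cj_sq b2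
    rw [inv_eq_of_mul_eq_one_right b2] at this
    generalize a * (γ 14) * (a : G)⁻¹ = x at this c d
    rw [sq, mul_assoc, ← mul_assoc (γ 14)]
    rcases this with q | q <;> rw [q]
    · exact Or.inl d
    · exact Or.inr (by rw [← mul_assoc, c, mul_assoc, d, mul_one])
  have mXv : (γ 5) ∈ genW γ [.l 26, .l 11] := rmem h.q (.mul (.mul (.mul (.mul (.mul (.mul (.l 11) (.l 26)) (.l 26)) (.l 11)) (.l 26)) (.inv (.l 11))) (.l 26)) (by decide +kernel)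
  have mXt : (γ 28) ∈ genW γ [.l 26, .l 11] := rmem h.q (.mul (.mul (.mul (.mul (.mul (.mul (.mul (.mul (.l 11) (.inv (.l 26))) (.inv (.l 26))) (.inv (.l 11))) (.l 26)) (.l 26)) (.inv (.l 11))) (.l 26)) (.l 26)) (by decide +kernel)
  have mXg : (γ 11) ∈ genW γ [.l 26, .l 11] := lmem γ _
  have εv : ε * (γ 5) = (γ 5) * ε := comm_of_cj ((εX _ mXv).trans (h.eq (by decide +kernel)))
  let ε' : C := ⟨ε, (mC _).2 ⟨εr, comm_of_cj ((εX _ (rmem h.q (.mul (.mul (.mul (.mul (.mul (.mul (.mul (.mul (.l 26) (.l 11)) (.l 26)) (.l 26)) (.l 11)) (.l 26)) (.l 26)) (.l 11)) (.l 26)) (by decide +kernel))).trans (h.eq (by decide +kernel)))⟩⟩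
  obtain ⟨K, eK, mK⟩ := h.ext
  let I' : Subgroup G := (genW γ (hp.ws 0)).comap (MulAut.conj k).toMonoidHom
  let I : Subgroup C := I'.subgroupOf C
  have iI : ∀ a : C, a ∈ I ↔ k * a * k⁻¹ ∈ genW γ (hp.ws 0) := fun _ => Iff.rfl
  have mI : ∀ a : C, π a ∈ I.map π → k * a * k⁻¹ ∈ genW γ (hp.ws 0) := fun a ⟨x, m, p⟩ => by
    have := mul_mem m (show x⁻¹ * a ∈ I from lZ I' (show k * r * k⁻¹ ∈ genW γ (hp.ws 0) from kr ▸ h.wm)
      (h.cmp e.1 h.wm ev) _ (QuotientGroup.eq.1 p))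
    rwa [mul_inv_cancel_left] at this
  have εS : ∀ x ∈ genW γ (hp.ws 5), ε * x * ε⁻¹ ∈ genW γ (hp.ws 5) := by
    have := conj_mem_genW (γ := γ) (ts := hp.ws 5) (p := ε⁻¹) (K := genW γ (hp.ws 5)) (by
      rw [inv_inv]
      refine List.forall_mem_cons.2 ⟨?_, List.forall_mem_cons.2 ⟨?_, List.forall_mem_singleton.2 ?_⟩⟩
      · exact m5 (ε' * t * ε'⁻¹) (.mul (.mul wQ (.l 28)) (.inv wQ)) (εX _ mXt).symm (by decide +kernel)
      · exact m5 (ε' * (g * t * g⁻¹) * ε'⁻¹) (.mul (.mul wQ (.mul (.mul (.l 11) (.l 28)) (.inv (.l 11)))) (.inv wQ))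
          (εX _ (mul_mem (mul_mem mXg mXt) (inv_mem mXg))).symm (by decide +kernel)
      · rw [ev_l, cj_of_comm εv]; exact lmem γ 5)
    rwa [inv_inv] at this
  have fm : ∀ a : C, π a ∈ I.map π → (a : G) * (γ 5) = (γ 5) * a →
      k * a * k⁻¹ ∈ genW γ (hq.ws 1) ∧ Md (γ 4) (k * a * k⁻¹ * (γ 11)) ((γ 11) * (k * a * k⁻¹)) :=
    fun a m p => ⟨(h.memU (mI a m)).2 (fr_comm e p ((mC _).1 a.2).2).2, Or.inl (kr ▸ cj_comm ((mC _).1 a.2).1)⟩
  refine FK2.false (S := ((genW γ (hp.ws 5)).subgroupOf C).map π) (E := ((genW γ (hp.ws 6)).subgroupOf C).map π) (I := I.map π)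
    (σ := π v) (t := π b) (u := π (g * b * g⁻¹)) (ρ := π g) (τ := π t) (f := π f) (ε := π ε')
    (JJ := fun x => ∃ a : C, π a = x ∧ IsConj (γ 4) a)
    (TT := fun x => ∃ a : C, π a = x ∧ IsConj (γ 4) a ∧ IsConj (γ 4) ((γ 27) * a)) (II := fun x => ∃ a : C, π a = x ∧ (a : G) * a = 1)
    ⟨?_, ?_, ?_, fun _ ⟨a, p, q, _⟩ => ⟨a, p, q⟩, ?_, ⟨v, rfl, jv⟩, ?_,
      ⟨b, rfl, jb, jb.trans (isConj_iff.2 ⟨(γ 28), h.eq (by decide +kernel)⟩)⟩, ?_, ?_, ?_, by simp only [map_mul, map_inv], ?_, ?_, ?_, ?_,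
      ⟨v, lmem γ 5 (ts := hp.ws 5), rfl⟩, ⟨t, lmem γ 28 (ts := hp.ws 5), rfl⟩, ⟨b, m5 b (.l 14) rfl (by decide +kernel), rfl⟩,
      ⟨g * b * g⁻¹, m5 (g * b * g⁻¹) (.mul (.mul (.l 11) (.l 14)) (.inv (.l 11))) rfl (by decide +kernel), rfl⟩, ?_, ?_, ?_, ?_, ?_, ?_, ?_,
      ?_, ?_, ?_, ?_, ?_, ?_, ?_, ?_, ?_, ?_, ?_, ?_⟩
  · rintro _ x ⟨a, rfl, p⟩
    obtain ⟨x, rfl⟩ := QuotientGroup.mk'_surjective Z x
    exact ⟨x * a * x⁻¹, by simp only [map_mul, map_inv]; rfl, p.trans (isConj_iff.2 ⟨x, rfl⟩)⟩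
  · rintro _ x ⟨a, rfl, p, q⟩
    obtain ⟨x, rfl⟩ := QuotientGroup.mk'_surjective Z x
    exact ⟨x * a * x⁻¹, by simp only [map_mul, map_inv]; rfl, p.trans (isConj_iff.2 ⟨x, rfl⟩), q.trans (isConj_iff.2 ⟨x, by
      rw [← conj_mul, cj_of_comm ((mC _).1 x.2).2]; rfl⟩)⟩
  · rintro _ x ⟨a, rfl, p⟩
    obtain ⟨x, rfl⟩ := QuotientGroup.mk'_surjective Z x
    exact ⟨x * a * x⁻¹, by simp only [map_mul, map_inv]; rfl, cj_sq p⟩
  · rintro _ ⟨a, rfl, p⟩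
    rw [← map_mul, show a * a = 1 from Subtype.ext (sq_of_conj h.s2 p), map_one]
  · rintro ⟨a, p, q, q'⟩
    rcases key a v p (sq4 (sq_of_conj h.s2 q)) (sq4 h.v2) with p | p
    exacts [n2 ((congrArg (fun x => IsConj (γ 4) ((γ 27) * x)) p).mp q'), n2 ((congrArg (IsConj (γ 4)) p).mp q)]
  · rintro ⟨a, p, q⟩
    rcases key a t p (sq4 (sq_of_conj h.s2 q)) (h.eq (by decide +kernel)) with p | p
    exacts [n3 ((congrArg (IsConj (γ 4)) p).mp q), n4 ((congrArg (IsConj (γ 4)) p).mp q)]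
  · rw [← map_mul, show t * t = 1 from Subtype.ext (h.eq (x := (γ 28) * (γ 28)) (y := 1) (by decide +kernel)), map_one]
  · intro p
    rcases key (g * b * g⁻¹) 1 p (sq4 (cj_sq b2)) (one_pow _) with p | p
    exacts [h.ne (x := (γ 11) * (γ 14) * (γ 11)⁻¹) (y := 1) (by decide +kernel) p, h.ne (x := (γ 11) * (γ 14) * (γ 11)⁻¹) (y := (γ 27) * 1) (by decide +kernel) p]
  · rw [← map_inv, ← map_mul, ← map_mul, ← map_mul]
    exact congrArg π (Subtype.ext (h.eq (x := (γ 11) * ((γ 11) * (γ 14) * (γ 11)⁻¹) * (γ 11)⁻¹) (y := (γ 14) * ((γ 11) * (γ 14) * (γ 11)⁻¹)) (by decide +kernel)))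
  · rw [← map_inv, ← map_mul, ← map_mul, ← map_mul]
    exact md (Or.inr (h.eq (x := (γ 28) * (γ 5) * (γ 28)⁻¹) (y := (γ 27) * ((γ 5) * ((γ 11) * (γ 14) * (γ 11)⁻¹))) (by decide +kernel)))
  · rintro ⟨_, a, ma, rfl⟩
    refine ⟨2, Subtype.ext ?_⟩
    change π a ^ 4 = 1
    rw [← map_pow, show a ^ 4 = 1 from Subtype.ext ((f_F1 h.bar a ma).1.eq_of_not_mem sr (cr (a ^ 4))), map_one]
  · exact map_mono (subgroupOf_mono _ (genW_le.2 (List.forall_mem_cons.2 ⟨lmem γ 5, List.forall_mem_cons.2 ⟨m5 z (.l 27) rfl (by decide +kernel),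
      List.forall_mem_cons.2 ⟨m5 b (.l 14) rfl (by decide +kernel), List.forall_mem_singleton.2
        (m5 (g * b * g⁻¹) (.mul (.mul (.l 11) (.l 14)) (.inv (.l 11))) rfl (by decide +kernel))⟩⟩⟩)))
  · rintro _ ⟨a, ma, rfl⟩
    refine comm_of_cj ?_
    rw [← map_inv, ← map_mul, ← map_mul]
    exact (f_F1 h.bar a ma).2.1.elim (fun p => congrArg π (ex p)) fun p => (congrArg π (ex (b := z * b) p)).trans (πz _)
  · rintro _ ⟨a, ma, rfl⟩
    refine comm_of_cj ?_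
    rw [← map_inv, ← map_mul, ← map_mul]
    exact (f_F1 h.bar a ma).2.2.1.elim (fun p => congrArg π (ex p))
      fun p => (congrArg π (ex (b := z * (g * b * g⁻¹)) p)).trans (πz _)
  · rintro _ ⟨a, ma, rfl⟩ p
    obtain ⟨a4, -, -, q⟩ := f_F1 h.bar a ma
    replace a4 : (a : G) ^ 4 = 1 := a4.eq_of_not_mem sr (cr (a ^ 4))
    have ii : ∀ x : C, ((a : G) * x) ^ 4 = 1 → ((∃ c : C, π c = π a * π x ∧ (c : G) * c = 1) ↔ M1 (γ 4) (((a : G) * x) ^ 2)) :=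
      fun x p => ⟨fun ⟨c, p1, p2⟩ => Or.inl (by
        rw [sq]; exact ((key c (a * x) p1 (sq4 p2) p).sq e2 ((mC _).1 (a * x).2).2.symm).symm.trans p2),
        fun p => ⟨a * x, map_mul _ _ _, (sq _).symm.trans (p.eq_of_not_mem sr (cr ((a * x) ^ 2)))⟩⟩
    have i4 : ∀ x : C, (x : G) ∈ genW γ (hp.ws 5) → ((a : G) * x) ^ 4 = 1 := fun x m =>
      (f_F1 h.bar _ (mul_mem ma m)).1.eq_of_not_mem sr (cr ((a * x) ^ 4))
    have mb := m5 b (.l 14) rfl (by decide +kernel)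
    have mt := m5 (g * b * g⁻¹) (.mul (.mul (.l 11) (.l 14)) (.inv (.l 11))) rfl (by decide +kernel)
    have i1 := ii b (i4 b mb)
    have i2 := ii _ (i4 _ mt)
    have i3 := ii (b * (g * b * g⁻¹)) (i4 _ (mul_mem mb mt))
    rw [map_mul π b] at i3
    have mt' : ∀ {p q : Prop}, (p ↔ q) → ¬ q → ¬ p := fun e f g => f (e.1 g)
    rcases q ((key (a * a) 1 ((map_mul π _ _).trans p) (by rw [coe_mul, ← sq, ← pow_mul, mul_comm, pow_mul, a4, one_pow])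
      (one_pow _)).imp Or.inl fun p => Or.inl (p.trans (mul_one _))) with ⟨x, mx, q⟩ | ⟨q1, q2⟩
    · exact Or.inl ⟨a, by rw [ex (a := a) (b := ⟨x, l6 mx⟩) q]; exact mx, rfl⟩
    refine Or.inr ⟨fun ⟨c, p1, p2⟩ => ?_, ?_⟩
    · have p3 := key c a p1 (sq4 (sq_of_conj h.s2 p2)) a4
      obtain ⟨x, mx, q, -⟩ := q2 (Or.inl ((p3.sq e2 ((mC _).1 a.2).2.symm).symm.trans (sq_of_conj h.s2 p2)))
      have q : x * (γ 28) * x⁻¹ = a := congrArg Subtype.val (ex (a := ⟨x, l7 mx⟩ * t * (⟨x, l7 mx⟩ : C)⁻¹) q.of_cj)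
      rcases p3 with p3 | p3
      · exact n3 (p2.trans (isConj_iff.2 ⟨x, q.trans p3.symm⟩).symm)
      · refine n4 (p2.trans (isConj_iff.2 ⟨x, ?_⟩).symm)
        rw [← conj_mul, q, p3, cj_of_comm ((mC _).1 (l7 mx)).2]
    · rcases q1 with q | q | q | q | q | q
      exacts [⟨_, .head _, _, .tail _ (.head _), i1.2 q.1, mt' i2 q.2⟩, ⟨_, .head _, _, .tail _ (.tail _ (.head _)), i1.2 q.1, mt' i3 q.2⟩,
        ⟨_, .tail _ (.head _), _, .head _, i2.2 q.1, mt' i1 q.2⟩,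
        ⟨_, .tail _ (.head _), _, .tail _ (.tail _ (.head _)), i2.2 q.1, mt' i3 q.2⟩,
        ⟨_, .tail _ (.tail _ (.head _)), _, .head _, i3.2 q.1, mt' i1 q.2⟩,
        ⟨_, .tail _ (.tail _ (.head _)), _, .tail _ (.head _), i3.2 q.1, mt' i2 q.2⟩]
  · rintro _ ⟨a, ma, rfl⟩
    have o : ∀ {x : C}, Md (γ 4) (a : G) x ∨ Md (γ 4) (a : G) ((γ 27) * x) → π a = π x := fun {x} p =>
      p.elim (fun p => congrArg π (ex p)) fun p => (congrArg π (ex (b := z * x) p)).trans (πz _)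
    simp only [List.mem_cons]
    rcases f_F2 h.bar a ma with p | p | p | p | ⟨x, mx, p, -⟩ | ⟨x, mx, p, -⟩
    · exact Or.inl (o (x := 1) (by simpa using p))
    · exact .inr (.inl (.inl (o p)))
    · exact .inr (.inl (.inr (.inl (o p))))
    · exact .inr (.inl (.inr (.inr (.inl (o (x := b * (g * b * g⁻¹)) p)))))
    · exact .inr (.inr ⟨_, ⟨⟨x, l5 mx⟩, mx, rfl⟩, congrArg π (ex (a := ⟨x, l5 mx⟩ * v * (⟨x, l5 mx⟩ : C)⁻¹) p.of_cj)⟩)
    · refine .inr (.inr ⟨_, ⟨⟨x, l5 mx⟩, mx, rfl⟩, Eq.trans ?_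
        (congrArg π (ex (a := ⟨x, l5 mx⟩ * (z * v) * (⟨x, l5 mx⟩ : C)⁻¹) p.of_cj))⟩)
      rw [map_mul, map_mul, πz, map_inv]
  · intro x mx p q
    obtain ⟨a, rfl⟩ := QuotientGroup.mk'_surjective Z x
    obtain ⟨a1, a2⟩ := fm a mx (cv a p)
    have := f_al h.barN _ a1 a2 ((key (a * b * a⁻¹) b (by
      rw [← mul_inv_eq_iff_eq_mul, ← map_inv, ← map_mul, ← map_mul] at q; exact q) (sq4 (cj_sq b2)) (sq4 b2)).imp
      (fun p => Or.inl (kb ▸ cj_comm (comm_of_cj p))) fun p => by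
        have p : (a : G) * (γ 14) = (γ 27) * ((γ 14) * a) := (mul_inv_eq_iff_eq_mul.1 p).trans (mul_assoc _ _ _)
        rw [← kb, conj_mul, p, ← conj_mul, ← conj_mul]
        exact e.2.mul_right _)
    let ρ : C := ⟨r, (mC _).2 ⟨rfl, re⟩⟩
    have o : ∀ x : C, k * x * k⁻¹ * (γ 4) = (γ 4) * (k * x * k⁻¹) → π x = 1 → Md (γ 4) (k * a * k⁻¹ * (k * a * k⁻¹)) (k * x * k⁻¹) →
        π a ^ 4 = 1 := fun x c p q => by
      have := q.sq h.s2 c.symm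
      rw [conj_mul, conj_mul, conj_mul, mul_left_inj, mul_right_inj] at this
      rw [← map_pow, show a ^ 4 = x * x from Subtype.ext (by rw [coe_mul, ← this]; simp [pow_succ, mul_assoc]), map_mul, p, mul_one]
    have pρ : π ρ = 1 := (QuotientGroup.eq_one_iff ρ).2 (mZ ρ (Or.inl rfl))
    rcases this with p | p | p
    · exact o 1 (by simp) (map_one _) (p.imp (by simp) (by simp))
    · exact o ρ (kr ▸ h.cs _) pρ (kr ▸ p)
    · exact o (ρ * ρ) (by rw [coe_mul, ← conj_mul, kr]; exact h.csw) (by rw [map_mul, pρ, mul_one])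
        (by rw [coe_mul, ← conj_mul, kr]; exact p)
  · intro x mx p q
    obtain ⟨a, rfl⟩ := QuotientGroup.mk'_surjective Z x
    obtain ⟨a1, a2⟩ := fm a mx (cv a p)
    obtain ⟨y, my, p⟩ := f_be h.barN _ a1 a2 (by
      rw [← kb, conj_inv, conj_mul, conj_mul, conj_mul, conj_pow]
      exact (cb a q).imp (fun p => Or.inl (by rw [p, mul_one, mul_inv_cancel])) fun p => by rw [p]; exact e.2)
    have m4 : (γ 5) ∈ genW γ (hp.ws 6) := lmem γ 5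
    have m3 : (γ 14) ∈ genW γ (hp.ws 6) := lmem γ 14
    have := conj_mem_genW (p := k) (K := genW γ (hp.ws 6)) (by
      simp only [show hq.ws 2 = [.l 3, .l 5, .l 9, .l 4] from rfl, List.forall_mem_cons, ev_l]
      refine ⟨?_, ?_, ?_, ?_, by simp⟩
      · rcases e.2.symm h.s2 with p | p <;> rw [p]
        · simpa [mul_assoc] using lmem γ 27 (ts := hp.ws 6)
        · rw [← e.1, conj_mul]; simpa [mul_assoc] using mul_mem m4 (lmem γ 27)
      · rw [← kb]; simpa [mul_assoc] using m3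
      · rw [(h.eq (by decide +kernel) : (γ 9) = (γ 5) * ((γ 5) * (γ 9))), ← kt]
        nth_rw 1 [← kb]
        rw [conj_mul]
        simpa only [mul_assoc, inv_mul_cancel_left, inv_mul_cancel, mul_one] using mul_mem m3 (show (γ 11) * (γ 14) * (γ 11)⁻¹ ∈ _ from
          mem_genW γ (t := .mul (.mul (.l 11) (.l 14)) (.inv (.l 11))) (W.mem_of_isIn (by decide)))
      · rw [← e.1]; simpa [mul_assoc] using m4) _ (p.mem (lmem γ 4) my)
    rw [conj_pow] at this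
    exact ⟨a ^ 3, by simpa [mul_assoc, mem_subgroupOf] using this, map_pow _ _ _⟩
  · intro p
    have : (k⁻¹ * (γ 12) * k⁻¹⁻¹ * (γ 14) * (k⁻¹ * (γ 12) * k⁻¹⁻¹)⁻¹ * (γ 14)) ^ 2 * (k⁻¹ * (γ 12) * k⁻¹⁻¹ * (γ 14) * (k⁻¹ * (γ 12) * k⁻¹⁻¹)⁻¹ * (γ 14)) ^ 2 = 1 :=
      (cb f p).sq e2
    rw [← cj_inv kb, conj_inv, conj_mul, conj_mul, conj_mul, conj_pow, conj_mul, conj_eq_one_iff] at this
    exact h.ne (by decide +kernel) this
  · rw [← map_mul, show ε' * ε' = 1 from Subtype.ext ε2, map_one]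
  · rw [← map_mul, ← map_mul]; exact congrArg π (Subtype.ext εv)
  · rw [← map_mul, ← map_mul]
    exact congrArg π (Subtype.ext (comm_of_cj ((εX _ (rmem h.q (.mul (.mul (.mul (.mul (.mul (.mul (.l 11) (.inv (.l 26))) (.inv (.l 11))) (.inv (.l 26))) (.inv (.l 26))) (.inv (.l 11))) (.inv (.l 26))) (by decide +kernel))).trans (h.eq (by decide +kernel)))))
  · rintro _ ⟨a, ma, rfl⟩
    exact ⟨ε' * a * ε'⁻¹, εS _ ma, by simp only [map_mul, map_inv]⟩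
  · exact fun m => εH (h.cmp' e.1 εs (mI _ m))
  · intro x p
    obtain ⟨a, rfl⟩ := QuotientGroup.mk'_surjective Z x
    refine or_iff_not_imp_left.2 fun n => ⟨a * ε', (iI _).2 ?_, map_mul _ _ _⟩
    rw [coe_mul, ← conj_mul]
    exact eK.mul _ (mK _ (e.1 ▸ cj_comm (cv a p))) _ (mK _ (e.1 ▸ cj_comm εv)) (fun m => n ⟨a, m, rfl⟩) fun m => εH (h.cmp' e.1 εs m)
  · rintro _ ⟨a, ma, rfl⟩ p
    exact ⟨a, h.cmp e.1 (h.le0 ma) (cv a p), rfl⟩
  · rintro _ ⟨x, mx, p⟩ ⟨a, rfl, j⟩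
    have a2 := sq_of_conj h.s2 j
    have p1 : π a = π (x * ε') := by rw [map_mul, p, mul_assoc, ← map_mul, show ε' * ε' = 1 from Subtype.ext ε2, map_one, mul_one]
    have x2 : (x : G) * ε * (x * ε) = x * (ε * x * ε⁻¹) := by rw [inv_eq_of_mul_eq_one_right ε2]; group
    have m2 : (x : G) * ε * (x * ε) ∈ genW γ (hp.ws 5) := x2 ▸ mul_mem mx (εS _ mx)
    have p2 := key (x * ε' * (x * ε')) 1 (by
      change π _ = π 1
      rw [map_mul π (x * ε'), ← p1, ← map_mul, show a * a = 1 from Subtype.ext a2])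
      ((f_F1 h.bar _ m2).1.eq_of_not_mem sr (cr ((x * ε' * (x * ε')) ^ 4))) (one_pow _)
    have p3 : Md (γ 27) a (x * ε) := key a (x * ε') p1 (sq4 a2) (by
      have := p2.sq e2 (by simp)
      simpa [pow_succ, mul_assoc] using this)
    have xs : (x : G) * ε * (γ 4) = (γ 4) * (x * ε) := comm_mul (h.cs0 mx) εs
    refine εH ((Subgroup.mul_mem_cancel_left _ (h.le0 mx)).1 ((p3.symm e2).mem h.wm (h.jH _ j ?_)))
    exact (comm_of_md (p3.symm e2) xs.symm (h.cs 27).symm).symm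
  · rw [← map_pow, show g ^ 3 = 1 from Subtype.ext (h.eq (x := (γ 11) ^ 3) (y := 1) (by decide +kernel)), map_one]
  · rw [← map_pow, show f ^ 5 = 1 from Subtype.ext (cj_pw (h.eq (by decide +kernel))), map_one]
  · rintro K a1 a2 a3 _ ⟨a, ma, rfl⟩
    rw [← map_inv, ← map_mul, ← map_mul] at a2
    obtain ⟨x, mx, p⟩ := genW_le (H := (K.comap π).map C.subtype).2 (List.forall_mem_cons.2 ⟨⟨t, a1, rfl⟩,
      List.forall_mem_cons.2 ⟨⟨_, a2, rfl⟩, List.forall_mem_singleton.2 ⟨v, a3, rfl⟩⟩⟩) ma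
    exact (Subtype.ext p : x = a) ▸ mx
  · obtain ⟨x, mx, p⟩ := hp_ok.transferM h.bar (φ := .mem 6 (.mul (.mul (.l 28) (.mul (.mul (.l 11) (.l 28)) (.inv (.l 11))))
      (.mul (.mul (.l 11) (.mul (.mul (.l 11) (.l 28)) (.inv (.l 11)))) (.inv (.l 11))))) (by decide +kernel)
    exact ⟨⟨x, l6 mx⟩, mx, by
      rw [← ex (a := t * (g * t * g⁻¹) * (g * (g * t * g⁻¹) * g⁻¹)) (b := ⟨x, l6 mx⟩) p]; simp only [map_mul, map_inv]⟩

theorem isConj_u : IsConj (γ 4) (γ 3) := by_contra fun n => h.caseC n (h.jo.resolve_left n)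

end Cz

end Cfsg.Lib.Big.HU
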