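import Cfsg.Agent.Lib.Calc.HVC

/-!
# The centraliser `4.HS.2`: the generator of order five
-/

set_option autoImplicit false
set_option maxRecDepth 100000
set_option linter.unusedSectionVars false

namespace Cfsg.Lib.Big.HU

open Cfsg.Lib.Calc Cfsg.Lib.Calc.HN Cfsg.Lib.Big.HN Cfsg.Lib.T2 Cfsg.Lib.ES Subgroup

variable {G : Type*} [Group G] {γ : ℕ → G} {ω : G}

namespace Cz

variable [Finite G] (h : Cz γ ω)
include h

theorem isConj_p (ju : IsConj (γ 4) (γ 3)) : IsConj (γ 4) (γ 10) := ju.trans (isConj_iff.2 ⟨(γ 24), h.eq (by decide +kernel)⟩)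

variable {r : G} (r3 : r ^ 3 = 1) (ru : r * (γ 3) * r⁻¹ = (γ 4)) (rs : r * (γ 4) * r⁻¹ = (γ 4) * (γ 3))
  (rX : ∀ x ∈ genW γ [.l 11, .l 12, .l 13], r * x = x * r) (pr : (γ 10) * r * (γ 10)⁻¹ = r⁻¹)
include ru rX

theorem isConj_d : IsConj (γ 6) ((γ 4) * (γ 5)) := isConj_iff.2 ⟨r, by
  rw [(h.eq (by decide +kernel) : (γ 6) = (γ 3) * (γ 5)), ← conj_mul, ru, cj_of_comm (rX _ (rmem h.q (.mul (.mul (.mul (.mul (.mul (.mul (.mul (.l 12) (.l 13)) (.l 12)) (.inv (.l 13))) (.l 12)) (.l 13)) (.l 12)) (.l 12)) (by decide +kernel)))]⟩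

theorem comm_a {x : G} (e : (γ 24)⁻¹ * x * (γ 24)⁻¹⁻¹ ∈ genW γ [.l 11, .l 12, .l 13]) : (γ 24) * r * (γ 24)⁻¹ * x = x * ((γ 24) * r * (γ 24)⁻¹) := by
  have := cj_comm (k := (γ 24)) (rX _ e)
  rwa [cj_cj, mul_inv_cancel, one_mul, inv_one, mul_one] at this

include r3 rs pr

theorem exists_delta : ∃ φ : MulAut G, φ (γ 15) ∈ genW γ (hp.ws 0) ∧ φ (γ 5) = (γ 4) ∧ Md (γ 4) (φ (γ 9)) (γ 3) ∧ φ r = (γ 11) ∧ φ (γ 11) = (γ 16) ∧ φ (γ 14) = (γ 5) ∧ φ (γ 4) = (γ 14) ∧ φ (γ 10) = (γ 21) ∧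
    ∀ c, r * c = c * r → (γ 24) * r * (γ 24)⁻¹ * c = c * ((γ 24) * r * (γ 24)⁻¹) → φ c * (γ 18) = (γ 18) * φ c := by
  have jU : IsConj (γ 4) (γ 3) := (isConj_iff.2 ⟨r, ru⟩).symm
  have jv := h.jv
  have jb : IsConj (γ 4) (γ 14) := jv.trans (isConj_iff.2 ⟨_, h.bv⟩).symm
  obtain ⟨k, hk⟩ := isConj_iff.1 jv.symm
  have j1 : IsConj (γ 4) (k * (γ 9) * k⁻¹) := jv.trans (isConj_iff.2 ⟨k * (γ 8), by rw [← cj_cj, (h.eq (by decide +kernel) : (γ 8) * (γ 5) * (γ 8)⁻¹ = (γ 9))]⟩)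
  obtain ⟨k, e⟩ : ∃ k, Fr γ 3 k (γ 5) (γ 9) := by
    rcases h.cls2 j1 (jv.trans (isConj_iff.2 ⟨k * (γ 16), by
      rw [← cj_cj, (h.eq (by decide +kernel) : (γ 16) * (γ 5) * (γ 16)⁻¹ = (γ 5) * (γ 9)), ← conj_mul, hk]⟩)) (hk ▸ cj_comm (h.eq (by decide +kernel))) with f | f
    · exact ty_norm hk f
    · exact absurd ((j1.trans (ju 6 h.qd f).symm).trans (h.isConj_d ru rX)) h.nz
  have rv := rX _ (rmem h.q (.mul (.mul (.mul (.mul (.mul (.mul (.mul (.l 12) (.l 13)) (.l 12)) (.inv (.l 13))) (.l 12)) (.l 13)) (.l 12)) (.l 12)) (by decide +kernel) : (γ 5) ∈ _)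
  have rw2 := rX _ (rmem h.q (.mul (.mul (.mul (.l 13) (.l 12)) (.l 13)) (.l 12)) (by decide +kernel) : (γ 9) ∈ _)
  have rb := rX _ (rmem h.q (.mul (.mul (.mul (.mul (.l 11) (.l 13)) (.inv (.l 11))) (.inv (.l 13))) (.l 11)) (by decide +kernel) : (γ 14) ∈ _)
  have r1 : r ≠ 1 := fun e => h.ne (by decide +kernel) (show (γ 3) = (γ 4) by simpa [e] using ru)
  obtain ⟨k, e, kr, kb, kg⟩ := h.norm4 (A := (γ 11)) (B := (γ 14)) e r3 r1 rv rw2 (h.eq (by decide +kernel)) (h.eq (by decide +kernel)) (rX _ (lmem γ 11)).symm (h.eq (by decide +kernel))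
    (h.eq (by decide +kernel)) rb.symm (h.eq (by decide +kernel)) jb (h.eq (by decide +kernel)) (h.ne (by decide +kernel))
  replace kb := h.exact_of (k := 1) (jb.trans (isConj_iff.2 ⟨k, rfl⟩)) kb (by simp) (by simp)
  have a1 : (γ 24) * r * (γ 24)⁻¹ * (γ 10) = (γ 4) * ((γ 24) * r * (γ 24)⁻¹) := mul_inv_eq_iff_eq_mul.1 (by
    rw [← (h.eq (by decide +kernel) : (γ 24) * (γ 3) * (γ 24)⁻¹ = (γ 10)), conj_inv, conj_mul, conj_mul, ru, cj_of_comm (h.cs _)])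
  have a2 : (γ 24) * r * (γ 24)⁻¹ * (γ 4) = (γ 10) * (γ 4) * ((γ 24) * r * (γ 24)⁻¹) := mul_inv_eq_iff_eq_mul.1 (by
    rw [← cj_of_comm (h.cs 24), conj_inv, conj_mul, conj_mul, rs]; exact h.eq (by decide +kernel))
  have a3 : (r * (γ 4)) ^ 3 = 1 := by
    have : (r * (γ 4)) ^ 3 = r * (γ 4) * r⁻¹ * (r * (r * (γ 4) * r⁻¹) * r⁻¹) * r ^ 3 * (γ 4) := by simp [pow_succ, mul_assoc]
    rw [this, r3, rs, ← conj_mul, rs, ru]; exact h.eq (by decide +kernel)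
  obtain ⟨l, ml, f1, f2, f3, f4, f5, f6⟩ := f_d3 h.barN (k * (γ 11) * k⁻¹) (by
      have m1 : (γ 16) ∈ genW γ (hq.ws 3) := lmem γ _
      have m2 : (γ 11) ∈ genW γ (hq.ws 3) := lmem γ _
      rcases kg with f | f | f <;> rw [f]
      exacts [m1, mul_mem m1 m2, mul_mem (mul_mem m1 m2) m2])
    (Or.inl (by rw [← kb, conj_mul]; exact cj_pw (h.eq (by decide +kernel)))) _ (h.fr_mem (x := (γ 4)) e (h.cs _).symm (h.cs _).symm (.inl (IsConj.refl _)))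
    (Or.inl (cj_comm (h.cs _).symm)) (Or.inl (kb ▸ cj_comm (h.cs _).symm)) (Or.inl (cj_sq h.s2))
    (nm1_cj e.1 h.s1 (h.ne (x := (γ 5)) (by decide +kernel)).symm) (Or.inl (by rw [← kr, conj_mul]; exact cj_pw a3)) _
    (h.fr_mem (x := (γ 10)) e (h.eq (by decide +kernel)) (h.eq (by decide +kernel)) (.inl (h.isConj_p jU))) (Or.inl (cj_comm (h.cs _))) (Or.inl (kb ▸ cj_comm (h.eq (by decide +kernel))))
    (Or.inl (by rw [← kr, conj_inv, conj_mul, conj_mul, mul_inv_eq_iff_eq_mul.1 pr]))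
    (Or.inl (by rw [conj_inv, conj_mul, conj_mul, (h.eq (by decide +kernel) : (γ 10) * (γ 11) = (γ 11)⁻¹ * (γ 10))])) _
    (h.fr_mem (x := (γ 24) * r * (γ 24)⁻¹) e (h.comm_a ru rX (rmem h.q (.mul (.mul (.mul (.mul (.mul (.l 12) (.l 13)) (.l 12)) (.inv (.l 13))) (.inv (.l 12))) (.inv (.l 12))) (by decide +kernel)))
      (h.comm_a ru rX (rmem h.q (.mul (.mul (.mul (.mul (.mul (.mul (.inv (.l 13)) (.l 12)) (.l 13)) (.inv (.l 12))) (.inv (.l 12))) (.inv (.l 13))) (.l 12)) (by decide +kernel))) (ok3 (cj_pw r3)))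
    (Or.inl (by rw [← kb, conj_mul]; exact cj_comm (h.comm_a ru rX (rmem h.q (.mul (.mul (.mul (.mul (.mul (.mul (.mul (.mul (.mul (.l 13) (.l 12)) (.l 12)) (.l 13)) (.l 11)) (.l 13)) (.l 12)) (.inv (.l 11))) (.l 13)) (.l 11)) (by decide +kernel)))))
    (Or.inl (by rw [conj_mul, conj_mul, a1])) (Or.inl (by rw [conj_mul, conj_mul, conj_mul, a2])) (Or.inl (cj_pw (cj_pw r3)))
  have c := h.cs0 ml
  have e1 := h.fr_mulN e ml
  have ex : ∀ {x y k' : G}, IsConj (γ 4) x → Md (γ 4) (l * y) (k * x * k⁻¹ * l) → k' * (γ 4) = (γ 4) * k' → k' * y * k'⁻¹ = (γ 5) →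
      l⁻¹ * k * x * (l⁻¹ * k)⁻¹ = y := fun j f a b =>
    h.exact_of (j.trans (isConj_iff.2 ⟨_, rfl⟩)) (cj_cj l⁻¹ k _ ▸ md_of_cj f c h.s2) a b
  have g1 := h.keep kr f1 c (h.cs _) (n := 3) (by decide) (h.eq (by decide +kernel))
  refine ⟨MulAut.conj (l⁻¹ * k), h.cmp e1.1 h.wm (h.eq (by decide +kernel)), e1.1, e1.2, g1, h.odd f2 c (h.cs _) (n := 3) (by decide) (h.eq (by decide +kernel)) (h.eq (by decide +kernel)),
    ex (k' := 1) jb (kb ▸ f3) (by simp) (by simp), ex (IsConj.refl _) f4 h.csw h.bv,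
    ex (k' := ((γ 12) * (γ 13) * (γ 11) * (γ 13) * (γ 12) * (γ 11))) (h.isConj_p jU) f5 h.csw (h.eq (by decide +kernel)), fun x x1 x2 => ?_⟩
  have key : ∀ t : W, Md (γ 4) (l * t.ev γ) (k * ((γ 24) * r * (γ 24)⁻¹) * k⁻¹ * l) → (t.ev γ) ^ 3 = 1 → (γ 18) ∈ genW γ [.l 11, t] →
      MulAut.conj (l⁻¹ * k) x * (γ 18) = (γ 18) * MulAut.conj (l⁻¹ * k) x := fun t f t3 m =>
    comm_genW (List.forall_mem_cons.2 ⟨(g1 ▸ cj_comm x1.symm :), List.forall_mem_singleton.2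
      (h.odd f c (h.cH (h.evmem t)) (n := 3) (by decide) (cj_pw r3) t3 ▸ cj_comm x2.symm :)⟩) _ m
  rcases f6 with f | f | f | f
  · exact key (.l 17) f (h.eq (x := (γ 17) ^ 3) (by decide +kernel)) (rmem h.q (.mul (.mul (.mul (.l 17) (.l 11)) (.inv (.l 17))) (.l 11)) (by decide +kernel))
  · exact key (.mul (.mul (.l 14) (.l 17)) (.l 14)) f (h.eq (x := ((γ 14) * (γ 17) * (γ 14)) ^ 3) (by decide +kernel)) (rmem h.q (.mul (.mul (.mul (.mul (.mul (.mul (.inv (.l 11)) (.mul (.mul (.l 14) (.l 17)) (.l 14))) (.inv (.l 11))) (.inv (.mul (.mul (.l 14) (.l 17)) (.l 14)))) (.inv (.l 11))) (.mul (.mul (.l 14) (.l 17)) (.l 14))) (.l 11)) (by decide +kernel))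
  · exact key (.mul (.mul (.l 21) (.l 17)) (.l 21)) f (h.eq (x := ((γ 21) * (γ 17) * (γ 21)) ^ 3) (by decide +kernel)) (rmem h.q (.mul (.mul (.mul (.mul (.mul (.mul (.l 11) (.mul (.mul (.l 21) (.l 17)) (.l 21))) (.l 11)) (.inv (.mul (.mul (.l 21) (.l 17)) (.l 21)))) (.l 11)) (.mul (.mul (.l 21) (.l 17)) (.l 21))) (.l 11)) (by decide +kernel))
  · exact key (.mul (.mul (.mul (.mul (.l 21) (.l 14)) (.l 17)) (.l 14)) (.l 21)) f (h.eq (x := ((γ 21) * (γ 14) * (γ 17) * (γ 14) * (γ 21)) ^ 3) (by decide +kernel))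
      (rmem h.q (.mul (.mul (.mul (.mul (.mul (.mul (.mul (.l 21) (.l 14)) (.l 17)) (.l 14)) (.l 21)) (.inv (.l 11))) (.inv (.mul (.mul (.mul (.mul (.l 21) (.l 14)) (.l 17)) (.l 14)) (.l 21)))) (.l 11)) (by decide +kernel))

omit r3 ru rs rX pr

theorem exists_T : ∃ T : G, T ^ 5 = 1 ∧ (γ 1)⁻¹ * T * (γ 1) * T ^ 2 = 1 ∧ T⁻¹ * (γ 2)⁻¹ * T * (γ 2) = 1 ∧ ((γ 3) * T) ^ 3 = 1 := by
  obtain ⟨r, r3, ru, rs, rX, pr⟩ := h.exists_ru h.isConj_u
  obtain ⟨φ, my, v1, w1, r1, g1, b1, s1, p1, hc⟩ := h.exists_delta r3 ru rs rX pr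
  have u1 : φ (γ 3) = (γ 11)⁻¹ * (γ 14) * (γ 11) := by rw [← cj_inv ru, inv_inv, map_mul, map_mul, map_inv, r1, s1]
  obtain ⟨T, hT⟩ := φ.surjective (γ 18)
  obtain ⟨ξ, hξ⟩ := φ.surjective (γ 23)
  have cT : ∀ {c}, φ c * (γ 18) = (γ 18) * φ c → T * c = c * T := fun e => φ.injective (by rw [map_mul, map_mul, hT, e])
  have ys : φ (γ 15) * (γ 4) = (γ 4) * φ (γ 15) := by rw [← v1, ← map_mul, ← map_mul]; exact congrArg φ (h.eq (by decide +kernel))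
  have yu : φ (γ 15) * φ (γ 9) = (γ 4) * (φ (γ 9) * φ (γ 15)) := by
    rw [← v1, ← map_mul, ← map_mul, ← map_mul]; exact congrArg φ (h.eq (by decide +kernel))
  have y1 := f_d6 h.barN (φ (γ 15)) ((h.memN my).2 (((w1.symm h.s2).mul_left ys).trans
      (Md.trans (Or.inr yu) (w1.mul_right _) h.s2) h.s2))
    (Or.inl (by rw [← r1, ← map_mul, ← map_mul, rX _ (rmem h.q (.mul (.mul (.mul (.mul (.mul (.mul (.inv (.l 13)) (.inv (.l 11))) (.l 13)) (.l 12)) (.l 11)) (.l 13)) (.inv (.l 12))) (by decide +kernel))]))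
    (Or.inl (by rw [← s1, ← map_mul, ← map_mul, h.cs]))
    (Or.inl (by rw [← g1, ← map_inv, ← map_mul, ← map_mul]; exact congrArg φ (h.eq (by decide +kernel))))
    (Or.inl (by rw [← g1, ← b1, ← map_inv, ← map_mul, ← map_mul, ← map_mul, ← map_mul]; exact congrArg φ (h.eq (by decide +kernel))))
  have tl := cT (hc (γ 13) (rX _ (lmem γ _)) (h.comm_a ru rX (rmem h.q (.mul (.mul (.mul (.mul (.inv (.l 12)) (.l 13)) (.l 12)) (.l 12)) (.l 13)) (by decide +kernel))))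
  have tf := cT (hc (γ 12) (rX _ (lmem γ _)) (h.comm_a ru rX (rmem h.q (.mul (.l 12) (.inv (.l 13))) (by decide +kernel))))
  have ty : T * (γ 15) = (γ 15) * T := cT (by rcases y1 with (e | e) | e | e <;> rw [e] <;> exact h.eq (by decide +kernel))
  have tx : T * ξ = ξ * T := cT (hξ ▸ h.eq (by decide +kernel))
  have xs : ξ * (γ 4) = (γ 4) * ξ := φ.injective (by rw [map_mul, map_mul, hξ, s1]; exact h.eq (by decide +kernel))
  have x5 : ξ ^ 5 = 1 := φ.injective (by rw [map_pow, hξ, map_one]; exact h.eq (by decide +kernel))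
  have x3 : (ξ * ξ * (γ 10) * (γ 3)) ^ 3 = 1 := φ.injective (by simp only [map_pow, map_mul, map_one, hξ, p1, u1]; exact h.eq (by decide +kernel))
  have := f_E1 h.bar ξ ((h.memC (by simpa using h.okH (k := 1) (ok5 x5) (by simpa using xs))).2 (Or.inl (φ.injective (by rw [map_mul, map_mul, hξ, v1]; exact h.cs _)))) (Or.inl x5)
    (Or.inl (φ.injective (by simp only [map_pow, map_mul, map_one, hξ, u1]; exact h.eq (by decide +kernel))))
    (Or.inl (φ.injective (by simp only [map_pow, map_mul, map_one, hξ, p1]; exact h.eq (by decide +kernel))))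
    (Or.inl (φ.injective (by simp only [map_pow, map_mul, map_one, hξ, g1]; exact h.eq (by decide +kernel))))
    (Or.inl (φ.injective (by simp only [map_pow, map_mul, map_one, hξ, g1]; exact h.eq (by decide +kernel))))
    (Or.inl (φ.injective (by simp only [map_pow, map_mul, hξ, v1]; rcases w1 with e | e <;> rw [e] <;> exact h.eq (by decide +kernel))))
    (by
      rcases y1 with e | e
      · exact .inr (.inl (φ.injective (by simp only [map_pow, map_mul, hξ, v1]; rcases e with e | e <;> rw [e] <;> exact h.eq (by decide +kernel))))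
      · exact .inl (.inl (φ.injective (by
          simp only [map_pow, map_mul, map_one, hξ]; rcases e with e | e <;> rw [e] <;> exact h.eq (by decide +kernel)))))
    (Or.inl (φ.injective (by simp only [map_pow, map_mul, map_one, hξ, g1, u1]; exact h.eq (by decide +kernel))))
  have ex : ∀ {c}, Md (γ 4) ξ (γ c) → γ c ^ 5 = 1 → ξ = γ c := fun e c5 => e.eq_of_odd h.ord (h.cs _).symm (n := 5) (by decide) x5 c5
  have key : ∀ c, ξ = γ c → (γ 2) ∈ genW γ [.l 13, .l 12, .l 15, .l c] → T * (γ 2) = (γ 2) * T := fun c e => comm_genW (by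
    simp only [List.forall_mem_cons, ev_l]; exact ⟨tl, tf, ty, e ▸ tx, by simp⟩) _
  have tq := comm_genW (ts := [.l 13, .l 12, .l 15]) (by simp only [List.forall_mem_cons, ev_l]; exact ⟨tl, tf, ty, by simp⟩)
    (((γ 3) * (γ 10) * (γ 11))⁻¹ * (γ 1)) (rmem h.q (.mul (.mul (.l 12) (.l 15)) (.inv (.l 12))) (by decide +kernel))
  have tq2 : ((γ 3) * (γ 10) * (γ 11))⁻¹ * T * ((γ 3) * (γ 10) * (γ 11)) * T ^ 2 = 1 :=
    φ.injective (by simp only [map_pow, map_mul, map_one, map_inv, hT, g1, u1, p1]; exact h.eq (by decide +kernel))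
  refine ⟨T, φ.injective (by rw [map_pow, hT, map_one]; exact h.eq (by decide +kernel)), ?_, ?_,
    φ.injective (by simp only [map_pow, map_mul, map_one, hT, u1]; exact h.eq (by decide +kernel))⟩
  · generalize (γ 3) * (γ 10) * (γ 11) = q at tq tq2
    have e : (γ 1)⁻¹ * T * (γ 1) * T ^ 2 = (q⁻¹ * (γ 1))⁻¹ * (q⁻¹ * T * q) * (q⁻¹ * (γ 1) * T ^ 2) := by group
    rw [e, ← comm_pow tq 2, eq_inv_of_mul_eq_one_left tq2]; group
  · have : T * (γ 2) = (γ 2) * T := by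
      rcases this with e | e | e | e <;> replace e := ex e (h.eq (by decide +kernel))
      · exact key _ e (rmem h.q (.mul (.mul (.mul (.mul (.mul (.mul (.mul (.inv (.l 12)) (.inv (.l 33))) (.l 12)) (.inv (.l 33))) (.inv (.l 12))) (.l 13)) (.inv (.l 33))) (.l 13)) (by decide +kernel))
      · exact absurd ((h.eq (by decide +kernel) : ((γ 34) * (γ 34) * (γ 10) * (γ 3)) ^ 3 = (γ 4)).symm.trans (e ▸ x3)) h.s1
      · exact key _ e (rmem h.q (.mul (.mul (.mul (.mul (.mul (.mul (.inv (.l 35)) (.inv (.l 35))) (.l 13)) (.inv (.l 12))) (.inv (.l 13))) (.inv (.l 35))) (.l 12)) (by decide +kernel))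
      · exact absurd ((h.eq (by decide +kernel) : ((γ 36) * (γ 36) * (γ 10) * (γ 3)) ^ 3 = (γ 4)).symm.trans (e ▸ x3)) h.s1
    rw [mul_assoc, mul_assoc, this]; group


theorem norm_range {G' : Type*} [Group G'] {δ : ℕ → G'} (h' : Cfg δ) (hmax : ∀ S : Subgroup G', centralizer {δ 4} ≤ S →
    S ≤ centralizer {δ 4} ∨ S = ⊤) {r : G'} (ru : r * δ 3 * r⁻¹ = δ 4) (rs : r * δ 4 * r⁻¹ = δ 4 * δ 3)
    (rX : ∀ x ∈ genW δ [.l 11, .l 12, .l 13], r * x = x * r) {Ψ : G' →* G} (e : (fun c => Ψ (δ c)) = γ) :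
    ∀ x ∈ Ψ.range, ω * x * ω⁻¹ ∈ Ψ.range := by
  subst e
  have le : genW (fun c => Ψ (δ c)) (hp.ws 0) ≤ Ψ.range := by rw [← map_genW]; exact map_le_range _ _
  have a1 : Ψ r * Ψ (δ 3) * (Ψ r)⁻¹ = Ψ (δ 4) := by rw [← ru, map_mul, map_mul, map_inv]
  have a2 : Ψ r * Ψ (δ 4) * (Ψ r)⁻¹ = Ψ (δ 4) * Ψ (δ 3) := by rw [← map_mul Ψ (δ 4), ← rs, map_mul, map_mul, map_inv]
  have a3 : Ψ r * (Ψ (δ 4) * Ψ (δ 3)) * (Ψ r)⁻¹ = Ψ (δ 3) := by rw [← conj_mul, a1, a2]; exact h.eq (by decide +kernel)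
  have b1 := cj_of_comm (h.rM 4 (by decide +kernel))
  have b3 : ω * (Ψ (δ 4) * Ψ (δ 3)) * ω⁻¹ = Ψ (δ 3) := by rw [← conj_mul, b1, h.ru]; exact h.eq (by decide +kernel)
  have tr : ∀ {a b c d}, ω * a * ω⁻¹ = b → Ψ r * a * (Ψ r)⁻¹ = c → ω * c * ω⁻¹ = d → Ψ r * d * (Ψ r)⁻¹ = b →
      Ψ r * (ω * Ψ r * ω⁻¹) * b = b * (Ψ r * (ω * Ψ r * ω⁻¹)) := fun p q k l => comm_of_cj (by
    rw [← cj_cj, ← cj_cj, cj_inv p, ← cj_cj, q, k, l])
  have m := (h.cenU _ (tr b1 a2 b3 a1) (tr b3 a3 h.ru a3) (fun x m => (comm_genW (by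
    simp only [List.forall_mem_cons, ev_l]
    have k : ∀ c, (W.l c).isIn [.l 11, .l 12, .l 13] = true → parW (· != 5) (labW labs c) = true →
        Ψ r * (ω * Ψ r * ω⁻¹) * Ψ (δ c) = Ψ (δ c) * (Ψ r * (ω * Ψ r * ω⁻¹)) := fun c p q => by
      have : Ψ r * Ψ (δ c) = Ψ (δ c) * Ψ r := by rw [← map_mul, rX _ (lmem δ c p), map_mul]
      exact comm_mul this (comm_mul (comm_mul (h.rM c q) this) (comm_inv (h.rM c q)))
    exact ⟨k _ rfl (by decide +kernel), k _ rfl (by decide +kernel), k _ rfl (by decide +kernel), by simp⟩) x m))).elim (·.mem (le h.wm)) (·.mem (le h.wm) (le h.wm))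
  rw [Ψ.range.mul_mem_cancel_left (x := Ψ r) ⟨r, rfl⟩] at m
  rintro _ ⟨x, rfl⟩
  rcases hmax ((Ψ.range.comap (MulAut.conj ω).toMonoidHom).comap Ψ) fun a ma => le (h.rn _ (by
    rw [← map_genW]; exact ⟨a, h'.cen.ge ma, rfl⟩)) with k | k
  · exact absurd (left_eq_mul.1 ((cj_of_comm (mem_centralizer_singleton_iff.1 (k m))).symm.trans rs)) (h'.ne (by decide +kernel))
  · exact k.ge (mem_top x)

end Cz

end Cfsg.Lib.Big.HU
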