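import Cfsg.Agent.Lib.Calc.HVD

/-!
# A subgroup `HN × O` containing the centraliser of an involution
-/

set_option autoImplicit false
set_option maxRecDepth 100000
set_option linter.unusedSectionVars false

namespace Cfsg.Lib.Big.HU

open Cfsg.Lib.Calc Cfsg.Lib.Calc.HN Cfsg.Lib.Big.HN Cfsg.Lib.T2 Cfsg.Lib.ES Subgroup

variable {G G' : Type*} [Group G] [Group G'] {γ : ℕ → G}

/-- `M` is the product of `N` and commuting elements of odd order -/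
structure OddExt (M N : Subgroup G) : Prop where
  le : N ≤ M
  dec : ∀ x ∈ M, ∃ m ∈ N, ∃ o n, Odd n ∧ o ^ n = 1 ∧ (∀ y ∈ N, o * y = y * o) ∧ m * o = x

theorem OddExt.inv {M N : Subgroup G} (X : OddExt M N) {x : G} (hx : x ∈ M) (e : x * x = 1) : x ∈ N := by
  obtain ⟨m, mm, o, n, o1, o2, o3, rfl⟩ := X.dec x hx
  rw [← Commute.mul_mul_mul_comm (o3 m mm).symm, mul_eq_one_iff_inv_eq] at e
  exact mul_mem mm (mem_of_pow_coprime (Nat.coprime_two_left.2 o1) (by rw [sq, ← e]; exact inv_mem (mul_mem mm mm))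
    (o2 ▸ one_mem N))

theorem OddExt.cj {M N : Subgroup G} (X : OddExt M N) {x : G} (hx : x ∈ M) : ∃ m ∈ N, ∀ y ∈ N, x * y * x⁻¹ = m * y * m⁻¹ := by
  obtain ⟨m, mm, o, n, -, -, o3, rfl⟩ := X.dec x hx
  exact ⟨m, mm, fun y my => by rw [← cj_cj, cj_of_comm (o3 y my)]⟩

section Quot

variable (I : IsoW he.gam γ) [Finite G]
include I

theorem q_top' {M : Subgroup G} (X : OddExt M (genW γ (he.ws 0))) (nf : ∀ c ∈ [5, 6, 7, 8, 9], ¬ IsConj (γ 4) (γ c)) (hC : ∀ c, c * γ 4 = γ 4 * c → c ∈ M) : M = ⊤ := by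
  obtain ⟨m4, m5, m6, -, -, s1⟩ := e_M I
  have q2 := fun x hx => (e_Q I x hx).1
  have s2 := q2 _ m4
  have fus : ∀ x ∈ M, IsConj (γ 4) x → ∃ k ∈ genW γ (he.ws 0), k * γ 4 * k⁻¹ = x := fun x hx j => by
    obtain rfl | ⟨c, hc, g, mg, rfl⟩ := q_cls I (X.inv hx (sq_of_conj s2 j)) (sq_of_conj s2 j)
    · exact absurd (isConj_one_left.1 j) s1
    · rcases List.mem_cons.1 hc with rfl | hc
      exacts [⟨g, mg, rfl⟩, absurd (j.trans (isConj_iff.2 ⟨g, rfl⟩).symm) (nf c hc)]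
  have us := uu_of_fus hC fun x m j => (fus x m j).imp fun k e => ⟨X.le e.1, e.2⟩
  have nQ : ∀ m ∈ M, ∀ x ∈ genW γ (he.ws 3), m * x * m⁻¹ ∈ genW γ (he.ws 3) := fun m hm x hx =>
    have ⟨k, m, e⟩ := X.cj hm
    e x (q_le I 3 hx) ▸ q_norm I k m x hx
  have cQ : ∀ x ∈ genW γ (he.ws 3), ∀ y ∈ genW γ (he.ws 3), x * y = y * x := fun x hx y hy => by
    rw [eq_inv_of_mul_eq_one_left (q2 _ (mul_mem hx hy)), mul_inv_rev, ← eq_inv_of_mul_eq_one_left (q2 _ hx),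
      ← eq_inv_of_mul_eq_one_left (q2 _ hy)]
  have sQ : ∀ x ∈ M, IsConj (γ 4) x → x ∈ genW γ (he.ws 3) := fun x hx j => by
    obtain ⟨k, mk, rfl⟩ := fus x hx j; exact q_norm I k mk _ m4
  have L : ∀ r k, γ r ∈ genW γ (he.ws 3) → (∀ w ∈ ces, ∀ b, b = w.ev γ * γ 4 * (w.ev γ)⁻¹ →
      (orCj 101 (.l 4) ces).holds (fun k => genW γ (he.ws k)) (upd (upd γ 100 b) 101 (γ k * γ 4 * (γ k)⁻¹ * b)) ∨
      ¬ ∃ c ∈ genW γ (he.ws 0), c * γ r = γ r * c ∧ c * (γ k * γ 4 * (γ k)⁻¹ * b) = γ k * γ 4 * (γ k)⁻¹ * b * c ∧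
        c * γ 4 = b * c ∧ True) → ∀ c, c * γ r = γ r * c → c ∈ M := fun r k mr f c hc => by
    have mk := mul_mem (mul_mem (q_mem I k) (q_mem I 4)) (inv_mem (q_mem I k))
    refine lemL s2 us ((q_le I 3).trans X.le) cQ sQ (X.le (q_mem I 4)) mr (X.le mk) (isConj_iff.2 ⟨_, rfl⟩) (fun y hy => or_iff_not_imp_right.2 fun e => ?_) hc
    obtain ⟨c', mc', c1, c2, c3⟩ := not_not.1 e
    obtain ⟨c, mc, e'⟩ := X.cj mc'
    replace c1 := comm_of_cj ((e' _ (q_mem I r)).symm.trans (cj_of_comm c1))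
    replace c2 := comm_of_cj ((e' _ (q_le I 3 hy)).symm.trans (cj_of_comm c2))
    rw [e' _ (q_mem I 4)] at c3
    have mb := q_norm I c mc _ m4
    have jb : IsConj (γ 4) (c * γ 4 * c⁻¹) := isConj_iff.2 ⟨c, rfl⟩
    have ey : γ k * γ 4 * (γ k)⁻¹ * (c * γ 4 * c⁻¹) = y := by rw [c3, ← mul_assoc, cj_sq s2, one_mul]
    rcases (e_Q I _ mb).2 with e | e | e | e
    · exact absurd (conj_eq_one_iff.1 e) s1
    · obtain ⟨w, hw, e⟩ := orCj_list e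
      rw [upd_self, ev_upd (List.all_eq_true.1 ((by decide +kernel) : ces.all (avoid 100) = true) w hw)] at e
      rcases f w hw _ (eq_mul_inv_of_mul_eq e) with f | f <;> rw [ey] at f
      · obtain ⟨g, -, f⟩ := orCj_isConj (H := ⊤) (fun _ => trivial) f
        exact isConj_iff.2 ⟨g, f⟩
      · exact absurd ⟨c, mc, c1, c2, (inv_mul_cancel_right _ _).symm, trivial⟩ f
    · obtain ⟨g, -, e⟩ := q_cj I (q_le I 3 mb) _ (by decide) e
      exact absurd (jb.trans (isConj_iff.2 ⟨g, e⟩).symm) (nf 5 (by decide))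
    · obtain ⟨g, -, e⟩ := q_cj I (q_le I 3 mb) _ (by decide) e
      exact absurd (jb.trans (isConj_iff.2 ⟨g, e⟩).symm) (nf 6 (by decide))
  refine top_of_uu us cQ sQ (X.le (q_mem I 4)) (orderOf_eq_prime ((sq _).trans s2) s1) nQ q2
    ((I.card_eq _).symm.trans he_card.2.2.1) ?_ fun y hy y1 a ha => ?_
  · have e := relIndex_mul_card (q_le I 4)
    rw [← I.card_eq, ← I.card_eq, show Nat.card (genW he.gam (he.ws 0)) = _ from he_card.1,
      show Nat.card (genW he.gam (he.ws 4)) = _ from he_card.2.2.2, I.cen_eq (x := .l 4) he_cen4, inf_relIndex_left, ev_l,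
      relIndex_eq_of_forall X.le fun m hm => (X.cj hm).imp fun k f => ⟨f.1, mem_centralizer_singleton_iff.2
        (comm_of_cj (by rw [← cj_cj, f.2 _ (q_mem I 4), cj_back]))⟩] at e
    omega
  · obtain ⟨c, hc, g, mg, rfl⟩ := (q_Q I hy).resolve_left y1
    have a1 := cj_comm (k := g⁻¹) ha
    rw [cj_back] at a1
    have : g⁻¹ * a * g⁻¹⁻¹ ∈ M := by
      simp only [List.mem_cons, List.not_mem_nil, or_false] at hc
      rcases hc with rfl | rfl | rfl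
      exacts [hC _ a1, L 5 23 m5 (e_L75 I) _ a1, L 6 24 m6 (e_L120 I) _ a1]
    simpa [mul_assoc] using mul_mem (mul_mem (X.le mg) this) (inv_mem (X.le mg))

end Quot

theorem odd_top [Finite G] [Finite G'] [IsSimpleGroup G'] {δ : ℕ → G'} {κ : G'} (h : Cf2 δ κ) {Ψ : G' →* G}
    (hi : Function.Injective Ψ) {M : Subgroup G} (X : OddExt M Ψ.range) (hC : ∀ c, c * Ψ (δ 4) = Ψ (δ 4) * c → c ∈ M)
    (nz : ¬ IsConj (Ψ (δ 4)) (Ψ (δ 4 * δ 5))) {n : G} (n1 : n * Ψ (δ 4) * n⁻¹ = Ψ (δ 5)) (n2 : n * Ψ (δ 5) * n⁻¹ = Ψ (δ 4)) :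
    M = ⊤ := by
  have two : ∀ j ∈ M, j * j = 1 → j = 1 ∨ (∃ k ∈ M, k * Ψ (δ 4) * k⁻¹ = j) ∨ ∃ k ∈ M, k * Ψ (δ 4 * δ 5) * k⁻¹ = j := fun j m e => by
    obtain ⟨j, rfl⟩ := X.inv m e
    have key : ∀ {x}, IsConj x j → ∃ k ∈ M, k * Ψ x * k⁻¹ = Ψ j := fun f =>
      have ⟨k, f⟩ := isConj_iff.1 f
      ⟨Ψ k, X.le ⟨k, rfl⟩, by rw [← f, map_mul, map_mul, map_inv]⟩
    exact (h.two (hi ((map_mul Ψ j j).trans (e.trans (map_one Ψ).symm)))).imp (fun f => by rw [f, map_one]) (Or.imp key key)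
  have s2 : Ψ (δ 4) * Ψ (δ 4) = 1 := by rw [← map_mul, h.s2, map_one]
  have z2 : Ψ (δ 4 * δ 5) * Ψ (δ 4 * δ 5) = 1 := by rw [← map_mul, h.z2, map_one]
  have ne : ∀ {x}, x ≠ 1 → ∀ {j}, IsConj (Ψ x) j → j ≠ 1 := fun p _ j e => p (hi ((isConj_one_left.1 (e ▸ j)).trans (map_one Ψ).symm))
  have fs : ∀ j ∈ M, IsConj (Ψ (δ 4)) j → ∃ k ∈ M, k * Ψ (δ 4) * k⁻¹ = j := fun j m e =>
    ((two j m (sq_of_conj s2 e)).resolve_left (ne h.s1 e)).resolve_right fun ⟨k, _, f⟩ => nz (e.trans (isConj_iff.2 ⟨k, f⟩).symm)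
  have us := uu_of_fus hC fs
  have back : ∀ x, IsConj (Ψ (δ 4)) (Ψ x) → IsConj (δ 4) x := fun x e =>
    ((h.two (hi ((map_mul Ψ x x).trans ((sq_of_conj s2 e).trans (map_one Ψ).symm)))).resolve_left
      fun f => ne h.s1 e (f ▸ map_one Ψ)).resolve_right fun f => nz (e.trans (Ψ.map_isConj f).symm)
  let C := centralizer ({Ψ (δ 4 * δ 5)} : Set G)
  let z : C := ⟨_, mem_centralizer_singleton_iff.2 rfl⟩
  have cc : ∀ a : C, (a : G) * Ψ (δ 4 * δ 5) = Ψ (δ 4 * δ 5) * a := fun a => mem_centralizer_singleton_iff.1 a.2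
  have : (zpowers z).Normal := ⟨fun x hx g => by rwa [cj_of_comm (comm_zpowers (Subtype.ext (cc g).symm) hx).symm]⟩
  let π := QuotientGroup.mk' (zpowers z)
  have hπ : ∀ a, π a = 1 ↔ M1 (Ψ (δ 4 * δ 5)) a := fun a => ((QuotientGroup.eq_one_iff a).trans (mem_zpowers_iff_of_orderOf_two
    ((orderOf_coe _).symm.trans ((orderOf_injective Ψ hi _).trans h.oz)))).trans (or_congr Subtype.ext_iff Subtype.ext_iff)
  have cz : ∀ c, Ψ (eta δ κ c) ∈ C := fun c => mem_centralizer_singleton_iff.2 (by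
    rw [← map_mul, mem_centralizer_singleton_iff.1 (h.cz c), map_mul])
  have I := (h.bar2.map hi).isoW cz hπ
  have pe : ∀ {a b : C}, π a = π b → Md (Ψ (δ 4 * δ 5)) a b := fun {a b} e => md_iff.2 ((hπ (a * b⁻¹)).1 (by
    rw [map_mul, map_inv, e, mul_inv_cancel]))
  have cj : ∀ {g a b : C}, π g * π a * (π g)⁻¹ = π b → Md (Ψ (δ 4 * δ 5)) (g * a * (g : G)⁻¹) b := fun {g a b} e =>
    pe (a := g * a * g⁻¹) (by rw [map_mul, map_mul, map_inv, e])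
  have pm : ∀ x ∈ genW (fun c => π (subLet cz c)) (he.ws 0), ∃ a : C, (a : G) ∈ Ψ.range ∧ π a = x := fun x m =>
    genW_le (H := (Ψ.range.subgroupOf C).map π).2 (fun t _ => ev_mem_of_forall (fun c => mem_map_of_mem π (show subLet cz c ∈ Ψ.range.subgroupOf C from ⟨_, rfl⟩)) t) m
  have zs : Ψ (δ 4 * δ 5) * Ψ (δ 4) = Ψ (δ 5) := by rw [← map_mul]; exact congrArg Ψ (h.eq (by decide +kernel))
  have top := q_top' I (M := (M.subgroupOf C).map π) ⟨fun x m => (pm x m).imp fun a e => ⟨X.le e.1, e.2⟩, ?_⟩ (fun c hc e => ?_)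
    fun c e => ?_
  · have hZ : ∀ c, c * Ψ (δ 4 * δ 5) = Ψ (δ 4 * δ 5) * c → c ∈ M := fun c e => by
      obtain ⟨b, mb, f⟩ := top.ge (mem_top (π ⟨c, mem_centralizer_singleton_iff.2 e⟩))
      exact (pe f.symm).mem (X.le ⟨_, rfl⟩) mb
    have uz := uu_of_fus hZ fun j m e => ((two j m (sq_of_conj z2 e)).resolve_left (ne (h.ne (by decide +kernel)) e)).resolve_left
      fun ⟨k, _, f⟩ => nz ((isConj_iff.2 ⟨k, f⟩).trans e.symm)
    refine top_of_trans (X.le ⟨_, rfl⟩) ((orderOf_injective Ψ hi _).trans h.ord) us z2 (X.le ⟨_, rfl⟩) uz nz fun w o c _ => ?_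
    rcases two w (hC w c) (mul_self_of_orderOf_two o) with e | ⟨k, -, e⟩ | ⟨k, -, e⟩
    exacts [absurd e (ne_one_of_orderOf_two o), us.isConj (isConj_iff.2 ⟨k, e⟩), uz.isConj (isConj_iff.2 ⟨k, e⟩)]
  · rintro _ ⟨a, ma, rfl⟩
    obtain ⟨_, ⟨m, rfl⟩, o, k, o1, o2, o3, e⟩ := X.dec _ ma
    let o' : C := ⟨o, mem_centralizer_singleton_iff.2 (o3 _ ⟨_, rfl⟩)⟩
    have e1 : ((a * o'⁻¹ : C) : G) = Ψ m := (eq_mul_inv_of_mul_eq e).symm
    obtain ⟨t, f, mt⟩ := exists_pair_of_mem _ (fun c => π (subLet cz c))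
      (h.main.1 m (hi (by rw [map_mul, map_mul Ψ _ m, ← e1]; exact cc _)))
    refine ⟨_, mt, π o', k, o1, by rw [← map_pow, show o' ^ k = 1 from Subtype.ext o2, map_one], fun y my => ?_, ?_⟩
    · obtain ⟨b, mb, rfl⟩ := pm y my
      rw [← map_mul, ← map_mul]; exact congrArg π (Subtype.ext (o3 _ mb))
    · rw [← W.map_ev, ← map_mul]
      exact congrArg π (Subtype.ext (by rw [coe_mul, coe_ev_subLet, ← W.map_ev, f]; exact e))
  · obtain ⟨g, e⟩ := isConj_iff.1 e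
    obtain ⟨g, rfl⟩ := QuotientGroup.mk'_surjective _ g
    have j1 : IsConj (Ψ (δ 4)) (g * Ψ (δ 4) * (g : G)⁻¹) := isConj_iff.2 ⟨g, rfl⟩
    have j2 : IsConj (Ψ (δ 4)) (Ψ (δ 4 * δ 5) * (g * Ψ (δ 4) * (g : G)⁻¹)) := (isConj_iff.2 ⟨n, n1⟩).trans (isConj_iff.2 ⟨g, by
      rw [← cj_of_comm (cc g), conj_mul, zs]⟩)
    have e : Md (Ψ (δ 4 * δ 5)) (g * Ψ (δ 4) * (g : G)⁻¹) (Ψ (eta δ κ c)) := cj e
    refine h.nf c hc ((e.elim (fun e => ⟨e ▸ j1, e ▸ j2⟩) fun e => ?_ : _ ∧ _).imp (back _) fun f => back _ (map_mul Ψ _ _ ▸ f))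
    rw [e, ← mul_assoc, z2, one_mul] at j2
    exact ⟨j2, e ▸ j1⟩
  · obtain ⟨c, rfl⟩ := QuotientGroup.mk'_surjective _ c
    refine ⟨c, (cj (cj_of_comm e)).elim (fun e => hC _ (comm_of_cj e)) fun e => ?_, rfl⟩
    have mn := us.mem (X.le ⟨_, rfl⟩) (n1 ▸ X.le ⟨_, rfl⟩)
    exact (M.mul_mem_cancel_left mn).1 (hC _ (comm_of_cj ((cj_cj _ _ _).symm.trans ((congrArg (n * · * n⁻¹) (e.trans zs)).trans n2))))

end Cfsg.Lib.Big.HU
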