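import Cfsg.Agent.Lib.Calc.TMOrth
import Cfsg.Agent.Lib.Grp.Mat2
import Cfsg.Agent.Lib.Orth.Diag
import Cfsg.Agent.S0292

/-!
# Subgroups generated by transpositions and reflection groups over the field with three elements
-/

set_option autoImplicit false

namespace Cfsg.Lib.Calc

open Subgroup Cfsg.Lib.Orth Cfsg.Lib.ThreeTr Cfsg.Lib.Grp

theorem graph_side {K G I : Type*} [Group K] [Group G] (π : K →* G) {T : Subgroup K} {p : I → G}
    (hT : T.map π = closure (Set.range p)) : ∃ g : T →* closure (Set.range p) ⧸ center (closure (Set.range p)),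
      Function.Surjective g ∧ (∀ s, g s = 1 ↔ ∀ i, Commute (π s) (p i)) ∧
        ∀ (s : T) h, g s = QuotientGroup.mk ⟨π s, h⟩ := by
  let f : T →* closure (Set.range p) := (π.comp T.subtype).codRestrict _ fun s => hT.le ⟨s, s.2, rfl⟩
  refine ⟨(QuotientGroup.mk' _).comp f, (QuotientGroup.mk'_surjective _).comp fun ⟨y, hy⟩ => ?_,
    fun s => (QuotientGroup.eq_one_iff _).trans ⟨fun h i => congrArg Subtype.val
      (mem_center_iff.1 h ⟨p i, subset_closure ⟨i, rfl⟩⟩).symm, fun h => mem_center_of_commute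
        closure_closure_coe_preimage fun _ ⟨i, e⟩ => Subtype.ext (e ▸ h i :)⟩, fun _ _ => rfl⟩
  obtain ⟨x, hx, rfl⟩ := hT.ge hy
  exact ⟨⟨x, hx⟩, rfl⟩

/-- Two families on which generators act in the same way generate the same group modulo the centre. -/
theorem graph_iso {G H I : Type*} [Group G] [Group H] {p : I → G} {q : I → H} (hpq : ∀ i j, p i = p j ↔ q i = q j)
    {S : Set (G × H)} (h1 : ∀ s ∈ S, s⁻¹ = s ∧ ∀ i, ∃ k, s * (p i, q i) * s⁻¹ = (p k, q k))
    (hS : S ⊆ Set.range fun i => (p i, q i)) (h2 : ∀ i, (p i, q i) ∈ closure S) :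
    ∃ e : closure (Set.range p) ⧸ center (closure (Set.range p)) ≃* closure (Set.range q) ⧸ center (closure (Set.range q)),
      ∀ i, e (QuotientGroup.mk ⟨p i, subset_closure ⟨i, rfl⟩⟩) = QuotientGroup.mk ⟨q i, subset_closure ⟨i, rfl⟩⟩ := by
  have key : ∀ s ∈ closure S, ∀ i, ∃ k, s * (p i, q i) * s⁻¹ = (p k, q k) := fun s hs => by
    induction hs using closure_induction'' with
    | mem x hx => exact (h1 x hx).2
    | inv_mem x hx => rw [(h1 x hx).1]; exact (h1 x hx).2
    | one => exact fun i => ⟨i, by simp⟩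
    | mul x y _ _ hx hy =>
      intro i
      obtain ⟨k, e⟩ := hy i
      obtain ⟨l, e'⟩ := hx k
      exact ⟨l, by rw [← e', ← e]; group⟩
  have e0 : closure S = closure (Set.range fun i => (p i, q i)) :=
    le_antisymm (closure_mono hS) ((closure_le _).2 fun _ ⟨i, e⟩ => e ▸ h2 i)
  obtain ⟨g1, s1, k1, m1⟩ := graph_side (MonoidHom.fst G H) (T := closure S) (p := p)
    (by rw [e0, MonoidHom.map_closure, ← Set.range_comp]; rfl)
  obtain ⟨g2, s2, k2, m2⟩ := graph_side (MonoidHom.snd G H) (T := closure S) (p := q)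
    (by rw [e0, MonoidHom.map_closure, ← Set.range_comp]; rfl)
  have hk : g1.ker = g2.ker := Subgroup.ext fun s => (k1 s).trans ((forall_congr' fun i => by
    obtain ⟨k, e⟩ := key s s.2 i
    rw [Prod.ext_iff] at e
    exact (mul_inv_eq_iff_eq_mul.symm.trans (Iff.of_eq (congrArg (· = p i) e.1))).trans ((hpq k i).trans
      ((Iff.of_eq (congrArg (· = q i) e.2)).symm.trans mul_inv_eq_iff_eq_mul))).trans (k2 s).symm)
  refine ⟨(QuotientGroup.quotientKerEquivOfSurjective g1 s1).symm.trans ((QuotientGroup.quotientMulEquivOfEq hk).trans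
    (QuotientGroup.quotientKerEquivOfSurjective g2 s2)), fun i => ?_⟩
  have := ((QuotientGroup.quotientKerEquivOfSurjective g1 s1).symm_apply_eq
    (y := QuotientGroup.mk ⟨_, h2 i⟩) (x := QuotientGroup.mk ⟨p i, subset_closure ⟨i, rfl⟩⟩)).2 (m1 ⟨_, h2 i⟩ _).symm
  rw [MulEquiv.trans_apply, this]
  exact m2 ⟨_, h2 i⟩ _

/-! ### Vectors over the field with three elements -/

/-- The sum of squares. -/
abbrev qS (k : ℕ) : QuadraticForm (ZMod 3) (Fin k → ZMod 3) := qDiag fun _ => 1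

theorem nd_qS (k : ℕ) : ND (qS k) := nd_qDiag (by decide) fun _ => one_ne_zero

/-- The group generated by the reflections of norm `1`. -/
abbrev RR (k : ℕ) : Subgroup (O (qS k)) := Subgroup.closure (classSet (qS k) 1)

/-- The vector with a given number. -/
abbrev v3 (k y : ℕ) : Fin k → ZMod 3 := vec Nat.cast 3 k y

/-- The dot product. -/
noncomputable def dot3 (k u y : ℕ) : ℕ :=
  Nat.rec (motive := fun _ => ℕ) (nat_lit 0) (fun s ih => frcN ih fun a => Nat.add a (Nat.mul (dg 3 u s) (dg 3 y s))) k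

theorem cast_dot3 (k u y : ℕ) : (dot3 k u y : ZMod 3) = ∑ s : Fin k, v3 k u s * v3 k y s := by
  rw [show ∑ s : Fin k, v3 k u s * v3 k y s = ∑ s ∈ Finset.range k, (dg 3 u s : ZMod 3) * dg 3 y s from
    (Finset.sum_range fun s => (dg 3 u s : ZMod 3) * dg 3 y s).symm]
  induction k with
  | zero => rfl
  | succ k ih => rw [Finset.sum_range_succ, ← ih, ← Nat.cast_mul, ← Nat.cast_add]; rfl

/-- The vector `a y + b u`. -/
noncomputable def lin3 (k a y b u : ℕ) : ℕ :=
  pkQ 3 (fun s => Nat.mod (Nat.add (Nat.mul a (dg 3 y s)) (Nat.mul b (dg 3 u s))) 3) k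

theorem lin3_spec (k a y b u : ℕ) : lin3 k a y b u < 3 ^ k ∧
    v3 k (lin3 k a y b u) = (a : ZMod 3) • v3 k y + (b : ZMod 3) • v3 k u := by
  have := pkQ_spec (q := 3) (n := k) (f := fun s => (a * dg 3 y s + b * dg 3 u s) % 3) fun _ _ => Nat.mod_lt _ (by decide)
  refine ⟨this.1, funext fun s => (congrArg Nat.cast (this.2 s s.2)).trans ?_⟩
  rw [ZMod.natCast_mod]
  push_cast
  rfl

theorem qS_v3 (k y : ℕ) : qS k (v3 k y) = dot3 k y y := by
  rw [cast_dot3, qDiag_apply]; exact Finset.sum_congr rfl fun s _ => by ring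

theorem refl_v3 {k u : ℕ} (h : qS k (v3 k u) = 1) (y : ℕ) :
    (refl (qS k) (v3 k u)).1 (v3 k y) = v3 k (lin3 k 1 y (dot3 k u y) u) := by
  rw [(lin3_spec ..).2, refl_apply, h, polar_qDiag, cast_dot3, Nat.cast_one, one_smul, sub_eq_add_neg, ← neg_smul, inv_one,
    one_mul, ← Finset.sum_neg_distrib]
  congr 2
  exact Finset.sum_congr rfl fun s _ => by
    generalize v3 k u s = a, v3 k y s = b
    revert a b; decide

theorem eq_or_neg_of_refl {V : Type*} [AddCommGroup V] [Module (ZMod 3) V] {Q : QuadraticForm (ZMod 3) V} {u v : V}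
    (hu : Q u ≠ 0) (h : refl Q u = refl Q v) : u = v ∨ u = -v := by
  have e := refl_apply_self hu
  rw [h, refl_apply] at e
  generalize (Q v)⁻¹ * QuadraticMap.polar Q v u = a at e
  have e' : u = (-a) • v := by
    have h3 : (3 : ZMod 3) • u = 0 := by rw [show (3 : ZMod 3) = 0 from rfl, zero_smul]
    linear_combination (norm := module) h3 - e
  have : a = 0 ∨ a = 1 ∨ a = -1 := by clear e e'; revert a; decide
  rcases this with rfl | rfl | rfl
  · rw [e'] at hu; simp at hu
  · exact Or.inr (by simpa using e')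
  · exact Or.inl (by simpa using e')

/-- A numbering of the reflections of norm `1` in dimension `k`, and corresponding points. -/
structure OT where
  /-- dimension -/
  k : ℕ
  /-- number of reflections -/
  m : ℕ
  /-- vectors -/
  V : ℕ → ℕ
  /-- numbers of the vectors -/
  I : ℕ → ℕ
  /-- points -/
  X : ℕ → ℕ
  /-- depths -/
  dp : ℕ → ℕ
  /-- generators: number and a word that carries the base point to the point -/
  js : List (ℕ × W)

namespace OT

variable (T : OT)

/-- The generating transpositions. -/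
def ws : List W := T.js.map fun j => cw j.2

/-- The number of the image of vector `i` under reflection `j`. -/
noncomputable def im (j i : ℕ) : ℕ := frcN (T.V j) fun u => frcN (T.V i) fun y => frcN (dot3 T.k u y) fun a =>
  frcN (lin3 T.k 1 y a u) T.I

/-- Every vector of norm `1` is numbered. -/
noncomputable def okA (y : ℕ) : Bool := bor (!Nat.beq (Nat.mod (dot3 T.k y y) 3) 1) (frc (T.I y) fun i =>
  band (blt i T.m) (frc (T.V i) fun v => bor (Nat.beq v y) (Nat.beq v (lin3 T.k 2 y 0 0))))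

/-- The numbering is injective; the generators act in the same way; the depth can be lowered. -/
noncomputable def okB (n : ℕ) (mp : W → ℕ → ℕ → Bool) (i : ℕ) : Bool := frc (T.V i) fun v => frc (T.X i) fun x =>
  band (band (band (blt v (Nat.pow 3 T.k)) (Nat.beq (Nat.mod (dot3 T.k v v) 3) 1))
    (band (Nat.beq (T.I v) i) (Nat.beq (T.I (lin3 T.k 2 v 0 0)) i)))
  (band (band (blt x n) (bor (Nat.beq i 0) (blt (T.X (Nat.pred i)) x)))
    (band (T.js.all fun j => frc (T.im j.1 i) fun l => mp (cw j.2) x (T.X l))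
      (T.js.any fun j => bor (Nat.beq j.1 i) (blt (T.dp (T.im j.1 i)) (T.dp i)))))

end OT

variable {U Y : Type*} [Group U] [MulAction U Y] {γ : ℕ → U} {iv : ℕ} {N : Net} {n : ℕ} {pt : ℕ → Y} {p : ℕ}
  {mp : W → ℕ → ℕ → Bool}

theorem TModel.refl_iso (M : TModel γ iv N n pt p mp) (T : OT) (hA : ∀ y < 3 ^ T.k, T.okA y = true)
    (hB : ∀ i < T.m, T.okB n mp i = true) (hJ : (T.js.all fun j => blt j.1 T.m && mp j.2 p (T.X j.1)) = true) :
    ∃ e : ↥(genW γ T.ws) ⧸ center (genW γ T.ws) ≃* RR T.k ⧸ center (RR T.k),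
      (∀ i < T.m, M.act.tr (pt (T.X i)) ∈ genW γ T.ws) ∧
      ∀ i < T.m, ∀ h h', e (QuotientGroup.mk ⟨M.act.tr (pt (T.X i)), h⟩) =
        QuotientGroup.mk ⟨refl _ (v3 T.k (T.V i)), h'⟩ := by
  simp only [OT.okA, OT.okB, frc_eq, band_eq_true, bor_eq_true, blt_iff, beq_iff, List.all_eq_true, List.any_eq_true,
    Bool.and_eq_true, Bool.not_eq_true', ← Bool.not_eq_true] at hA hB hJ
  have nq : ∀ y, Nat.mod (dot3 T.k y y) 3 = 1 ↔ qS T.k (v3 T.k y) = 1 := fun y => by
    rw [qS_v3]; exact (ZMod.natCast_eq_natCast_iff' _ 1 3).symm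
  have ng : ∀ y, v3 T.k (lin3 T.k 2 y 0 0) = -v3 T.k y := fun y => by
    rw [(lin3_spec ..).2, Nat.cast_zero, zero_smul, add_zero, ← neg_one_smul (ZMod 3)]; rfl
  have inj := (coded_zmod 3).inj_vec (k := T.k) rfl
  have hI : ∀ y < 3 ^ T.k, qS T.k (v3 T.k y) = 1 → T.I y < T.m ∧ refl (qS T.k) (v3 T.k (T.V (T.I y))) = refl _ (v3 T.k y) :=
    fun y hy h => ((hA y hy).resolve_left (not_not.2 ((nq y).2 h))).imp_right fun h => by
      rcases h with h | h <;> rw [h]
      rw [ng, refl_neg]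
  let P : Fin T.m → U := fun i => M.act.tr (pt (T.X i))
  let R : Fin T.m → O (qS T.k) := fun i => refl _ (v3 T.k (T.V i))
  have hV : ∀ i < T.m, qS T.k (v3 T.k (T.V i)) = 1 := fun i hi => (nq _).1 (hB i hi).1.1.2
  have mono : StrictMonoOn T.X (Set.Iio T.m) := strictMonoOn_of_lt_succ Set.ordConnected_Iio fun u _ _ b =>
    (hB _ b).2.1.2.resolve_left u.succ_ne_zero
  have hP : ∀ j ∈ T.js, ∀ h, P ⟨j.1, h⟩ = (cw j.2).ev γ := fun j hj _ => M.tr_eq (hJ j hj).2
  have act : ∀ j ∈ T.js, ∀ h, ∀ i : Fin T.m, ∃ h', ((P ⟨j.1, h⟩, R ⟨j.1, h⟩) * (P i, R i) * (P ⟨j.1, h⟩, R ⟨j.1, h⟩)⁻¹) =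
      (P ⟨T.im j.1 i, h'⟩, R ⟨T.im j.1 i, h'⟩) := fun j hj h i => by
    have e := refl_v3 (hV _ h) (T.V i)
    have k := hI _ (lin3_spec ..).1 (by rw [← e, O.map_Q, hV _ i.2])
    refine ⟨k.1, Prod.ext ?_ ((conj_refl _ _).trans ((congrArg _ e).trans k.2.symm))⟩
    change P _ * P i * (P _)⁻¹ = _
    rw [hP j hj, ← M.act.tr_smul, M.map _ _ _ ((hB i i.2).2.2.1 j hj)]
  let S : Set (U × O (qS T.k)) := {s | ∃ j ∈ T.js, ∃ h, (P ⟨j.1, h⟩, R ⟨j.1, h⟩) = s}
  have sq : ∀ s ∈ S, s⁻¹ = s := by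
    rintro _ ⟨j, hj, h, rfl⟩
    exact Prod.ext (TS.inv M.cls.1 (M.act.mem _)) (refl_inv _)
  have reach : ∀ d (i : Fin T.m), T.dp i = d → (P i, R i) ∈ closure S := fun d => by
    induction d using Nat.strong_induction_on with
    | _ d ih =>
      intro i hi
      obtain ⟨j, hj, h⟩ := (hB i i.2).2.2.2
      have hs : (P ⟨j.1, (hJ j hj).1⟩, R ⟨j.1, (hJ j hj).1⟩) ∈ closure S := subset_closure ⟨j, hj, _, rfl⟩
      rcases h with h | h
      · exact (Fin.ext h : (⟨j.1, (hJ j hj).1⟩ : Fin T.m) = i) ▸ hs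
      · obtain ⟨h', e⟩ := act j hj (hJ j hj).1 i
        exact (mul_mem_cancel_left hs).1 ((mul_mem_cancel_right (inv_mem hs)).1 (e ▸ ih _ (hi ▸ h) ⟨_, h'⟩ rfl))
  obtain ⟨e, he⟩ := graph_iso (p := P) (q := R) (S := S) (fun i j => ⟨fun h => congrArg R (Fin.ext (mono.injOn i.2 j.2
      (M.inj _ (hB i i.2).2.1.1 _ (hB j j.2).2.1.1 (M.act.inj h)))), fun h => congrArg P (Fin.ext (by
        rcases eq_or_neg_of_refl (by rw [hV _ i.2]; exact one_ne_zero) h with h | h
        · rw [← (hB i i.2).1.2.1, inj _ (hB i i.2).1.1.1 _ (hB j j.2).1.1.1 h, (hB j j.2).1.2.1]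
        · rw [← (hB i i.2).1.2.1, inj _ (hB i i.2).1.1.1 _ (lin3_spec ..).1 (h.trans (ng _).symm), (hB j j.2).1.2.2]))⟩)
    (fun s hs => ⟨sq s hs, fun i => by
      obtain ⟨j, hj, h, rfl⟩ := hs
      exact ⟨_, (act j hj h i).2⟩⟩) (fun _ ⟨_, _, _, e⟩ => ⟨_, e⟩) fun i => reach _ i rfl
  have m1 : ∀ i, P i ∈ genW γ T.ws := fun i =>
    mem_comap.1 ((closure_le ((genW γ T.ws).comap (MonoidHom.fst U (O (qS T.k))))).2 (by
      rintro _ ⟨j, hj, h, rfl⟩
      change P _ ∈ genW γ T.ws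
      rw [hP j hj h]
      exact mem_genW γ (List.mem_map_of_mem (f := fun j : ℕ × W => cw j.2) hj)) (reach _ i rfl))
  have e1 : genW γ T.ws = closure (Set.range P) := le_antisymm (genW_le.2 fun t ht => by
    obtain ⟨j, hj, rfl⟩ := List.mem_map.1 ht
    exact subset_closure ⟨_, hP j hj (hJ j hj).1⟩) ((closure_le _).2 fun _ ⟨i, e⟩ => e ▸ m1 i)
  have e2 : Set.range R = classSet (qS T.k) 1 := Set.ext fun g => ⟨fun ⟨i, e⟩ =>
    ⟨_, by rw [hV _ i.2]; exact one_ne_zero, by rw [hV _ i.2], e.symm⟩, fun ⟨v, h1, h2, h3⟩ => by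
      obtain ⟨y, hy, rfl⟩ := (coded_zmod 3).surj_vec rfl v
      exact ⟨⟨_, (hI y hy (eq_of_sqsign_eq_three h1 one_ne_zero h2)).1⟩,
        (hI y hy (eq_of_sqsign_eq_three h1 one_ne_zero h2)).2.trans h3.symm⟩⟩
  exact ⟨(centerQuotCongr (MulEquiv.subgroupCongr e1)).trans (e.trans (centerQuotCongr
    (MulEquiv.subgroupCongr (congrArg Subgroup.closure e2)))), fun i hi => m1 ⟨i, hi⟩,
    fun i hi _ _ => congrArg (centerQuotCongr _) (he ⟨i, hi⟩)⟩

/-! ### The orthogonal side -/

section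

variable {k : ℕ} {A : Type*} [Group A]

theorem RR_eq (hk : 5 ≤ k) : RR k = (classChar (nd_qS k) 1).ker :=
  closure_classSet _ (by decide) (by simp; omega) (Or.inr (Or.inl (by simpa using hk))) one_ne_zero

theorem proj_refl (hk : 5 ≤ k) (e : A ≃* RR k ⧸ center (RR k)) : IsProjReflectionGroupModThree A k (2 ^ k) 1 :=
  ⟨qS k, nd_qS k, by
    have := det_gram_qDiag (fun _ : Fin k => (1 : ZMod 3))
    rw [Finset.prod_const_one, mul_one, Fintype.card_fin] at this
    rw [← this, polarGramDet]; congr 1; ext i j; simp [gram],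
  ⟨e.trans (centerQuotCongr ((MonoidHom.ofInjective reflEmb_injective).trans (MulEquiv.subgroupCongr
    ((range_reflEmb (nd_qS k) (by simpa using hk) one_ne_zero).trans (RR_eq hk).symm)))).symm⟩⟩

theorem commutator_iso [Finite A] (hk : 5 ≤ k) (e : A ⧸ center A ≃* RR k ⧸ center (RR k))
    (h : Nat.card (_root_.commutator A) ≤ Nat.card (PCom (O (qS k)))) :
    Nonempty (_root_.commutator A ≃* PCom (O (qS k))) := by
  have hle : _root_.commutator (O (qS k)) ≤ RR k := RR_eq hk ▸ commutator_le_ker_classChar _ _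
  have hE : ¬ Exc (qS k) := not_exc_of_two_ne_zero (by decide)
  let f0 := (QuotientGroup.mk' (center (RR k))).comp (inclusion hle)
  have hf : center (_root_.commutator (O (qS k))) = f0.ker := Subgroup.ext fun x =>
    (mem_center_commutator_iff (nd_qS k) hE (by simp; omega)).trans (Iff.trans ⟨fun h => mem_center_iff.2 fun y =>
      Subtype.ext (mem_center_iff.1 ((mem_center_O_iff (nd_qS k) (by simp; omega)).2 h) _), fun h =>
        (mem_centralizer_commutator_iff (nd_qS k) hE (by simp; omega)).1 fun y hy =>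
          congrArg Subtype.val (mem_center_iff.1 h ⟨y, hle hy⟩)⟩ (QuotientGroup.eq_one_iff _).symm)
  let f := (QuotientGroup.quotientMulEquivOfEq hf).trans (QuotientGroup.quotientKerEquivRange f0)
  let g0 := e.toMonoidHom.comp (QuotientGroup.mk' _)
  let g := g0.comp (_root_.commutator A).subtype
  have h1 : f0.range ≤ g.range := by
    rw [MonoidHom.range_eq_map, ← commutator_omega_eq_top (nd_qS k) (by simpa using hk), MonoidHom.range_comp,
      range_subtype, commutator_def A, commutator_def (↥(_root_.commutator (O (qS k)))), map_commutator, map_commutator,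
      map_top_of_surjective g0 (e.surjective.comp (QuotientGroup.mk'_surjective _))]
    exact commutator_mono le_top le_top
  have : Finite g.range := Finite.of_surjective _ g.rangeRestrict_surjective
  have h2 := (Nat.card_congr f.toEquiv).le.trans (card_le_of_le h1)
  have hi := injective_of_card_le g ⟨Nat.card_pos.ne', h⟩ h2
  exact ⟨(MonoidHom.ofInjective hi).trans ((MulEquiv.subgroupCongr (eq_of_le_of_card_ge h1
    ((Nat.card_congr (MonoidHom.ofInjective hi).toEquiv).ge.trans (h.trans (Nat.card_congr f.toEquiv).le))).symm).trans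
      f.symm)⟩

theorem nonempty_pcom7 : Nonempty (PCom (O (qS 7)) ≃* POmega (ZMod 3) (quadFormOdd 3 (ZMod 3))) := by
  obtain ⟨e⟩ := nonempty_O_equiv_of_odd (nd_qS 7) (nd_qOdd (F := ZMod 3) (by decide) 3) (by simp; decide) (by simp)
  exact ⟨(pcomCongr e).trans (pomegaEquiv (qOdd 3 (ZMod 3))).symm⟩

theorem nonempty_pcom8 : Nonempty (PCom (O (qS 8)) ≃* POmega (ZMod 3) (quadFormPlus 4 (ZMod 3))) := by
  obtain ⟨e, he⟩ := equivalent_iff.1 (equivalent_qPlus (nd_qS 8) (m := 4) (by simp)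
    ((wittIndex_eq_iff_disc (nd_qS 8) (by decide) (m := 4) (by simp)).2 (by
      rw [disc_qDiag]; congr 1)).ge)
  exact ⟨(pcomCongr (O.congr e one_ne_zero fun v => by rw [he, one_mul])).trans (pomegaEquiv (qPlus 4 (ZMod 3))).symm⟩

theorem card_pcom7 : Nat.card (PCom (O (qS 7))) = 4585351680 := by
  obtain ⟨e⟩ := nonempty_pcom7
  have h := Cfsg.Agent.S0292.result (F := ZMod 3) (q := 3) (ZMod.card 3) (by decide) 3 le_rfl
  norm_num [Finset.prod_range_succ] at h
  rw [Nat.card_congr e.toEquiv]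
  omega

theorem card_pcom8 : Nat.card (PCom (O (qS 8))) = 4952179814400 := by
  obtain ⟨e⟩ := nonempty_pcom8
  have h := Cfsg.Agent.S0293.result (F := ZMod 3) (q := 3) (ZMod.card 3) 4 le_rfl
  norm_num [Finset.prod_range_succ] at h
  rw [Nat.card_congr e.toEquiv]
  omega

theorem iso_pomega7 [Finite A] (e : A ⧸ center A ≃* RR 7 ⧸ center (RR 7)) (h : Nat.card A = 4585351680) :
    Nonempty (A ≃* POmega (ZMod 3) (quadFormOdd 3 (ZMod 3))) := by
  obtain ⟨f⟩ := commutator_iso (by decide) e (by rw [card_pcom7, ← h]; exact card_le_card_group _)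
  obtain ⟨g⟩ := nonempty_pcom7
  exact ⟨(topEquiv.symm.trans (MulEquiv.subgroupCongr (eq_top_of_card_eq _
    (by rw [Nat.card_congr f.toEquiv, card_pcom7, h])).symm)).trans (f.trans g)⟩

end

end Cfsg.Lib.Calc
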