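import Cfsg.Agent.Lib.Calc.Sub

set_option autoImplicit false
set_option maxRecDepth 1000000
set_option maxHeartbeats 0

namespace Cfsg.Lib.Calc.PM11

/-- The diagram. -/
def edges : List (Fin 5 × ℕ × Fin 5) := [(0, 3, 1), (1, 5, 2), (2, 3, 3), (2, 4, 4), (4, 3, 3)]
/-- The letters. -/
def L : List (Fin 5 × Bool) := [(0, false), (1, false), (2, false), (3, false), (4, false)]
/-- Inverse letters. -/
def iv : ℕ := (nat_lit 172066848)
/-- The Coxeter relators. -/
def cox : List W := [.pow (.mul (.l 1) (.l 2)) 3, .pow (.mul (.l 1) (.l 3)) 2, .pow (.mul (.l 1) (.l 4)) 2, .pow (.mul (.l 1) (.l 5)) 2, .pow (.mul (.l 2) (.l 3)) 5, .pow (.mul (.l 2) (.l 4)) 2, .pow (.mul (.l 2) (.l 5)) 2, .pow (.mul (.l 3) (.l 4)) 3, .pow (.mul (.l 3) (.l 5)) 4, .pow (.mul (.l 4) (.l 5)) 3]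
/-- The further relators. -/
def ext : List W := [.pow (.mul (.mul (.l 1) (.l 2)) (.l 3)) 5, .pow (.mul (.mul (.l 2) (.l 3)) (.l 4)) 5, .mul (.l 1) (.pow (.mul (.l 3) (.l 5)) 2)]
/-- All relators. -/
def rels : List W := cox ++ ext
/-- The generators. -/
def gens : List W := [.l 1, .l 2, .l 3, .l 4, .l 5]
/-- A presentation of `M₁₁`. -/
abbrev Gp : Type := Spor.CoxPresented (Fin 5) edges (ext.map (W.ev (freeLet L)))
/-- The letters in the presented group. -/
def gam : ℕ → Gp := presLet edges _ L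
theorem data : PresData edges (ext.map (W.ev (freeLet L))) L (fun x => [1, 2, 3, 4, 5].getD x 0) iv cox ext :=
  ⟨fun x => by fin_cases x <;> rfl, by decide +kernel, by decide +kernel, by decide +kernel, rfl, by decide +kernel,
    by decide +kernel⟩
theorem isLab : Lab gam iv := data.isLab
theorem rels_hold : ∀ t ∈ rels, t.ev gam = 1 := data.rels
theorem genW_top : genW gam gens = ⊤ := data.genW_eq_top (by decide +kernel)
def h0_rels : List W := [.pow (.mul (.l 1) (.l 2)) 3, .pow (.mul (.l 1) (.l 3)) 2, .pow (.mul (.l 1) (.l 4)) 2, .pow (.mul (.l 1) (.l 5)) 2, .pow (.mul (.l 2) (.l 3)) 5, .pow (.mul (.l 2) (.l 4)) 2, .pow (.mul (.l 2) (.l 5)) 2, .pow (.mul (.l 3) (.l 4)) 3, .pow (.mul (.l 3) (.l 5)) 4, .pow (.mul (.l 4) (.l 5)) 3, .pow (.mul (.mul (.l 1) (.l 2)) (.l 3)) 5, .pow (.mul (.mul (.l 2) (.l 3)) (.l 4)) 5, .mul (.l 1) (.pow (.mul (.l 3) (.l 5)) 2)]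
def h0_F : Tr := .leaf (nat_lit 0x9649150ac723b2d16c743a0c068b0592411870382b15c2c1712894aa5522914a8542211086432994c26132914844220904862311088422112010060301008020100d86494471489c50261b8d46c340a8504823198c88441289400000)
def h0_T : Tr := .leaf (nat_lit 205163983024656)
def h0_P : Tr := .leaf (nat_lit 0x7fc007fc007fc007fc007fc007fc007fc9159c0040a5893d231800800b45831000830b458c00406507371e540001ca3d860000449f9100206182180650112220a1c4b21a440102c80c101948712348801020e14d46802060e1434000045085a245801000a6a2c0080c5331600404217890020610c4480102860894287002070c9d5870040c0c9c38000084047c18500209088c2800028442140000811d320c0183011b060000c08c8300003)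
def h0_N_0 : Tr := .node (.node (.node (.node (.leaf (nat_lit 68224065))
  (.leaf (nat_lit 66)))
  (.node (.leaf (nat_lit 175191002275))
  (.leaf (nat_lit 4100))))
  (.node (.node (.leaf (nat_lit 107857469081698))
  (.leaf (nat_lit 99)))
  (.node (.leaf (nat_lit 5346401))
  (.leaf (nat_lit 0)))))
  (.node (.node (.node (.leaf (nat_lit 132225))
  (.leaf (nat_lit 2050)))
  (.node (.leaf (nat_lit 0xc41188231046208c41))
  (.leaf (nat_lit 165))))
  (.node (.node (.leaf (nat_lit 166050))
  (.leaf (nat_lit 132)))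
  (.leaf (nat_lit 33))))
def h0_N_1 : Tr := .node (.node (.node (.node (.leaf (nat_lit 99425))
  (.leaf (nat_lit 66)))
  (.node (.leaf (nat_lit 172134564))
  (.leaf (nat_lit 165))))
  (.node (.node (.leaf (nat_lit 133250))
  (.leaf (nat_lit 3075)))
  (.node (.leaf (nat_lit 33))
  (.leaf (nat_lit 0)))))
  (.node (.node (.node (.leaf (nat_lit 165025))
  (.leaf (nat_lit 99)))
  (.node (.leaf (nat_lit 0x106220c441888311062))
  (.leaf (nat_lit 5125))))
  (.node (.node (.leaf (nat_lit 137497731))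
  (.leaf (nat_lit 132)))
  (.leaf (nat_lit 1025))))
def h0_N : Tr := .node h0_N_0
  h0_N_1
noncomputable def h0 : TC :=
  ⟨[.l 0, .l 1, .l 2, .l 3, .l 4, .l 5],
    (nat_lit 4), (nat_lit 7), (nat_lit 172066848), (nat_lit 31), (nat_lit 12), (nat_lit 4), (nat_lit 32), (nat_lit 1), (nat_lit 30),
    get (nat_lit 10) (nat_lit 0x1003010030080400c02010030080400c02010030080503c0f01808018040100a0100401006), Tr.get h0_N, get (nat_lit 20) (nat_lit 0x3ff003ff003ff003ff003ff003ff003ff003ff003ff003ff003ff003ff003ff003ff003ff003ff003ff0000c0000b0000a00009000080000700006000050000400003000020000100000),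
    Tr.get3 h0_F (nat_lit 18) (nat_lit 5), Tr.get3 h0_T (nat_lit 4) (nat_lit 7), Tr.get h0_P⟩

theorem h0_head : h0.headOK h0_rels iv = true := by decide +kernel

theorem h0_b0 : allFrom (nat_lit 0) (nat_lit 1) h0.blockOK = true := by decide +kernel

def h0_Q5 : Tr := .leaf (nat_lit 0x952e2457cfdc345ca8182)
theorem h0_f5_0 : allFrom (nat_lit 0) (nat_lit 12) (h0.finOK (nat_lit 12) (Tr.get3 h0_Q5 (nat_lit 7) (nat_lit 7)) (nat_lit 5)) = true := by
  decide +kernel

def h0_Q4 : Tr := .leaf (nat_lit 0xa2568432909b32601421e)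
theorem h0_f4_0 : allFrom (nat_lit 0) (nat_lit 12) (h0.finOK (nat_lit 12) (Tr.get3 h0_Q4 (nat_lit 7) (nat_lit 7)) (nat_lit 4)) = true := by
  decide +kernel

def h0_Q3 : Tr := .leaf (nat_lit 0x99226c01e3470c0e1921c)
theorem h0_f3_0 : allFrom (nat_lit 0) (nat_lit 12) (h0.finOK (nat_lit 12) (Tr.get3 h0_Q3 (nat_lit 7) (nat_lit 7)) (nat_lit 3)) = true := by
  decide +kernel

def h0_Q2 : Tr := .leaf (nat_lit 0x9d3c9912441d0910a111a)
theorem h0_f2_0 : allFrom (nat_lit 0) (nat_lit 12) (h0.finOK (nat_lit 12) (Tr.get3 h0_Q2 (nat_lit 7) (nat_lit 7)) (nat_lit 2)) = true := by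
  decide +kernel

def h0_Q1 : Tr := .leaf (nat_lit 0x2f18b4778f458a5899018)
theorem h0_f1_0 : allFrom (nat_lit 0) (nat_lit 12) (h0.finOK (nat_lit 12) (Tr.get3 h0_Q1 (nat_lit 7) (nat_lit 7)) (nat_lit 1)) = true := by
  decide +kernel

theorem h0_blocks : ∀ t < h0.k, h0.blockOK t = true :=
  (of_allFrom_append of_lt_zero h0_b0)

/-- index 12 max 12 total 12 facts 41 | needed cosets 12 facts 41 steps 106 trivial 0 -/
theorem h0_index {G : Type*} [Group G] {γ : ℕ → G} (hL : Lab γ iv) (hr : ∀ t ∈ h0_rels, t.ev γ = 1) {K : Subgroup G}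
    (hK : ∀ t ∈ ([.l 1, .l 2, .l 3, .l 4] : List W), t.ev γ ∈ K) :
    K.relIndex (genW γ [.l 1, .l 2, .l 3, .l 4, .l 5]) ≠ 0 ∧ K.relIndex (genW γ [.l 1, .l 2, .l 3, .l 4, .l 5]) ≤ 12 :=
  TC.relIndex_le (D := h0) (gens := [1, 2, 3, 4, 5]) hL (List.forall_mem_cons.2 ⟨hL.zero_mem K, hK⟩) hr h0_head h0_blocks (by decide) (by decide)
   (List.forall_mem_cons.2 ⟨⟨_, (of_allFrom_append of_lt_zero h0_f1_0)⟩,
    List.forall_mem_cons.2 ⟨⟨_, (of_allFrom_append of_lt_zero h0_f2_0)⟩,
    List.forall_mem_cons.2 ⟨⟨_, (of_allFrom_append of_lt_zero h0_f3_0)⟩,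
    List.forall_mem_cons.2 ⟨⟨_, (of_allFrom_append of_lt_zero h0_f4_0)⟩,
    List.forall_mem_cons.2 ⟨⟨_, (of_allFrom_append of_lt_zero h0_f5_0)⟩,
    fun _ h => absurd h List.not_mem_nil⟩⟩⟩⟩⟩)

def h1_rels : List W := [.pow (.mul (.l 1) (.l 2)) 3, .pow (.mul (.l 1) (.l 3)) 2, .pow (.mul (.l 1) (.l 4)) 2, .pow (.mul (.l 2) (.l 3)) 5, .pow (.mul (.l 2) (.l 4)) 2, .pow (.mul (.l 3) (.l 4)) 3, .pow (.mul (.mul (.l 1) (.l 2)) (.l 3)) 5, .pow (.mul (.mul (.l 2) (.l 3)) (.l 4)) 5]
def h1_F : Tr := .leaf (nat_lit 0x94481c0e8522a1c8e42e19239146e370a8584824221108643211082412108842211180c04020080403418249185026138946c341a8cc2813118886431209000000)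
def h1_T : Tr := .leaf (nat_lit 11649936536080)
def h1_P : Tr := .leaf (nat_lit 0xff800ff800ff800ff800ff800ff800ff800ff800ff800ff800ff800ff800ff800ff800ff800ff800ff9026d000811ab1583950c502058f60c9a1400406284158f6000400486271a4c0001492b5e0000428322087811a300c287482c7802038e141821f0a1c58f002031820580000880c8438900200109448010106461c00810202360c280102843a1400004119060000808b8300002)
def h1_N_0 : Tr := .node (.node (.node (.node (.leaf (nat_lit 68224065))
  (.leaf (nat_lit 3075)))
  (.node (.leaf (nat_lit 33))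
  (.leaf (nat_lit 0))))
  (.node (.node (.leaf (nat_lit 133250))
  (.leaf (nat_lit 165)))
  (.leaf (nat_lit 66))))
  (.node (.node (.node (.leaf (nat_lit 132225))
  (.leaf (nat_lit 132)))
  (.leaf (nat_lit 1025)))
  (.node (.node (.leaf (nat_lit 0xc41188231046208c41))
  (.leaf (nat_lit 5125)))
  (.leaf (nat_lit 99))))
def h1_N_1 : Tr := .node (.node (.node (.node (.leaf (nat_lit 99425))
  (.leaf (nat_lit 132)))
  (.leaf (nat_lit 33)))
  (.node (.node (.leaf (nat_lit 137497731))
  (.leaf (nat_lit 165)))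
  (.leaf (nat_lit 2050))))
  (.node (.node (.node (.leaf (nat_lit 107857469081698))
  (.leaf (nat_lit 4100)))
  (.leaf (nat_lit 66)))
  (.node (.node (.leaf (nat_lit 0x106220c441888311062))
  (.leaf (nat_lit 0)))
  (.leaf (nat_lit 99))))
def h1_N : Tr := .node h1_N_0
  h1_N_1
noncomputable def h1 : TC :=
  ⟨[.l 0, .l 1, .l 2, .l 3, .l 4, .l 5],
    (nat_lit 4), (nat_lit 7), (nat_lit 172066848), (nat_lit 15), (nat_lit 11), (nat_lit 3), (nat_lit 32), (nat_lit 1), (nat_lit 25),
    get (nat_lit 10) (nat_lit 0x400c0400c02010030080400c02010030080400c0203c0f018040280401006), Tr.get h1_N, get (nat_lit 20) (nat_lit 0x3ff003ff003ff003ff003ff003ff003ff003ff003ff003ff003ff003ff003ff003ff003ff003ff003ff0000700006000050000400003000020000100000),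
    Tr.get3 h1_F (nat_lit 18) (nat_lit 5), Tr.get3 h1_T (nat_lit 4) (nat_lit 7), Tr.get h1_P⟩

theorem h1_head : h1.headOK h1_rels iv = true := by decide +kernel

theorem h1_b0 : allFrom (nat_lit 0) (nat_lit 1) h1.blockOK = true := by decide +kernel

def h1_Q4 : Tr := .leaf (nat_lit 0x394f8bd2ba69220c2)
theorem h1_f4_0 : allFrom (nat_lit 0) (nat_lit 11) (h1.finOK (nat_lit 11) (Tr.get3 h1_Q4 (nat_lit 6) (nat_lit 7)) (nat_lit 4)) = true := by
  decide +kernel

def h1_Q3 : Tr := .leaf (nat_lit 0x36cb7b0d2cc28511a)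
theorem h1_f3_0 : allFrom (nat_lit 0) (nat_lit 11) (h1.finOK (nat_lit 11) (Tr.get3 h1_Q3 (nat_lit 6) (nat_lit 7)) (nat_lit 3)) = true := by
  decide +kernel

def h1_Q2 : Tr := .leaf (nat_lit 0x34d513d03a81c6798)
theorem h1_f2_0 : allFrom (nat_lit 0) (nat_lit 11) (h1.finOK (nat_lit 11) (Tr.get3 h1_Q2 (nat_lit 6) (nat_lit 7)) (nat_lit 2)) = true := by
  decide +kernel

def h1_Q1 : Tr := .leaf (nat_lit 0x15c14c6aac9220716)
theorem h1_f1_0 : allFrom (nat_lit 0) (nat_lit 11) (h1.finOK (nat_lit 11) (Tr.get3 h1_Q1 (nat_lit 6) (nat_lit 7)) (nat_lit 1)) = true := by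
  decide +kernel

theorem h1_blocks : ∀ t < h1.k, h1.blockOK t = true :=
  (of_allFrom_append of_lt_zero h1_b0)

/-- index 11 max 11 total 11 facts 29 | needed cosets 11 facts 29 steps 81 trivial 0 -/
theorem h1_index {G : Type*} [Group G] {γ : ℕ → G} (hL : Lab γ iv) (hr : ∀ t ∈ h1_rels, t.ev γ = 1) {K : Subgroup G}
    (hK : ∀ t ∈ ([.l 1, .l 2, .l 3] : List W), t.ev γ ∈ K) :
    K.relIndex (genW γ [.l 1, .l 2, .l 3, .l 4]) ≠ 0 ∧ K.relIndex (genW γ [.l 1, .l 2, .l 3, .l 4]) ≤ 11 :=
  TC.relIndex_le (D := h1) (gens := [1, 2, 3, 4]) hL (List.forall_mem_cons.2 ⟨hL.zero_mem K, hK⟩) hr h1_head h1_blocks (by decide) (by decide)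
   (List.forall_mem_cons.2 ⟨⟨_, (of_allFrom_append of_lt_zero h1_f1_0)⟩,
    List.forall_mem_cons.2 ⟨⟨_, (of_allFrom_append of_lt_zero h1_f2_0)⟩,
    List.forall_mem_cons.2 ⟨⟨_, (of_allFrom_append of_lt_zero h1_f3_0)⟩,
    List.forall_mem_cons.2 ⟨⟨_, (of_allFrom_append of_lt_zero h1_f4_0)⟩,
    fun _ h => absurd h List.not_mem_nil⟩⟩⟩⟩)

def h2_rels : List W := [.pow (.mul (.l 1) (.l 2)) 3, .pow (.mul (.l 1) (.l 3)) 2, .pow (.mul (.l 2) (.l 3)) 5, .pow (.mul (.mul (.l 1) (.l 2)) (.l 3)) 5]
def h2_F : Tr := .leaf (nat_lit 0x7b8fb0e21ec580ba0de1e8598b90e41e47c0f215a2e05a8b70ec1d47a0f61522d0748f31d63c4328701462b8718ed0be1a86e8e70b61984d0a41b03842b06012a2782985c09e15c470920941402384c10c224218451762bc7d0ee1f23b03c06c0ee1ac5b0aa1ea3a03a0680e619c590a6162294780e41de388370620da184560a015627c750de0d21745409c14e26c730da1ca364320590c616051097142258700d51be3502f05413a24c6e0d21b63442d0511322404c08f1ae3386b0cd0aa1344a08c1a632c2904b122228680c919e3202704811a21c660c6116214650c40921104408318e3082304218a304420811863004108008210000000)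
def h2_T : Tr := .leaf (nat_lit 0xefae78df6d74cf2c70beeb6caeaa689e69648e28607de75c6da6585d65544d24503ce34c2ca2481c61440c2040)
def h2_P : Tr := .leaf (nat_lit 0x1ff765e442e8039516ba40020276aeb1996300000749794a6a8644c8c6100002745c5f0000172584086556da19f9c000027271a800001648f36227e207b0c0f1b2b41597100403705889435b002006e56926da2002006a508526167906050d19293d556d000036c933e287d0e04030b1725395169004036850853b530020066915300201624a32207b19293f570020260484b000015c44833147002005a8b4700201543c3f000014e362214080b17273b002024c34370000148327f233500200422c1a0e0407111f3100202402a2d000013c287d1b2b00200382427000012e1c1f00001241679111d0020020121500001180c0f00001120802050d002000a020700001)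
def h2_N_0 : Tr := .node (.node (.node (.node (.leaf (nat_lit 68224065))
  (.leaf (nat_lit 165)))
  (.leaf (nat_lit 66)))
  (.node (.node (.leaf (nat_lit 33))
  (.leaf (nat_lit 0)))
  (.leaf (nat_lit 3075))))
  (.node (.node (.node (.leaf (nat_lit 107857469081698))
  (.leaf (nat_lit 5125)))
  (.leaf (nat_lit 99)))
  (.node (.leaf (nat_lit 1025))
  (.leaf (nat_lit 132))))
def h2_N_1 : Tr := .node (.node (.node (.node (.leaf (nat_lit 99425))
  (.leaf (nat_lit 165)))
  (.leaf (nat_lit 2050)))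
  (.node (.leaf (nat_lit 33))
  (.leaf (nat_lit 132))))
  (.node (.node (.node (.leaf (nat_lit 0xc41188231046208c41))
  (.leaf (nat_lit 0)))
  (.leaf (nat_lit 99)))
  (.node (.leaf (nat_lit 66))
  (.leaf (nat_lit 4100))))
def h2_N : Tr := .node h2_N_0
  h2_N_1
noncomputable def h2 : TC :=
  ⟨[.l 0, .l 1, .l 2, .l 3, .l 4, .l 5],
    (nat_lit 6), (nat_lit 8), (nat_lit 172066848), (nat_lit 1), (nat_lit 60), (nat_lit 0), (nat_lit 32), (nat_lit 1), (nat_lit 21),
    get (nat_lit 10) (nat_lit 0x400c0400c02010030080400c02010030080400c0203c0a01006), Tr.get h2_N, get (nat_lit 20) (nat_lit 0x3ff003ff003ff003ff003ff003ff003ff003ff003ff003ff003ff003ff003ff003ff003ff003ff003ff00003000020000100000),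
    Tr.get3 h2_F (nat_lit 22) (nat_lit 5), Tr.get3 h2_T (nat_lit 6) (nat_lit 7), Tr.get h2_P⟩

theorem h2_head : h2.headOK h2_rels iv = true := by decide +kernel

theorem h2_b0 : allFrom (nat_lit 0) (nat_lit 1) h2.blockOK = true := by decide +kernel

def h2_Q3 : Tr := .leaf (nat_lit 0xb47573a9b5a06ba19ca89a615f7494729b559d6a904d4b60955e8a413f549139374c4a8b2f2d403e273836211f2e2c192615201e0f180b14070e0a06)
theorem h2_f3_0 : allFrom (nat_lit 0) (nat_lit 60) (h2.finOK (nat_lit 60) (Tr.get3 h2_Q3 (nat_lit 8) (nat_lit 6)) (nat_lit 3)) = true := by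
  decide +kernel

def h2_Q2 : Tr := .leaf (nat_lit 0x77b0aca6a46da59ead6563b17696a759576c9f514f64628c9745435856863b504e8d3331444287293a80233230811b2817227a111a7b160910050804)
theorem h2_f2_0 : allFrom (nat_lit 0) (nat_lit 60) (h2.finOK (nat_lit 60) (Tr.get3 h2_Q2 (nat_lit 8) (nat_lit 6)) (nat_lit 2)) = true := by
  decide +kernel

def h2_Q1 : Tr := .leaf (nat_lit 0xb2aeaa716fa3a26967abb398af5d5b706e925368668e9949475c5a88933d52848f35484682892b3c8525347e831d2a7c247f131c7d0d7812790c0302)
theorem h2_f1_0 : allFrom (nat_lit 0) (nat_lit 60) (h2.finOK (nat_lit 60) (Tr.get3 h2_Q1 (nat_lit 8) (nat_lit 6)) (nat_lit 1)) = true := by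
  decide +kernel

theorem h2_blocks : ∀ t < h2.k, h2.blockOK t = true :=
  (of_allFrom_append of_lt_zero h2_b0)

/-- index 60 max 60 total 60 facts 91 | needed cosets 60 facts 91 steps 180 trivial 0 -/
theorem h2_index {G : Type*} [Group G] {γ : ℕ → G} (hL : Lab γ iv) (hr : ∀ t ∈ h2_rels, t.ev γ = 1) {K : Subgroup G}
    (hK : ∀ t ∈ ([] : List W), t.ev γ ∈ K) :
    K.relIndex (genW γ [.l 1, .l 2, .l 3]) ≠ 0 ∧ K.relIndex (genW γ [.l 1, .l 2, .l 3]) ≤ 60 :=
  TC.relIndex_le (D := h2) (gens := [1, 2, 3]) hL (List.forall_mem_cons.2 ⟨hL.zero_mem K, hK⟩) hr h2_head h2_blocks (by decide) (by decide)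
   (List.forall_mem_cons.2 ⟨⟨_, (of_allFrom_append of_lt_zero h2_f1_0)⟩,
    List.forall_mem_cons.2 ⟨⟨_, (of_allFrom_append of_lt_zero h2_f2_0)⟩,
    List.forall_mem_cons.2 ⟨⟨_, (of_allFrom_append of_lt_zero h2_f3_0)⟩,
    fun _ h => absurd h List.not_mem_nil⟩⟩⟩)

theorem card_h {G : Type*} [Group G] {γ : ℕ → G} (hL : Lab γ iv) (hr : ∀ t ∈ rels, t.ev γ = 1) :
    Nat.card (genW γ [.l 1, .l 2, .l 3, .l 4, .l 5]) ≠ 0 ∧ Nat.card (genW γ [.l 1, .l 2, .l 3, .l 4, .l 5]) ≤ 12 * (11 * (60 * (1))) :=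
  (card_le_of_relIndex (K := genW γ [.l 1, .l 2, .l 3, .l 4]) (genW_le_of_subOK hL [] hr (by decide +kernel))
    (h0_index hL (rels_of_isIn hr (by decide +kernel)) fun _ => mem_genW γ)
    (card_le_of_relIndex (K := genW γ [.l 1, .l 2, .l 3]) (genW_le_of_subOK hL [] hr (by decide +kernel))
    (h1_index hL (rels_of_isIn hr (by decide +kernel)) fun _ => mem_genW γ)
    (card_le_of_relIndex bot_le (h2_index hL (rels_of_isIn hr (by decide +kernel)) (by simp)) card_bot_le)))
def net_M_0 : Tr := .node (.node (.node (.node (.leaf (nat_lit 0))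
  (.leaf (nat_lit 0x2603000402000900101802002000803203802c00003602c)))
  (.leaf (nat_lit 0x57fe00000000020be4000000c56642000000312870)))
  (.node (.node (.leaf (nat_lit 0xfc64bb4a1020000000000000070000000000))
  (.leaf (nat_lit 0x840c0041086105004086006180106087080104087003000)))
  (.leaf (nat_lit 0xec000065a000e12000b00000282000e7c0007cc000000))))
  (.node (.node (.node (.leaf (nat_lit 0))
  (.leaf (nat_lit 0xf1e3c000000495aa8000000a93f42000000b61340)))
  (.leaf (nat_lit 0x1c02002000001001201203001001800001401c00e034000)))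
  (.node (.node (.leaf (nat_lit 0x4002004102006006000100080000084004000000186000))
  (.leaf (nat_lit 0xb6a6e2884000000000000000ed117d10a6b8)))
  (.leaf (nat_lit 0xec000065a000c12000b00000202000e5c000600000000))))
def net_M_1 : Tr := .node (.node (.node (.node (.leaf (nat_lit 0))
  (.leaf (nat_lit 0x1000000040200008201001040240000000009000200000)))
  (.leaf (nat_lit 0x240200040000000049041241008248001208201249049241)))
  (.node (.node (.leaf (nat_lit 0x6005004143006146000184080000084003007080187142))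
  (.leaf (nat_lit 0x84000006004100004086180080106000002102004106000)))
  (.leaf (nat_lit 0x482092092490090402092400490010402012492492492482))))
  (.node (.node (.node (.leaf (nat_lit 0))
  (.leaf (nat_lit 0xb6a6e2884000000000000000ed117d10a6b8)))
  (.leaf (nat_lit 0x802a84800000000000000000)))
  (.node (.leaf (nat_lit 0xfc64bb4a1020000000000000070000000000))
  (.leaf (nat_lit 0xdb95d2800000000000000000))))
def net_M_2 : Tr := .node (.node (.node (.node (.leaf (nat_lit 0))
  (.leaf (nat_lit 0x240048009040200008248049201241001001201000248048)))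
  (.leaf (nat_lit 0x3c00600003b01001201a03003b01803501101c00e034000)))
  (.node (.node (.leaf (nat_lit 0x4d00009d6000be8000100000000000df0000c0a000ec0))
  (.leaf (nat_lit 0x482002012412480090092082010410092082480492402402)))
  (.leaf (nat_lit 0x801861840841461001831000021841010c5007006004186))))
  (.node (.node (.node (.leaf (nat_lit 0))
  (.leaf (nat_lit 0xdb95d2800000000000000000)))
  (.leaf (nat_lit 0x57de00000000020360000000856642000000312870)))
  (.node (.leaf (nat_lit 0x4d00001d4000bc8000020000000000de0000c0a000480))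
  (.leaf (nat_lit 0xec60ec884810000000000000859602502000))))
def net_M_3 : Tr := .node (.node (.node (.node (.leaf (nat_lit 0))
  (.leaf (nat_lit 0x801000002000000001802002000801203002c00001600c)))
  (.leaf (nat_lit 0x40000000000000048040041200041040208040049048040)))
  (.node (.node (.leaf (nat_lit 0x490012010080012012080080480402492012492492082492))
  (.leaf (nat_lit 0xb60000a20000808000c00000c100001a2000772000b42)))
  (.leaf (nat_lit 0x80186186084000100184100002084100002104006100006))))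
  (.node (.node (.node (.leaf (nat_lit 0))
  (.leaf (nat_lit 0xb60000a20000808000d40000c490001a2000749000b4a)))
  (.leaf (nat_lit 0xec64ee880c02000000000000859602502000)))
  (.node (.leaf (nat_lit 0x802a84800000000000000000))
  (.leaf (nat_lit 0xf1e3c000000495ab8000000a93f46000000d63218))))
def net_M_4 : Tr := .node (.node (.node (.node (.leaf (nat_lit 0))
  (.leaf (nat_lit 0xc10000000061410041051061421400c01060441451820c4)))
  (.leaf (nat_lit 0xb000001ac000880000e18000876000f02000ad80003e0)))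
  (.node (.node (.leaf (nat_lit 0x82113000000094247c0000008b7840000000c08360))
  (.leaf (nat_lit 0x40000008008040200241001040001041208048001208048)))
  (.leaf (nat_lit 0x401803102000a01002600203801401403e02a014016014))))
  (.node (.node (.node (.leaf (nat_lit 0))
  (.leaf (nat_lit 0xdaecd4c0b4060000000000001c3a02817000)))
  (.leaf (nat_lit 0xb00000988000880000e18000876000e04000ad80003e0)))
  (.node (.node (.leaf (nat_lit 0x2c01600002803402400601202400200001003000003800c))
  (.leaf (nat_lit 0x3402a0800000000000000000)))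
  (.leaf (nat_lit 0x9828000000002c5a140000004d06c2000000afda80))))
def net_M_5 : Tr := .node (.node (.node (.node (.leaf (nat_lit 0))
  (.leaf (nat_lit 0x100004102006082000000106004104180004)))
  (.leaf (nat_lit 0x80082400000402490090082490092092412490092490090)))
  (.node (.node (.leaf (nat_lit 0x8048048201241008049041049241048041009248001200))
  (.leaf (nat_lit 0x400400401001000002200403400400201002203002a014)))
  (.leaf (nat_lit 0x40048041048000001048200040000200001208208008000))))
  (.node (.node (.node (.leaf (nat_lit 0))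
  (.leaf (nat_lit 0x886800000000321d38000000298806000000b1a4f8)))
  (.leaf (nat_lit 0x2c046a000000000000000000)))
  (.node (.leaf (nat_lit 0x3414b8000000000000000000))
  (.leaf (nat_lit 0xdaedd4c0a6060000000000001c3a02817000))))
def net_M_6 : Tr := .node (.node (.node (.node (.leaf (nat_lit 0))
  (.leaf (nat_lit 0x82002400492490492412002490480000090092410400010)))
  (.leaf (nat_lit 0x11001050c7104100086006082103182080140087086080)))
  (.node (.node (.leaf (nat_lit 0x2c01601003503402400601202400202201003002800f032))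
  (.leaf (nat_lit 0x40000001008040000041040000000048000200201000000)))
  (.leaf (nat_lit 0x40248241049000001241201041041200008201208200008))))
  (.node (.node (.node (.leaf (nat_lit 0))
  (.leaf (nat_lit 0x3402a0800000000000000000)))
  (.leaf (nat_lit 0xe6dea69c6010000000000000e338698d62b8)))
  (.node (.leaf (nat_lit 0x8201300000009620500000000b7840000000c08360))
  (.leaf (nat_lit 0x2c046a000000000000000000))))
def net_M_7 : Tr := .node (.node (.node (.node (.leaf (nat_lit 0))
  (.leaf (nat_lit 0x7c8000c200003cc00080e000460000cb40009d8000200)))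
  (.leaf (nat_lit 0x4100000104100006004082104184000080080086080)))
  (.node (.node (.leaf (nat_lit 0x8001008000001008040040040201048008009248040008))
  (.leaf (nat_lit 0x886800000000321d38000000098806000000b833b0)))
  (.leaf (nat_lit 0x401800002003c01002600203001400403e000010028014))))
  (.node (.node (.node (.leaf (nat_lit 0x3414b8000000000000000000))
  (.leaf (nat_lit 0x2e02400402301000002203303702500202f03900e017014)))
  (.leaf (nat_lit 0x982c020000002c5e7e0000004d46c2000000afda80)))
  (.node (.leaf (nat_lit 0xe6dea69c6010000000000000e338698d62b8))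
  (.leaf (nat_lit 0xff8000ca00003cc00080e000460000cb40009f8000688))))
def net_M : Tr := .node (.node (.node net_M_0
  net_M_1)
  (.node net_M_2
  net_M_3))
  (.node (.node net_M_4
  net_M_5)
  (.node net_M_6
  net_M_7))
noncomputable def net : Net :=
  ⟨(nat_lit 6), (nat_lit 8), (nat_lit 15), get (nat_lit 24) (nat_lit 0x6000003000001800000c00000600000300000100000100000100000300000600000c000018000030000060), Tr.masks net_M (nat_lit 192) (nat_lit 1) (nat_lit 15) (nat_lit 172066848) (nat_lit 0)⟩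

theorem net_ok : net.OK 165 := fun _ => of_allLt (by decide +kernel : allLt 6 (net.ok 165) = true)
theorem net_lab : net.labOK 165 8 iv = true := by decide +kernel
theorem net_rels0 : allFrom (nat_lit 0) (nat_lit 13) (fun j => net.relOK 165 8 iv (rels.getD j (.l 0))) = true := by
  decide +kernel
theorem net_rels : ∀ t ∈ rels, net.relOK 165 8 iv t = true := forall_mem_of_getD (d := .l 0) (n := 13) rfl
  (of_allFrom_append of_lt_zero net_rels0)
def low : List Low := [
  ⟨0, [wd [1], wd [2], wd [3], wd [4], wd [5]], 4, 165⟩,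
  ⟨1, [wd [3], wd [4], wd [5]], 2, 8⟩,
  ⟨3, [wd [4], wd [5]], 2, 6⟩]
theorem low_ok : net.lowOK 165 iv low = true := by decide +kernel
theorem prim_ok : net.primOK 165 iv 0 [wd [3], wd [4], wd [5]] 3 5 [(wd [2], 1), (wd [2, 3, 2], 5), (wd [2, 3, 2, 3, 1, 2], 24), (wd [2, 3, 4, 2, 3, 1, 2], 42), (wd [2, 3, 4, 1, 2, 3, 2], 48), (wd [2, 3, 4, 1, 2, 3, 1, 2], 56), (wd [2, 3, 4, 5, 2, 3, 4, 2, 3, 1, 2], 133)] = true := by decide +kernel
def steps : List (W × ℕ × W × ℕ × ℕ) := [(.l 1, 2, wd [], 0, 11), (.l 2, 2, wd [], 0, 3), (.l 3, 2, wd [], 0, 5), (.l 4, 2, wd [], 0, 3), (.l 5, 2, wd [], 0, 3)]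
theorem lab_net : Lab (net.gam 165) iv := net_ok.lab_gam (by decide) (by decide) net_lab
theorem exists_rho : ∃ φ : Gp →* Equiv.Perm (Fin 165), ∀ c, φ (gam c) = net.gam 165 c :=
  data.exists_hom lab_net (net_ok.rels_gam (by decide) (by decide) net_lab net_rels)
/-- The action on 165 points. -/
@[reducible] noncomputable def act : MulAction Gp (Fin 165) := MulAction.compHom (Fin 165) exists_rho.choose
attribute [local instance] act
theorem model : NetModel Gp gam iv net 165 low := NetModel.of_hom net_ok isLab _ exists_rho.choose_spec low_ok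
  (card_le_of_top (genW_top ▸ card_h isLab rels_hold))
theorem card : Nat.card Gp = 7920 := model.card
theorem simple : IsSimpleGroup Gp :=
  model.isSimpleGroup (by decide) prim_ok (z := wd [3, 5, 2, 4]) (q := 11) (by decide +kernel) (by decide +kernel) (steps := steps)
    (by decide +kernel) (data.genW_eq_top (by decide +kernel))
/-- Every non-trivial solution of the relators generates a copy of the group. -/
theorem equiv_genW {G : Type*} [Group G] {γ : ℕ → G} (hL : Lab γ iv) (hr : ∀ t ∈ rels, t.ev γ = 1) (h : γ 1 ≠ 1) :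
    Nonempty (Gp ≃* genW γ gens) :=
  have := simple
  data.equiv_genW genW_top hL hr h

end Cfsg.Lib.Calc.PM11
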