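import Cfsg.Agent.Lib.Calc.ONTD1
import Cfsg.Agent.Lib.Calc.ONTD2
import Cfsg.Agent.Lib.Calc.ONTD3
import Cfsg.Agent.Lib.Calc.ONPres

set_option autoImplicit false
set_option maxRecDepth 1000000
set_option maxHeartbeats 0
set_option Elab.async false

namespace Cfsg.Lib.Calc.ON

noncomputable def e1_F : Tr := .node (.node (.node (.node (.node (.node (.node e1_F_0
  e1_F_1)
  (.node e1_F_2
  e1_F_3))
  (.node (.node e1_F_4
  e1_F_5)
  (.node e1_F_6
  e1_F_7)))
  (.node (.node (.node e1_F_8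
  e1_F_9)
  (.node e1_F_10
  e1_F_11))
  (.node (.node e1_F_12
  e1_F_13)
  (.node e1_F_14
  e1_F_15))))
  (.node (.node (.node (.node e1_F_16
  e1_F_17)
  (.node e1_F_18
  e1_F_19))
  (.node (.node e1_F_20
  e1_F_21)
  (.node e1_F_22
  e1_F_23)))
  (.node (.node (.node e1_F_24
  e1_F_25)
  (.node e1_F_26
  e1_F_27))
  (.node (.node e1_F_28
  e1_F_29)
  (.node e1_F_30
  e1_F_31)))))
  (.node (.node (.node (.node (.node e1_F_32
  e1_F_33)
  (.node e1_F_34
  e1_F_35))
  (.node (.node e1_F_36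
  e1_F_37)
  (.node e1_F_38
  e1_F_39)))
  (.node (.node (.node e1_F_40
  e1_F_41)
  (.node e1_F_42
  e1_F_43))
  (.node (.node e1_F_44
  e1_F_45)
  (.node e1_F_46
  e1_F_47))))
  (.node (.node (.node (.node e1_F_48
  e1_F_49)
  (.node e1_F_50
  e1_F_51))
  (.node (.node e1_F_52
  e1_F_53)
  (.node e1_F_54
  e1_F_55)))
  (.node (.node (.node e1_F_56
  e1_F_57)
  (.node e1_F_58
  e1_F_59))
  (.node (.node e1_F_60
  e1_F_61)
  (.node e1_F_62
  e1_F_63))))))
  (.node (.node (.node (.node (.node (.node e1_F_64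
  e1_F_65)
  (.node e1_F_66
  e1_F_67))
  (.node (.node e1_F_68
  e1_F_69)
  (.node e1_F_70
  e1_F_71)))
  (.node (.node (.node e1_F_72
  e1_F_73)
  (.node e1_F_74
  e1_F_75))
  (.node (.node e1_F_76
  e1_F_77)
  (.node e1_F_78
  e1_F_79))))
  (.node (.node (.node (.node e1_F_80
  e1_F_81)
  (.node e1_F_82
  e1_F_83))
  (.node (.node e1_F_84
  e1_F_85)
  (.node e1_F_86
  e1_F_87)))
  (.node (.node (.node e1_F_88
  e1_F_89)
  (.node e1_F_90
  e1_F_91))
  (.node (.node e1_F_92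
  e1_F_93)
  (.node e1_F_94
  e1_F_95)))))
  (.node (.node (.node (.node (.node e1_F_96
  e1_F_97)
  (.node e1_F_98
  e1_F_99))
  (.node (.node e1_F_100
  e1_F_101)
  (.node e1_F_102
  e1_F_103)))
  (.node (.node (.node e1_F_104
  e1_F_105)
  (.node e1_F_106
  e1_F_107))
  (.node (.node e1_F_108
  e1_F_109)
  (.node e1_F_110
  e1_F_111))))
  (.node (.node (.node (.node e1_F_112
  e1_F_113)
  (.node e1_F_114
  e1_F_115))
  (.node (.node e1_F_116
  e1_F_117)
  (.node e1_F_118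
  e1_F_119)))
  (.node (.node (.node e1_F_120
  e1_F_121)
  (.node e1_F_122
  e1_F_123))
  (.node (.node e1_F_124
  e1_F_125)
  (.node e1_F_126
  e1_F_127))))))
noncomputable def e1_T : Tr := .node (.node (.node (.node e1_T_0
  e1_T_1)
  (.node e1_T_2
  e1_T_3))
  (.node (.node e1_T_4
  e1_T_5)
  (.node e1_T_6
  e1_T_7)))
  (.node (.node (.node e1_T_8
  e1_T_9)
  (.node e1_T_10
  e1_T_11))
  (.node (.node e1_T_12
  e1_T_13)
  (.node e1_T_14
  e1_T_15)))
noncomputable def e1_P : Tr := .node (.node (.node (.node (.node (.node (.node (.node (.node (.node e1_P_0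
  e1_P_1)
  (.node e1_P_2
  e1_P_3))
  (.node (.node e1_P_4
  e1_P_5)
  (.node e1_P_6
  e1_P_7)))
  (.node (.node (.node e1_P_8
  e1_P_9)
  (.node e1_P_10
  e1_P_11))
  (.node (.node e1_P_12
  e1_P_13)
  (.node e1_P_14
  e1_P_15))))
  (.node (.node (.node (.node e1_P_16
  e1_P_17)
  (.node e1_P_18
  e1_P_19))
  (.node (.node e1_P_20
  e1_P_21)
  (.node e1_P_22
  e1_P_23)))
  (.node (.node (.node e1_P_24
  e1_P_25)
  (.node e1_P_26
  e1_P_27))
  (.node (.node e1_P_28
  e1_P_29)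
  (.node e1_P_30
  e1_P_31)))))
  (.node (.node (.node (.node (.node e1_P_32
  e1_P_33)
  (.node e1_P_34
  e1_P_35))
  (.node (.node e1_P_36
  e1_P_37)
  (.node e1_P_38
  e1_P_39)))
  (.node (.node (.node e1_P_40
  e1_P_41)
  (.node e1_P_42
  e1_P_43))
  (.node (.node e1_P_44
  e1_P_45)
  (.node e1_P_46
  e1_P_47))))
  (.node (.node (.node (.node e1_P_48
  e1_P_49)
  (.node e1_P_50
  e1_P_51))
  (.node (.node e1_P_52
  e1_P_53)
  (.node e1_P_54
  e1_P_55)))
  (.node (.node (.node e1_P_56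
  e1_P_57)
  (.node e1_P_58
  e1_P_59))
  (.node (.node e1_P_60
  e1_P_61)
  (.node e1_P_62
  e1_P_63))))))
  (.node (.node (.node (.node (.node (.node e1_P_64
  e1_P_65)
  (.node e1_P_66
  e1_P_67))
  (.node (.node e1_P_68
  e1_P_69)
  (.node e1_P_70
  e1_P_71)))
  (.node (.node (.node e1_P_72
  e1_P_73)
  (.node e1_P_74
  e1_P_75))
  (.node (.node e1_P_76
  e1_P_77)
  (.node e1_P_78
  e1_P_79))))
  (.node (.node (.node (.node e1_P_80
  e1_P_81)
  (.node e1_P_82
  e1_P_83))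
  (.node (.node e1_P_84
  e1_P_85)
  (.node e1_P_86
  e1_P_87)))
  (.node (.node (.node e1_P_88
  e1_P_89)
  (.node e1_P_90
  e1_P_91))
  (.node (.node e1_P_92
  e1_P_93)
  (.node e1_P_94
  e1_P_95)))))
  (.node (.node (.node (.node (.node e1_P_96
  e1_P_97)
  (.node e1_P_98
  e1_P_99))
  (.node (.node e1_P_100
  e1_P_101)
  (.node e1_P_102
  e1_P_103)))
  (.node (.node (.node e1_P_104
  e1_P_105)
  (.node e1_P_106
  e1_P_107))
  (.node (.node e1_P_108
  e1_P_109)
  (.node e1_P_110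
  e1_P_111))))
  (.node (.node (.node (.node e1_P_112
  e1_P_113)
  (.node e1_P_114
  e1_P_115))
  (.node (.node e1_P_116
  e1_P_117)
  (.node e1_P_118
  e1_P_119)))
  (.node (.node (.node e1_P_120
  e1_P_121)
  (.node e1_P_122
  e1_P_123))
  (.node (.node e1_P_124
  e1_P_125)
  (.node e1_P_126
  e1_P_127)))))))
  (.node (.node (.node (.node (.node (.node (.node e1_P_128
  e1_P_129)
  (.node e1_P_130
  e1_P_131))
  (.node (.node e1_P_132
  e1_P_133)
  (.node e1_P_134
  e1_P_135)))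
  (.node (.node (.node e1_P_136
  e1_P_137)
  (.node e1_P_138
  e1_P_139))
  (.node (.node e1_P_140
  e1_P_141)
  (.node e1_P_142
  e1_P_143))))
  (.node (.node (.node (.node e1_P_144
  e1_P_145)
  (.node e1_P_146
  e1_P_147))
  (.node (.node e1_P_148
  e1_P_149)
  (.node e1_P_150
  e1_P_151)))
  (.node (.node (.node e1_P_152
  e1_P_153)
  (.node e1_P_154
  e1_P_155))
  (.node (.node e1_P_156
  e1_P_157)
  (.node e1_P_158
  e1_P_159)))))
  (.node (.node (.node (.node (.node e1_P_160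
  e1_P_161)
  (.node e1_P_162
  e1_P_163))
  (.node (.node e1_P_164
  e1_P_165)
  (.node e1_P_166
  e1_P_167)))
  (.node (.node (.node e1_P_168
  e1_P_169)
  (.node e1_P_170
  e1_P_171))
  (.node (.node e1_P_172
  e1_P_173)
  (.node e1_P_174
  e1_P_175))))
  (.node (.node (.node (.node e1_P_176
  e1_P_177)
  (.node e1_P_178
  e1_P_179))
  (.node (.node e1_P_180
  e1_P_181)
  (.node e1_P_182
  e1_P_183)))
  (.node (.node (.node e1_P_184
  e1_P_185)
  (.node e1_P_186
  e1_P_187))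
  (.node (.node e1_P_188
  e1_P_189)
  (.node e1_P_190
  e1_P_191))))))
  (.node (.node (.node (.node (.node (.node e1_P_192
  e1_P_193)
  (.node e1_P_194
  e1_P_195))
  (.node (.node e1_P_196
  e1_P_197)
  (.node e1_P_198
  e1_P_199)))
  (.node (.node (.node e1_P_200
  e1_P_201)
  (.node e1_P_202
  e1_P_203))
  (.node (.node e1_P_204
  e1_P_205)
  (.node e1_P_206
  e1_P_207))))
  (.node (.node (.node (.node e1_P_208
  e1_P_209)
  (.node e1_P_210
  e1_P_211))
  (.node (.node e1_P_212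
  e1_P_213)
  (.node e1_P_214
  e1_P_215)))
  (.node (.node (.node e1_P_216
  e1_P_217)
  (.node e1_P_218
  e1_P_219))
  (.node (.node e1_P_220
  e1_P_221)
  (.node e1_P_222
  e1_P_223)))))
  (.node (.node (.node (.node (.node e1_P_224
  e1_P_225)
  (.node e1_P_226
  e1_P_227))
  (.node (.node e1_P_228
  e1_P_229)
  (.node e1_P_230
  e1_P_231)))
  (.node (.node (.node e1_P_232
  e1_P_233)
  (.node e1_P_234
  e1_P_235))
  (.node (.node e1_P_236
  e1_P_237)
  (.node e1_P_238
  e1_P_239))))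
  (.node (.node (.node (.node e1_P_240
  e1_P_241)
  (.node e1_P_242
  e1_P_243))
  (.node (.node e1_P_244
  e1_P_245)
  (.node e1_P_246
  e1_P_247)))
  (.node (.node (.node e1_P_248
  e1_P_249)
  (.node e1_P_250
  e1_P_251))
  (.node (.node e1_P_252
  e1_P_253)
  (.node e1_P_254
  e1_P_255))))))))
  (.node (.node (.node (.node (.node (.node (.node (.node e1_P_256
  e1_P_257)
  (.node e1_P_258
  e1_P_259))
  (.node (.node e1_P_260
  e1_P_261)
  (.node e1_P_262
  e1_P_263)))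
  (.node (.node (.node e1_P_264
  e1_P_265)
  (.node e1_P_266
  e1_P_267))
  (.node (.node e1_P_268
  e1_P_269)
  (.node e1_P_270
  e1_P_271))))
  (.node (.node (.node (.node e1_P_272
  e1_P_273)
  (.node e1_P_274
  e1_P_275))
  (.node (.node e1_P_276
  e1_P_277)
  (.node e1_P_278
  e1_P_279)))
  (.node (.node (.node e1_P_280
  e1_P_281)
  (.node e1_P_282
  e1_P_283))
  (.node (.node e1_P_284
  e1_P_285)
  (.node e1_P_286
  e1_P_287)))))
  (.node (.node (.node (.node (.node e1_P_288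
  e1_P_289)
  (.node e1_P_290
  e1_P_291))
  (.node (.node e1_P_292
  e1_P_293)
  (.node e1_P_294
  e1_P_295)))
  (.node (.node (.node e1_P_296
  e1_P_297)
  (.node e1_P_298
  e1_P_299))
  (.node (.node e1_P_300
  e1_P_301)
  (.node e1_P_302
  e1_P_303))))
  (.node (.node (.node (.node e1_P_304
  e1_P_305)
  (.node e1_P_306
  e1_P_307))
  (.node (.node e1_P_308
  e1_P_309)
  (.node e1_P_310
  e1_P_311)))
  (.node (.node (.node e1_P_312
  e1_P_313)
  (.node e1_P_314
  e1_P_315))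
  (.node (.node e1_P_316
  e1_P_317)
  (.node e1_P_318
  e1_P_319))))))
  (.node (.node (.node (.node (.node (.node e1_P_320
  e1_P_321)
  (.node e1_P_322
  e1_P_323))
  (.node (.node e1_P_324
  e1_P_325)
  (.node e1_P_326
  e1_P_327)))
  (.node (.node (.node e1_P_328
  e1_P_329)
  (.node e1_P_330
  e1_P_331))
  (.node (.node e1_P_332
  e1_P_333)
  (.node e1_P_334
  e1_P_335))))
  (.node (.node (.node (.node e1_P_336
  e1_P_337)
  (.node e1_P_338
  e1_P_339))
  (.node (.node e1_P_340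
  e1_P_341)
  (.node e1_P_342
  e1_P_343)))
  (.node (.node (.node e1_P_344
  e1_P_345)
  (.node e1_P_346
  e1_P_347))
  (.node (.node e1_P_348
  e1_P_349)
  (.node e1_P_350
  e1_P_351)))))
  (.node (.node (.node (.node (.node e1_P_352
  e1_P_353)
  (.node e1_P_354
  e1_P_355))
  (.node (.node e1_P_356
  e1_P_357)
  (.node e1_P_358
  e1_P_359)))
  (.node (.node (.node e1_P_360
  e1_P_361)
  (.node e1_P_362
  e1_P_363))
  (.node (.node e1_P_364
  e1_P_365)
  (.node e1_P_366
  e1_P_367))))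
  (.node (.node (.node (.node e1_P_368
  e1_P_369)
  (.node e1_P_370
  e1_P_371))
  (.node (.node e1_P_372
  e1_P_373)
  (.node e1_P_374
  e1_P_375)))
  (.node (.node (.node e1_P_376
  e1_P_377)
  (.node e1_P_378
  e1_P_379))
  (.node (.node e1_P_380
  e1_P_381)
  (.node e1_P_382
  e1_P_383)))))))
  (.node (.node (.node (.node (.node (.node (.node e1_P_384
  e1_P_385)
  (.node e1_P_386
  e1_P_387))
  (.node (.node e1_P_388
  e1_P_389)
  (.node e1_P_390
  e1_P_391)))
  (.node (.node (.node e1_P_392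
  e1_P_393)
  (.node e1_P_394
  e1_P_395))
  (.node (.node e1_P_396
  e1_P_397)
  (.node e1_P_398
  e1_P_399))))
  (.node (.node (.node (.node e1_P_400
  e1_P_401)
  (.node e1_P_402
  e1_P_403))
  (.node (.node e1_P_404
  e1_P_405)
  (.node e1_P_406
  e1_P_407)))
  (.node (.node (.node e1_P_408
  e1_P_409)
  (.node e1_P_410
  e1_P_411))
  (.node (.node e1_P_412
  e1_P_413)
  (.node e1_P_414
  e1_P_415)))))
  (.node (.node (.node (.node (.node e1_P_416
  e1_P_417)
  (.node e1_P_418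
  e1_P_419))
  (.node (.node e1_P_420
  e1_P_421)
  (.node e1_P_422
  e1_P_423)))
  (.node (.node (.node e1_P_424
  e1_P_425)
  (.node e1_P_426
  e1_P_427))
  (.node (.node e1_P_428
  e1_P_429)
  (.node e1_P_430
  e1_P_431))))
  (.node (.node (.node (.node e1_P_432
  e1_P_433)
  (.node e1_P_434
  e1_P_435))
  (.node (.node e1_P_436
  e1_P_437)
  (.node e1_P_438
  e1_P_439)))
  (.node (.node (.node e1_P_440
  e1_P_441)
  (.node e1_P_442
  e1_P_443))
  (.node (.node e1_P_444
  e1_P_445)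
  (.node e1_P_446
  e1_P_447))))))
  (.node (.node (.node (.node (.node (.node e1_P_448
  e1_P_449)
  (.node e1_P_450
  e1_P_451))
  (.node (.node e1_P_452
  e1_P_453)
  (.node e1_P_454
  e1_P_455)))
  (.node (.node (.node e1_P_456
  e1_P_457)
  (.node e1_P_458
  e1_P_459))
  (.node (.node e1_P_460
  e1_P_461)
  (.node e1_P_462
  e1_P_463))))
  (.node (.node (.node (.node e1_P_464
  e1_P_465)
  (.node e1_P_466
  e1_P_467))
  (.node (.node e1_P_468
  e1_P_469)
  (.node e1_P_470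
  e1_P_471)))
  (.node (.node (.node e1_P_472
  e1_P_473)
  (.node e1_P_474
  e1_P_475))
  (.node (.node e1_P_476
  e1_P_477)
  (.node e1_P_478
  e1_P_479)))))
  (.node (.node (.node (.node (.node e1_P_480
  e1_P_481)
  (.node e1_P_482
  e1_P_483))
  (.node (.node e1_P_484
  e1_P_485)
  (.node e1_P_486
  e1_P_487)))
  (.node (.node (.node e1_P_488
  e1_P_489)
  (.node e1_P_490
  e1_P_491))
  (.node (.node e1_P_492
  e1_P_493)
  (.node e1_P_494
  e1_P_495))))
  (.node (.node (.node (.node e1_P_496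
  e1_P_497)
  (.node e1_P_498
  e1_P_499))
  (.node (.node e1_P_500
  e1_P_501)
  (.node e1_P_502
  e1_P_503)))
  (.node (.node (.node e1_P_504
  e1_P_505)
  (.node e1_P_506
  e1_P_507))
  (.node (.node e1_P_508
  e1_P_509)
  (.node e1_P_510
  e1_P_511)))))))))
  (.node (.node (.node (.node (.node (.node (.node (.node (.node e1_P_512
  e1_P_513)
  (.node e1_P_514
  e1_P_515))
  (.node (.node e1_P_516
  e1_P_517)
  (.node e1_P_518
  e1_P_519)))
  (.node (.node (.node e1_P_520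
  e1_P_521)
  (.node e1_P_522
  e1_P_523))
  (.node (.node e1_P_524
  e1_P_525)
  (.node e1_P_526
  e1_P_527))))
  (.node (.node (.node (.node e1_P_528
  e1_P_529)
  (.node e1_P_530
  e1_P_531))
  (.node (.node e1_P_532
  e1_P_533)
  (.node e1_P_534
  e1_P_535)))
  (.node (.node (.node e1_P_536
  e1_P_537)
  (.node e1_P_538
  e1_P_539))
  (.node (.node e1_P_540
  e1_P_541)
  (.node e1_P_542
  e1_P_543)))))
  (.node (.node (.node (.node (.node e1_P_544
  e1_P_545)
  (.node e1_P_546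
  e1_P_547))
  (.node (.node e1_P_548
  e1_P_549)
  (.node e1_P_550
  e1_P_551)))
  (.node (.node (.node e1_P_552
  e1_P_553)
  (.node e1_P_554
  e1_P_555))
  (.node (.node e1_P_556
  e1_P_557)
  (.node e1_P_558
  e1_P_559))))
  (.node (.node (.node (.node e1_P_560
  e1_P_561)
  (.node e1_P_562
  e1_P_563))
  (.node (.node e1_P_564
  e1_P_565)
  (.node e1_P_566
  e1_P_567)))
  (.node (.node (.node e1_P_568
  e1_P_569)
  (.node e1_P_570
  e1_P_571))
  (.node (.node e1_P_572
  e1_P_573)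
  (.node e1_P_574
  e1_P_575))))))
  (.node (.node (.node (.node (.node (.node e1_P_576
  e1_P_577)
  (.node e1_P_578
  e1_P_579))
  (.node (.node e1_P_580
  e1_P_581)
  (.node e1_P_582
  e1_P_583)))
  (.node (.node (.node e1_P_584
  e1_P_585)
  (.node e1_P_586
  e1_P_587))
  (.node (.node e1_P_588
  e1_P_589)
  (.node e1_P_590
  e1_P_591))))
  (.node (.node (.node (.node e1_P_592
  e1_P_593)
  (.node e1_P_594
  e1_P_595))
  (.node (.node e1_P_596
  e1_P_597)
  (.node e1_P_598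
  e1_P_599)))
  (.node (.node (.node e1_P_600
  e1_P_601)
  (.node e1_P_602
  e1_P_603))
  (.node (.node e1_P_604
  e1_P_605)
  (.node e1_P_606
  e1_P_607)))))
  (.node (.node (.node (.node (.node e1_P_608
  e1_P_609)
  (.node e1_P_610
  e1_P_611))
  (.node (.node e1_P_612
  e1_P_613)
  (.node e1_P_614
  e1_P_615)))
  (.node (.node (.node e1_P_616
  e1_P_617)
  (.node e1_P_618
  e1_P_619))
  (.node (.node e1_P_620
  e1_P_621)
  (.node e1_P_622
  e1_P_623))))
  (.node (.node (.node (.node e1_P_624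
  e1_P_625)
  (.node e1_P_626
  e1_P_627))
  (.node (.node e1_P_628
  e1_P_629)
  (.node e1_P_630
  e1_P_631)))
  (.node (.node (.node e1_P_632
  e1_P_633)
  (.node e1_P_634
  e1_P_635))
  (.node (.node e1_P_636
  e1_P_637)
  (.node e1_P_638
  e1_P_639)))))))
  (.node (.node (.node (.node (.node (.node (.node e1_P_640
  e1_P_641)
  (.node e1_P_642
  e1_P_643))
  (.node (.node e1_P_644
  e1_P_645)
  (.node e1_P_646
  e1_P_647)))
  (.node (.node (.node e1_P_648
  e1_P_649)
  (.node e1_P_650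
  e1_P_651))
  (.node (.node e1_P_652
  e1_P_653)
  (.node e1_P_654
  e1_P_655))))
  (.node (.node (.node (.node e1_P_656
  e1_P_657)
  (.node e1_P_658
  e1_P_659))
  (.node (.node e1_P_660
  e1_P_661)
  (.node e1_P_662
  e1_P_663)))
  (.node (.node (.node e1_P_664
  e1_P_665)
  (.node e1_P_666
  e1_P_667))
  (.node (.node e1_P_668
  e1_P_669)
  (.node e1_P_670
  e1_P_671)))))
  (.node (.node (.node (.node (.node e1_P_672
  e1_P_673)
  (.node e1_P_674
  e1_P_675))
  (.node (.node e1_P_676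
  e1_P_677)
  (.node e1_P_678
  e1_P_679)))
  (.node (.node (.node e1_P_680
  e1_P_681)
  (.node e1_P_682
  e1_P_683))
  (.node (.node e1_P_684
  e1_P_685)
  (.node e1_P_686
  e1_P_687))))
  (.node (.node (.node (.node e1_P_688
  e1_P_689)
  (.node e1_P_690
  e1_P_691))
  (.node (.node e1_P_692
  e1_P_693)
  (.node e1_P_694
  e1_P_695)))
  (.node (.node (.node e1_P_696
  e1_P_697)
  (.node e1_P_698
  e1_P_699))
  (.node (.node e1_P_700
  e1_P_701)
  (.node e1_P_702
  e1_P_703))))))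
  (.node (.node (.node (.node (.node (.node e1_P_704
  e1_P_705)
  (.node e1_P_706
  e1_P_707))
  (.node (.node e1_P_708
  e1_P_709)
  (.node e1_P_710
  e1_P_711)))
  (.node (.node (.node e1_P_712
  e1_P_713)
  (.node e1_P_714
  e1_P_715))
  (.node (.node e1_P_716
  e1_P_717)
  (.node e1_P_718
  e1_P_719))))
  (.node (.node (.node (.node e1_P_720
  e1_P_721)
  (.node e1_P_722
  e1_P_723))
  (.node (.node e1_P_724
  e1_P_725)
  (.node e1_P_726
  e1_P_727)))
  (.node (.node (.node e1_P_728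
  e1_P_729)
  (.node e1_P_730
  e1_P_731))
  (.node (.node e1_P_732
  e1_P_733)
  (.node e1_P_734
  e1_P_735)))))
  (.node (.node (.node (.node (.node e1_P_736
  e1_P_737)
  (.node e1_P_738
  e1_P_739))
  (.node (.node e1_P_740
  e1_P_741)
  (.node e1_P_742
  e1_P_743)))
  (.node (.node (.node e1_P_744
  e1_P_745)
  (.node e1_P_746
  e1_P_747))
  (.node (.node e1_P_748
  e1_P_749)
  (.node e1_P_750
  e1_P_751))))
  (.node (.node (.node (.node e1_P_752
  e1_P_753)
  (.node e1_P_754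
  e1_P_755))
  (.node (.node e1_P_756
  e1_P_757)
  (.node e1_P_758
  e1_P_759)))
  (.node (.node (.node e1_P_760
  e1_P_761)
  (.node e1_P_762
  e1_P_763))
  (.node (.node e1_P_764
  e1_P_765)
  (.node e1_P_766
  e1_P_767))))))))
  (.node (.node (.node (.node (.node (.node (.node (.node e1_P_768
  e1_P_769)
  (.node e1_P_770
  e1_P_771))
  (.node (.node e1_P_772
  e1_P_773)
  (.node e1_P_774
  e1_P_775)))
  (.node (.node (.node e1_P_776
  e1_P_777)
  (.node e1_P_778
  e1_P_779))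
  (.node (.node e1_P_780
  e1_P_781)
  (.node e1_P_782
  e1_P_783))))
  (.node (.node (.node (.node e1_P_784
  e1_P_785)
  (.node e1_P_786
  e1_P_787))
  (.node (.node e1_P_788
  e1_P_789)
  (.node e1_P_790
  e1_P_791)))
  (.node (.node (.node e1_P_792
  e1_P_793)
  (.node e1_P_794
  e1_P_795))
  (.node (.node e1_P_796
  e1_P_797)
  (.node e1_P_798
  e1_P_799)))))
  (.node (.node (.node (.node (.node e1_P_800
  e1_P_801)
  (.node e1_P_802
  e1_P_803))
  (.node (.node e1_P_804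
  e1_P_805)
  (.node e1_P_806
  e1_P_807)))
  (.node (.node (.node e1_P_808
  e1_P_809)
  (.node e1_P_810
  e1_P_811))
  (.node (.node e1_P_812
  e1_P_813)
  (.node e1_P_814
  e1_P_815))))
  (.node (.node (.node (.node e1_P_816
  e1_P_817)
  (.node e1_P_818
  e1_P_819))
  (.node (.node e1_P_820
  e1_P_821)
  (.node e1_P_822
  e1_P_823)))
  (.node (.node (.node e1_P_824
  e1_P_825)
  (.node e1_P_826
  e1_P_827))
  (.node (.node e1_P_828
  e1_P_829)
  (.node e1_P_830
  e1_P_831))))))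
  (.node (.node (.node (.node (.node (.node e1_P_832
  e1_P_833)
  (.node e1_P_834
  e1_P_835))
  (.node (.node e1_P_836
  e1_P_837)
  (.node e1_P_838
  e1_P_839)))
  (.node (.node (.node e1_P_840
  e1_P_841)
  (.node e1_P_842
  e1_P_843))
  (.node (.node e1_P_844
  e1_P_845)
  (.node e1_P_846
  e1_P_847))))
  (.node (.node (.node (.node e1_P_848
  e1_P_849)
  (.node e1_P_850
  e1_P_851))
  (.node (.node e1_P_852
  e1_P_853)
  (.node e1_P_854
  e1_P_855)))
  (.node (.node (.node e1_P_856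
  e1_P_857)
  (.node e1_P_858
  e1_P_859))
  (.node (.node e1_P_860
  e1_P_861)
  (.node e1_P_862
  e1_P_863)))))
  (.node (.node (.node (.node (.node e1_P_864
  e1_P_865)
  (.node e1_P_866
  e1_P_867))
  (.node (.node e1_P_868
  e1_P_869)
  (.node e1_P_870
  e1_P_871)))
  (.node (.node (.node e1_P_872
  e1_P_873)
  (.node e1_P_874
  e1_P_875))
  (.node (.node e1_P_876
  e1_P_877)
  (.node e1_P_878
  e1_P_879))))
  (.node (.node (.node (.node e1_P_880
  e1_P_881)
  (.node e1_P_882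
  e1_P_883))
  (.node (.node e1_P_884
  e1_P_885)
  (.node e1_P_886
  e1_P_887)))
  (.node (.node (.node e1_P_888
  e1_P_889)
  (.node e1_P_890
  e1_P_891))
  (.node (.node e1_P_892
  e1_P_893)
  (.node e1_P_894
  e1_P_895)))))))
  (.node (.node (.node (.node (.node (.node (.node e1_P_896
  e1_P_897)
  (.node e1_P_898
  e1_P_899))
  (.node (.node e1_P_900
  e1_P_901)
  (.node e1_P_902
  e1_P_903)))
  (.node (.node (.node e1_P_904
  e1_P_905)
  (.node e1_P_906
  e1_P_907))
  (.node (.node e1_P_908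
  e1_P_909)
  (.node e1_P_910
  e1_P_911))))
  (.node (.node (.node (.node e1_P_912
  e1_P_913)
  (.node e1_P_914
  e1_P_915))
  (.node (.node e1_P_916
  e1_P_917)
  (.node e1_P_918
  e1_P_919)))
  (.node (.node (.node e1_P_920
  e1_P_921)
  (.node e1_P_922
  e1_P_923))
  (.node (.node e1_P_924
  e1_P_925)
  (.node e1_P_926
  e1_P_927)))))
  (.node (.node (.node (.node (.node e1_P_928
  e1_P_929)
  (.node e1_P_930
  e1_P_931))
  (.node (.node e1_P_932
  e1_P_933)
  (.node e1_P_934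
  e1_P_935)))
  (.node (.node (.node e1_P_936
  e1_P_937)
  (.node e1_P_938
  e1_P_939))
  (.node (.node e1_P_940
  e1_P_941)
  (.node e1_P_942
  e1_P_943))))
  (.node (.node (.node (.node e1_P_944
  e1_P_945)
  (.node e1_P_946
  e1_P_947))
  (.node (.node e1_P_948
  e1_P_949)
  (.node e1_P_950
  e1_P_951)))
  (.node (.node (.node e1_P_952
  e1_P_953)
  (.node e1_P_954
  e1_P_955))
  (.node (.node e1_P_956
  e1_P_957)
  (.node e1_P_958
  e1_P_959))))))
  (.node (.node (.node (.node (.node (.node e1_P_960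
  e1_P_961)
  (.node e1_P_962
  e1_P_963))
  (.node (.node e1_P_964
  e1_P_965)
  (.node e1_P_966
  e1_P_967)))
  (.node (.node (.node e1_P_968
  e1_P_969)
  (.node e1_P_970
  e1_P_971))
  (.node (.node e1_P_972
  e1_P_973)
  (.node e1_P_974
  e1_P_975))))
  (.node (.node (.node (.node e1_P_976
  e1_P_977)
  (.node e1_P_978
  e1_P_979))
  (.node (.node e1_P_980
  e1_P_981)
  (.node e1_P_982
  e1_P_983)))
  (.node (.node (.node e1_P_984
  e1_P_985)
  (.node e1_P_986
  e1_P_987))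
  (.node (.node e1_P_988
  e1_P_989)
  (.node e1_P_990
  e1_P_991)))))
  (.node (.node (.node (.node (.node e1_P_992
  e1_P_993)
  (.node e1_P_994
  e1_P_995))
  (.node (.node e1_P_996
  e1_P_997)
  (.node e1_P_998
  e1_P_999)))
  (.node (.node (.node e1_P_1000
  e1_P_1001)
  (.node e1_P_1002
  e1_P_1003))
  (.node (.node e1_P_1004
  e1_P_1005)
  (.node e1_P_1006
  e1_P_1007))))
  (.node (.node (.node (.node e1_P_1008
  e1_P_1009)
  (.node e1_P_1010
  e1_P_1011))
  (.node (.node e1_P_1012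
  e1_P_1013)
  (.node e1_P_1014
  e1_P_1015)))
  (.node (.node (.node e1_P_1016
  e1_P_1017)
  (.node e1_P_1018
  e1_P_1019))
  (.node (.node e1_P_1020
  e1_P_1021)
  (.node e1_P_1022
  e1_P_1023)))))))))
noncomputable def e1_N : Tr := .node (.node e1_N_0
  e1_N_1)
  (.node e1_N_2
  e1_N_3)
noncomputable def e1 : TC :=
  ⟨[.l 0, .l 1, .l 2, .l 3, .l 4, .l 5, .l 6, .l 7, .l 8],
    (nat_lit 17), (nat_lit 20), (nat_lit 9043225707584), (nat_lit 505), (nat_lit 128580), (nat_lit 6), (nat_lit 32), (nat_lit 11754), (nat_lit 58),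
    get (nat_lit 10) (nat_lit 0x1003010030080400c02010030080400c02010030080400c02010030080400c02020080200802008020080200402c0b0500a0280a0100601006010040400401004018040100401006), Tr.get e1_N, get (nat_lit 20) (nat_lit 0x3ff003ff003ff003ff003ff003ff003ff003ff003ff003ff003ff003ff003ff003ff003ff003ff003ff003ff003ff003ff003ff003ff003ff003ff003ff003ff0001f0001e0001d0001c0001b0001a000190001800017000160001500014000130001200011000100000f0000e0000d0000c0000b0000a00009000080000700006000050000400003000020000100000),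
    Tr.get3 e1_F (nat_lit 44) (nat_lit 4), Tr.get3 e1_T (nat_lit 17) (nat_lit 5), Tr.get e1_P⟩
noncomputable def e1_Q7 : Tr := .node (.node (.node (.node e1_Q7_0
  e1_Q7_1)
  (.node e1_Q7_2
  e1_Q7_3))
  (.node (.node e1_Q7_4
  e1_Q7_5)
  (.node e1_Q7_6
  e1_Q7_7)))
  (.node (.node (.node e1_Q7_8
  e1_Q7_9)
  (.node e1_Q7_10
  e1_Q7_11))
  (.node (.node e1_Q7_12
  e1_Q7_13)
  (.node e1_Q7_14
  e1_Q7_15)))
noncomputable def e1_Q6 : Tr := .node (.node (.node (.node e1_Q6_0
  e1_Q6_1)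
  (.node e1_Q6_2
  e1_Q6_3))
  (.node (.node e1_Q6_4
  e1_Q6_5)
  (.node e1_Q6_6
  e1_Q6_7)))
  (.node (.node (.node e1_Q6_8
  e1_Q6_9)
  (.node e1_Q6_10
  e1_Q6_11))
  (.node (.node e1_Q6_12
  e1_Q6_13)
  (.node e1_Q6_14
  e1_Q6_15)))
noncomputable def e1_Q5 : Tr := .node (.node (.node (.node e1_Q5_0
  e1_Q5_1)
  (.node e1_Q5_2
  e1_Q5_3))
  (.node (.node e1_Q5_4
  e1_Q5_5)
  (.node e1_Q5_6
  e1_Q5_7)))
  (.node (.node (.node e1_Q5_8
  e1_Q5_9)
  (.node e1_Q5_10
  e1_Q5_11))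
  (.node (.node e1_Q5_12
  e1_Q5_13)
  (.node e1_Q5_14
  e1_Q5_15)))
noncomputable def e1_Q4 : Tr := .node (.node (.node (.node e1_Q4_0
  e1_Q4_1)
  (.node e1_Q4_2
  e1_Q4_3))
  (.node (.node e1_Q4_4
  e1_Q4_5)
  (.node e1_Q4_6
  e1_Q4_7)))
  (.node (.node (.node e1_Q4_8
  e1_Q4_9)
  (.node e1_Q4_10
  e1_Q4_11))
  (.node (.node e1_Q4_12
  e1_Q4_13)
  (.node e1_Q4_14
  e1_Q4_15)))
noncomputable def e1_Q1 : Tr := .node (.node (.node (.node e1_Q1_0
  e1_Q1_1)
  (.node e1_Q1_2
  e1_Q1_3))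
  (.node (.node e1_Q1_4
  e1_Q1_5)
  (.node e1_Q1_6
  e1_Q1_7)))
  (.node (.node (.node e1_Q1_8
  e1_Q1_9)
  (.node e1_Q1_10
  e1_Q1_11))
  (.node (.node e1_Q1_12
  e1_Q1_13)
  (.node e1_Q1_14
  e1_Q1_15)))

end Cfsg.Lib.Calc.ON
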