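import Cfsg.Agent.Lib.Ru.Basic
import Cfsg.Agent.Lib.Calc.VecPM

/-!
# Letters in the Rudvalis group
-/

set_option autoImplicit false
set_option maxRecDepth 1000000
set_option maxHeartbeats 0
set_option Elab.async false

namespace Cfsg.Lib.Big.RU

open Cfsg.Lib.Calc Cfsg.Lib.T2 Subgroup

/-- The engine of `28 × 28` matrices over `F₂`. -/
noncomputable def eR : Eng := eng2 28
/-- Codes of elements of the Rudvalis group. -/
def RR (g : Spor.Ru) (c : ℕ) : Prop := F2.LRep 28 Ru.cv g c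

theorem actR : eR.Act RR Ru.cv :=
  have : FaithfulSMul Spor.Ru Ru.V := ⟨fun {g h} e => by
    rw [← mul_inv_eq_one, ← mem_bot, ← Ru.model.ker]
    intro x
    rw [mul_smul, e, smul_inv_smul]⟩
  eng2_act (by decide) Ru.model.coded.lt Ru.cv_inj fun _ h => Ru.exists_cv h

instance neV : Nonempty Ru.V := ⟨Ru.Model.vt 0⟩

theorem lawR : eR.Laws RR := actR.toLaws
theorem canR : eR.Canon RR := eng2_canon fun _ h => Ru.exists_cv h

/-- The generators of the model. -/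
noncomputable def gsS : List Spor.Ru := [1, valR RR (Ru.sL.getD 0 0), (valR RR (Ru.sL.getD 0 0))⁻¹,
  valR RR (Ru.sL.getD 1 0), (valR RR (Ru.sL.getD 1 0))⁻¹]
/-- Their codes. -/
noncomputable def cS : List ℕ := [eR.one, Ru.sL.getD 0 0, (nat_lit 0x143410e3eb5737aacc74ad94dc75ed1b1fa029585a3142ceb518055329859fbf375668b524581d1322174734ce22c77618e9f9c6fe941fd6609c075ee25b0f2f2a19830ba24dddbafe87ca5344dd61631ed6df06733685e16664fe1c075bba471545), Ru.sL.getD 1 0, (nat_lit 0x9949c8942bf9f068334d9402b276669fef490a7301444ada4bd3f707fc5501c68aba3c363303ca4fbf62bde1e01d90c2dd84f6cce91a5feb7aeff22872c2049e498a2581be483baceed1d25fd735ee20d703f1065d9f0071893599874eed20001000)]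
/-- The codes of their inverses. -/
noncomputable def iS : List ℕ := [eR.one, (nat_lit 0x143410e3eb5737aacc74ad94dc75ed1b1fa029585a3142ceb518055329859fbf375668b524581d1322174734ce22c77618e9f9c6fe941fd6609c075ee25b0f2f2a19830ba24dddbafe87ca5344dd61631ed6df06733685e16664fe1c075bba471545), Ru.sL.getD 0 0, (nat_lit 0x9949c8942bf9f068334d9402b276669fef490a7301444ada4bd3f707fc5501c68aba3c363303ca4fbf62bde1e01d90c2dd84f6cce91a5feb7aeff22872c2049e498a2581be483baceed1d25fd735ee20d703f1065d9f0071893599874eed20001000), Ru.sL.getD 1 0]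
/-- Words for the letters `a b c d r s t u x X y Y`. -/
def labs0 : List W := [.l 0, wd [2, 3, 1, 4, 2, 4, 4, 2, 4, 1, 3, 2, 3, 2, 4, 4, 2, 2, 2, 3, 2, 4, 4], wd [3, 1, 4, 1, 3, 2, 3, 3, 1, 1, 4, 1, 1, 1, 3, 2, 4, 4, 4, 4, 1, 1, 1, 3], wd [3, 3, 2, 4, 4, 2, 3, 3, 1, 4, 2, 3, 2, 2, 3, 1, 4, 2, 3, 3, 3, 3, 3], wd [1, 3, 3, 2, 2, 2, 3, 2, 3, 1, 4, 4, 2, 2, 2, 2, 2, 2, 3, 3, 2, 3, 1, 4], wd [4, 4, 2, 2, 2, 4, 2, 2, 2, 2, 4, 2, 3, 2, 4, 2, 2, 4, 2, 3, 1], wd [4, 2, 2, 4, 1, 4, 1, 3, 1, 3, 2, 3, 2, 2, 2, 3, 2, 3, 2, 3, 3, 1, 3, 3, 2], wd [4, 4, 4, 4, 4, 2, 3, 2, 2, 4, 4, 2, 3, 3, 2, 4, 2, 2, 4, 2, 2, 3, 3], wd [1, 1, 1, 4, 2, 3, 2, 2, 3, 1, 4, 1, 3, 2, 2, 2, 3, 2, 3, 1, 4, 1, 3, 1, 3], wd [3, 1, 3, 3, 3, 1, 1, 1, 3, 2, 4, 1, 3, 3, 1, 1, 3, 3, 3, 2, 2, 4, 2], .inv (wd [3, 1, 3, 3, 3, 1, 1, 1, 3, 2, 4, 1, 3, 3, 1, 1, 3, 3, 3, 2, 2, 4, 2]), wd [3, 1, 3, 2, 4,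 4, 4, 1, 4, 2, 2, 2, 3, 1, 4, 2, 2, 3, 1, 1, 3, 3], .inv (wd [3, 1, 3, 2, 4, 4, 4, 1, 4, 2, 2, 2, 3, 1, 4, 2, 2, 3, 1, 1, 3, 3])]
/-- The further letters `z τ e₃ e₄ e₅ e₆ v₂ v₃`. -/
def defs : List W := [.l 0, .l 1, .l 2, .l 3, .l 4, .l 5, .l 6, .l 7, .l 8, .l 9, .l 10, .l 11, .l 12, wd [4, 1, 3, 1, 4, 1, 3, 1], wd [11, 1, 10, 4, 1], wd [3, 4, 3], wd [1, 4, 1], wd [2, 4, 2], wd [3, 2, 4, 3, 2], wd [9, 9], wd [11, 4, 2, 4, 11]]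
/-- Words for all letters. -/
def labs : List W := defs.map (W.subst labs0)
/-- Inverse letters. -/
def iv : ℕ := (nat_lit 26128640051321221230777394628640)
/-- The codes. -/
noncomputable def gc : List ℕ := eR.one :: [(nat_lit 0x7b09143139a2b57a57672ea30b2c0800000deb30ede6d902a3ac83a913083caa2fbff28e4068122bcf7cb917dd928735786ba959c9fed8aeaf3556ce41d7310da59c609fa0dc000008016f2fbc00000200000010730552e988e52bee1e67e0000001),
  (nat_lit 0xad1c1e46b5cc3a2000000afd5cf21f5983ec87334755e0a91253f595d90c2dd6263d929bca977bc2eff7291289904e7e1bb583c4177d8669a958bdb1ee6f88ae50cd51fab0290c6873d636e763175c27f0000010b6f32ea09234758173b310000001),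
  (nat_lit 0x19ee4ad56ec044aacc74a7a279164e7e16b225486a100fe5f6bae8440a41c38ef57624f4ce78d018c32230062b004e7e1bf22d8285fde7cd8b1511555eac126ad38f18a7d8d09177f1a87507b5760a54aab87aceed0ac5efcf99e8c3badbcab87adf),
  (nat_lit 0x9faa7876bae844c7f34717d05de88588060e6b3e892d7e79f5268cffcba35cc246c53c636c7671f5709522f4be34092c6180c65990b807b4c10cd5e9f354caeca14d2f6fdf6b4854a65442332b8e058f5ab87adf91aff5ad9839f0cb4651fab87ace),
  (nat_lit 0xbaf7b33115428897c22936a5f08aa06db7532042a40200000750c05dcbe573e1ae8a14bf42e6efc6dd148ec2f75e025e74d873959ee73ea368083c323e34e94c14b66a6711ea6fb4e14ba7e2393c1348f08e82fb7a53cd1040bd909f7e85008e82ea),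
  (nat_lit 0x37e71fe48bff6c7fc8f2db56c7ab029585af6d1dba887f205c74a32dbafe2388dc9c2eed4b935949313d790438deb590607e9a6ea555c7772ba72d13115721978d8f0de186bbbe8675e27ce1ce5ff80eaab87aceb6f32eaed75703010ad2c0000001),
  (nat_lit 0x6998b21115428800086f8158e92027d68e4284fc77d8473024697a3b5c2860bba34c7e0488d2b2591a97fa400b5f1a0cca7047dd89e4f8e5f643a1091aff5a37d50aca6d8f526d5543722599ae1c42d8208e82fb279cda359f084d7c0521a08e82ea),
  (nat_lit 0x2a800c0f52a7e9cf0d9779fc6208000a168dc214aefc9a9cabcfcca9d321dba34c7e5949a87e91cc42cae6b0045a18087047dd8701103b63e8c5f7efc15891a11d0eb2af140000020d6a8e2b0000080000001081f2b81c127236465b9750000001),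
  (nat_lit 0x45d0f2e7ddc14d34d28927d74761fb223042eef831eb7f3e776ed0e1bea0e1bf75e2e223f12cc4c14b664689a3aa048657addea5b82d65997bffe3f4b2a3b58bf6fb4dfdb4c348d6a58c7c5d3bd6593f40000010e02b913ff3f2c5eddb7c00000001),
  (nat_lit 0x190033fe46c23a465b9758f4015f8203bf52eef8313320143c71421358ea564043bd51886b49171a4e364713f2d9de5f84a0b0f27b38fc31e5d88afef3790178930069775592ba34c7e1373376253cc570000010f8774208d7dfa815dddfe0000001),
  (nat_lit 0x158e92009234752ec911397621f615ace428aa37aeb4d09e8cbe573e58ea564a16315ae314fdec612143e5d88afff7ce4813c136e555c777d55de11f13d3a5ab6e18c0c063738e5b2092469dd57023656000001018462511f2b2aac83ede60000001),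
  (nat_lit 0x33086bd217ffa01ff763828f9d353b116e2e6cc05f3ed38585dc17ae478cd99db21ab6bdf0c002f569738b15115c06c7e2f22d8288902bc030062b02841c4eafc8bc48a7d8d090ded62554057657573e200000107b83225ca5946fc83ede60000001),
  (nat_lit 0xfeb1a68c0f52a791285852d52559687e0ec225486a7c538401ee2676d13321f1ae8a145d6dc58f23988c51495f704e7e1bd8739599adf376887c1b0e1448910da59c65c856dd27fda9216a43fa0da5bf700000104e27d137b19437d8175e80000001),
  (nat_lit 0x1619d441084c7c6e93670ba67de7d41c199a6d8f46774ec35b917dd9a2e6e4c74e95552873578e1326140ac2cf266ddc4c91a11d0190b1e09657e5d21b25fbebe81d0cf926926ba959c8949e6e7877005ab87ace3b3462ce8346c86201dfaab87adf),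
  (nat_lit 0x94415d8fbe9e6663ad59ce4be0a989299e7c0e76e3067a89d56ec044e5d88afdc1c868aa7af8cb4daa7e11332b75056f9f16a43fa43521bb2849d0aa52c6789b3d2af8213b861cc1696d87395920415b9ab87adfe75c2afd262b8b8cd3d44ab87ace),
  (nat_lit 0x619e932d999b6a8ec2f75325d60c239f388c0e76e35f75d7cb9e63140eb0293529b3d4ac3bb42e9b76f3e91379f7ed3818487af9a8902bc06d0e193162014c25cec4800001009f4215f641ebb0ddb4318ab87ace6b622b70e88ad64d3da33ab87adf),
  (nat_lit 0x10ad2c5bcf1f84ae88ff4ab734689299e7225486aa06db75660fe1f7b4096c3a3680b88150fd3a6680b008b188bf83addee73ea3190b1e058ea564279cda39d7e2aea98c80ecbe64410106250310f46aab87adfeed1be801d3e7fd7641e1ab87ace),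
  (nat_lit 0xe6553e9bce1f29919d66ce3e6e2b37502b2225486ace9a5153862c64449651420f59f70020000fe8bced379c1a98104f29458f66cfa5ed31c2a6a2d8a7ab0bb4db37675c3162096acd11c42d82c172e83ab87adfbc067dbb49d749a7ed7bdab87ace),
  (nat_lit 0x605a71d737bcb7118f9b1a132e7932270b70400000249f4f0a6b863f19468240de59f6167c85f68e79cbe91379fd528b4aa6ebfb39adf37622ad58de6573ed0da5bf748ae0415965c69d4b6e1c0da59c600000100f51ce864039b553810e30000001),
  (nat_lit 0x194df7d42bf9f0f2462a66d0baf16eed57a9af1689087b25659807293c9b59829e9daa7fb8a4dc091d5b9148af1409144c7e9a6ea77d8669a958bdbafc8bc4a53681061b4af97e9867b16a43faf13d3a50000010bf35e43cf301271e85f690000001)]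
/-- The inverses. -/
noncomputable def gi : List ℕ := eR.one :: [(nat_lit 0x7b09143139a2b57a57672ea30b2c0800000deb30ede6d902a3ac83a913083caa2fbff28e4068122bcf7cb917dd928735786ba959c9fed8aeaf3556ce41d7310da59c609fa0dc000008016f2fbc00000200000010730552e988e52bee1e67e0000001),
  (nat_lit 0xad1c1e46b5cc3a2000000afd5cf21f5983ec87334755e0a91253f595d90c2dd6263d929bca977bc2eff7291289904e7e1bb583c4177d8669a958bdb1ee6f88ae50cd51fab0290c6873d636e763175c27f0000010b6f32ea09234758173b310000001),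
  (nat_lit 0x19ee4ad56ec044aacc74a7a279164e7e16b225486a100fe5f6bae8440a41c38ef57624f4ce78d018c32230062b004e7e1bf22d8285fde7cd8b1511555eac126ad38f18a7d8d09177f1a87507b5760a54aab87aceed0ac5efcf99e8c3badbcab87adf),
  (nat_lit 0x9faa7876bae844c7f34717d05de88588060e6b3e892d7e79f5268cffcba35cc246c53c636c7671f5709522f4be34092c6180c65990b807b4c10cd5e9f354caeca14d2f6fdf6b4854a65442332b8e058f5ab87adf91aff5ad9839f0cb4651fab87ace),
  (nat_lit 0xbaf7b33115428897c22936a5f08aa06db7532042a40200000750c05dcbe573e1ae8a14bf42e6efc6dd148ec2f75e025e74d873959ee73ea368083c323e34e94c14b66a6711ea6fb4e14ba7e2393c1348f08e82fb7a53cd1040bd909f7e85008e82ea),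
  (nat_lit 0x37e71fe48bff6c7fc8f2db56c7ab029585af6d1dba887f205c74a32dbafe2388dc9c2eed4b935949313d790438deb590607e9a6ea555c7772ba72d13115721978d8f0de186bbbe8675e27ce1ce5ff80eaab87aceb6f32eaed75703010ad2c0000001),
  (nat_lit 0x6998b21115428800086f8158e92027d68e4284fc77d8473024697a3b5c2860bba34c7e0488d2b2591a97fa400b5f1a0cca7047dd89e4f8e5f643a1091aff5a37d50aca6d8f526d5543722599ae1c42d8208e82fb279cda359f084d7c0521a08e82ea),
  (nat_lit 0x2a800c0f52a7e9cf0d9779fc6208000a168dc214aefc9a9cabcfcca9d321dba34c7e5949a87e91cc42cae6b0045a18087047dd8701103b63e8c5f7efc15891a11d0eb2af140000020d6a8e2b0000080000001081f2b81c127236465b9750000001),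
  (nat_lit 0x190033fe46c23a465b9758f4015f8203bf52eef8313320143c71421358ea564043bd51886b49171a4e364713f2d9de5f84a0b0f27b38fc31e5d88afef3790178930069775592ba34c7e1373376253cc570000010f8774208d7dfa815dddfe0000001),
  (nat_lit 0x45d0f2e7ddc14d34d28927d74761fb223042eef831eb7f3e776ed0e1bea0e1bf75e2e223f12cc4c14b664689a3aa048657addea5b82d65997bffe3f4b2a3b58bf6fb4dfdb4c348d6a58c7c5d3bd6593f40000010e02b913ff3f2c5eddb7c00000001),
  (nat_lit 0x33086bd217ffa01ff763828f9d353b116e2e6cc05f3ed38585dc17ae478cd99db21ab6bdf0c002f569738b15115c06c7e2f22d8288902bc030062b02841c4eafc8bc48a7d8d090ded62554057657573e200000107b83225ca5946fc83ede60000001),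
  (nat_lit 0x158e92009234752ec911397621f615ace428aa37aeb4d09e8cbe573e58ea564a16315ae314fdec612143e5d88afff7ce4813c136e555c777d55de11f13d3a5ab6e18c0c063738e5b2092469dd57023656000001018462511f2b2aac83ede60000001),
  (nat_lit 0xfeb1a68c0f52a791285852d52559687e0ec225486a7c538401ee2676d13321f1ae8a145d6dc58f23988c51495f704e7e1bd8739599adf376887c1b0e1448910da59c65c856dd27fda9216a43fa0da5bf700000104e27d137b19437d8175e80000001),
  (nat_lit 0x1619d441084c7c6e93670ba67de7d41c199a6d8f46774ec35b917dd9a2e6e4c74e95552873578e1326140ac2cf266ddc4c91a11d0190b1e09657e5d21b25fbebe81d0cf926926ba959c8949e6e7877005ab87ace3b3462ce8346c86201dfaab87adf),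
  (nat_lit 0x94415d8fbe9e6663ad59ce4be0a989299e7c0e76e3067a89d56ec044e5d88afdc1c868aa7af8cb4daa7e11332b75056f9f16a43fa43521bb2849d0aa52c6789b3d2af8213b861cc1696d87395920415b9ab87adfe75c2afd262b8b8cd3d44ab87ace),
  (nat_lit 0x619e932d999b6a8ec2f75325d60c239f388c0e76e35f75d7cb9e63140eb0293529b3d4ac3bb42e9b76f3e91379f7ed3818487af9a8902bc06d0e193162014c25cec4800001009f4215f641ebb0ddb4318ab87ace6b622b70e88ad64d3da33ab87adf),
  (nat_lit 0x10ad2c5bcf1f84ae88ff4ab734689299e7225486aa06db75660fe1f7b4096c3a3680b88150fd3a6680b008b188bf83addee73ea3190b1e058ea564279cda39d7e2aea98c80ecbe64410106250310f46aab87adfeed1be801d3e7fd7641e1ab87ace),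
  (nat_lit 0xe6553e9bce1f29919d66ce3e6e2b37502b2225486ace9a5153862c64449651420f59f70020000fe8bced379c1a98104f29458f66cfa5ed31c2a6a2d8a7ab0bb4db37675c3162096acd11c42d82c172e83ab87adfbc067dbb49d749a7ed7bdab87ace),
  (nat_lit 0x605a71d737bcb7118f9b1a132e7932270b70400000249f4f0a6b863f19468240de59f6167c85f68e79cbe91379fd528b4aa6ebfb39adf37622ad58de6573ed0da5bf748ae0415965c69d4b6e1c0da59c600000100f51ce864039b553810e30000001),
  (nat_lit 0x194df7d42bf9f0f2462a66d0baf16eed57a9af1689087b25659807293c9b59829e9daa7fb8a4dc091d5b9148af1409144c7e9a6ea77d8669a958bdbafc8bc4a53681061b4af97e9867b16a43faf13d3a50000010bf35e43cf301271e85f690000001)]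
/-- The definitions of the further letters. -/
def RD : List W := [.mul (.l 13) (.mul (.l 1) (.mul (.l 3) (.mul (.l 1) (.mul (.l 4) (.mul (.l 1) (.mul (.l 3) (.mul (.l 1) (.l 4)))))))), .mul (.l 14) (.mul (.l 1) (.mul (.l 4) (.mul (.l 9) (.mul (.l 1) (.l 12))))), .mul (.l 15) (.mul (.l 3) (.mul (.l 4) (.l 3))), .mul (.l 16) (.mul (.l 1) (.mul (.l 4) (.l 1))), .mul (.l 17) (.mul (.l 2) (.mul (.l 4) (.l 2))), .mul (.l 18) (.mul (.l 2) (.mul (.l 3) (.mul (.l 4) (.mul (.l 2) (.l 3))))), .mul (.l 19) (.mul (.l 10) (.l 10)), .mul (.l 20) (.mul (.l 12) (.mul (.l 4) (.mul (.l 2) (.mul (.l 4) (.l 12)))))]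
/-- Relators for the centraliser of `z`. -/
def RH : List W := [.mul (.l 19) (.mul (.l 10) (.l 10)), .mul (.l 1) (.mul (.l 8) (.mul (.l 1) (.l 8))), .mul (.l 2) (.mul (.l 3) (.mul (.l 2) (.l 3))), .mul (.l 3) (.mul (.l 9) (.mul (.l 3) (.l 9))), .mul (.l 3) (.mul (.l 11) (.mul (.l 3) (.l 11))), .mul (.l 5) (.mul (.l 7) (.mul (.l 5) (.l 7))), .mul (.l 5) (.mul (.l 8) (.mul (.l 5) (.l 8))), .mul (.l 7) (.mul (.l 8) (.mul (.l 7) (.l 8))), .mul (.l 9) (.mul (.l 9) (.mul (.l 9) (.l 9))), .mul (.l 11) (.mul (.l 11) (.mul (.l 11) (.l 11))), .mul (.l 15) (.mul (.l 3) (.mul (.l 4) (.l 3))), .mul (.l 16) (.mul (.l 1) (.mul (.l 4) (.l 1))), .mul (.l 17) (.mul (.l 2) (.mul (.l 4) (.l 2))), .mul (.l 1) (.mul (.l 5) (.mul (.l 7) (.mul (.l 1) (.mul (.l 7) (.l 5))))), .mul (.l 2) (.mul (.l 9) (.mul (.l 2) (.mul (.l 11) (.mul (.l 10) (.l 12))))), .mul (.l 2) (.mul (.l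 9) (.mul (.l 11) (.mul (.l 2) (.mul (.l 12) (.l 10))))), .mul (.l 3) (.mul (.l 5) (.mul (.l 3) (.mul (.l 5) (.mul (.l 3) (.l 5))))), .mul (.l 4) (.mul (.l 9) (.mul (.l 9) (.mul (.l 4) (.mul (.l 10) (.l 10))))), .mul (.l 9) (.mul (.l 9) (.mul (.l 11) (.mul (.l 10) (.mul (.l 10) (.l 12))))), .mul (.l 9) (.mul (.l 11) (.mul (.l 11) (.mul (.l 10) (.mul (.l 12) (.l 12))))), .mul (.l 14) (.mul (.l 1) (.mul (.l 4) (.mul (.l 9) (.mul (.l 1) (.l 12))))), .mul (.l 18) (.mul (.l 2) (.mul (.l 3) (.mul (.l 4) (.mul (.l 2) (.l 3))))), .mul (.l 20) (.mul (.l 12) (.mul (.l 4) (.mul (.l 2) (.mul (.l 4) (.l 12))))), .mul (.l 2) (.mul (.l 5) (.mul (.l 7) (.mul (.l 8) (.mul (.l 10) (.mul (.l 2) (.l 10)))))), .mul (.l 3) (.mul (.l 5) (.mul (.l 8) (.mul (.l 3) (.mul (.l 7) (.mul (.l 3) (.l 7)))))), .mul (.l 3) (.mul (.l 8) (.mul (.l 11) (.mul (.l 7) (.mul (.l 12) (.mul (.l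 8) (.l 10)))))), .mul (.l 4) (.mul (.l 5) (.mul (.l 4) (.mul (.l 5) (.mul (.l 4) (.mul (.l 7) (.l 8)))))), .mul (.l 1) (.mul (.l 2) (.mul (.l 7) (.mul (.l 4) (.mul (.l 7) (.mul (.l 2) (.mul (.l 1) (.l 4))))))), .mul (.l 1) (.mul (.l 2) (.mul (.l 11) (.mul (.l 10) (.mul (.l 8) (.mul (.l 9) (.mul (.l 8) (.l 11))))))), .mul (.l 1) (.mul (.l 3) (.mul (.l 1) (.mul (.l 9) (.mul (.l 11) (.mul (.l 4) (.mul (.l 12) (.l 9))))))), .mul (.l 1) (.mul (.l 4) (.mul (.l 1) (.mul (.l 4) (.mul (.l 1) (.mul (.l 4) (.mul (.l 1) (.l 4))))))), .mul (.l 1) (.mul (.l 4) (.mul (.l 1) (.mul (.l 9) (.mul (.l 7) (.mul (.l 4) (.mul (.l 7) (.l 9))))))), .mul (.l 1) (.mul (.l 4) (.mul (.l 1) (.mul (.l 11) (.mul (.l 7) (.mul (.l 4) (.mul (.l 7) (.l 11))))))), .mul (.l 1) (.mul (.l 4) (.mul (.l 5) (.mul (.l 2) (.mul (.l 10) (.mul (.l 1) (.mul (.l 5) (.l 11))))))), .mul (.l 1) (.mul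 (.l 4) (.mul (.l 5) (.mul (.l 9) (.mul (.l 7) (.mul (.l 9) (.mul (.l 8) (.l 4))))))), .mul (.l 1) (.mul (.l 4) (.mul (.l 7) (.mul (.l 1) (.mul (.l 9) (.mul (.l 7) (.mul (.l 9) (.l 4))))))), .mul (.l 1) (.mul (.l 5) (.mul (.l 1) (.mul (.l 5) (.mul (.l 1) (.mul (.l 5) (.mul (.l 1) (.l 5))))))), .mul (.l 1) (.mul (.l 7) (.mul (.l 1) (.mul (.l 7) (.mul (.l 1) (.mul (.l 7) (.mul (.l 1) (.l 7))))))), .mul (.l 1) (.mul (.l 9) (.mul (.l 1) (.mul (.l 9) (.mul (.l 1) (.mul (.l 9) (.mul (.l 1) (.l 9))))))), .mul (.l 1) (.mul (.l 9) (.mul (.l 1) (.mul (.l 10) (.mul (.l 1) (.mul (.l 9) (.mul (.l 1) (.l 10))))))), .mul (.l 1) (.mul (.l 9) (.mul (.l 9) (.mul (.l 1) (.mul (.l 9) (.mul (.l 11) (.mul (.l 10) (.l 12))))))), .mul (.l 2) (.mul (.l 3) (.mul (.l 4) (.mul (.l 2) (.mul (.l 3) (.mul (.l 10) (.mul (.l 4) (.l 10))))))), .mul (.l 2) (.mul (.l 4) (.mul (.l 2) (.mul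 (.l 4) (.mul (.l 2) (.mul (.l 4) (.mul (.l 2) (.l 4))))))), .mul (.l 2) (.mul (.l 4) (.mul (.l 3) (.mul (.l 7) (.mul (.l 2) (.mul (.l 4) (.mul (.l 3) (.l 7))))))), .mul (.l 2) (.mul (.l 5) (.mul (.l 2) (.mul (.l 5) (.mul (.l 2) (.mul (.l 5) (.mul (.l 2) (.l 5))))))), .mul (.l 3) (.mul (.l 4) (.mul (.l 3) (.mul (.l 4) (.mul (.l 3) (.mul (.l 4) (.mul (.l 3) (.l 4))))))), .mul (.l 3) (.mul (.l 4) (.mul (.l 5) (.mul (.l 12) (.mul (.l 5) (.mul (.l 11) (.mul (.l 5) (.l 4))))))), .mul (.l 3) (.mul (.l 4) (.mul (.l 7) (.mul (.l 3) (.mul (.l 7) (.mul (.l 4) (.mul (.l 3) (.l 7))))))), .mul (.l 8) (.mul (.l 11) (.mul (.l 8) (.mul (.l 11) (.mul (.l 8) (.mul (.l 11) (.mul (.l 8) (.l 11))))))), .mul (.l 8) (.mul (.l 9) (.mul (.l 11) (.mul (.l 9) (.mul (.l 8) (.mul (.l 12) (.mul (.l 8) (.mul (.l 12) (.l 12)))))))), .mul (.l 13) (.mul (.l 1) (.mul (.l 3) (.mul (.l 1)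 (.mul (.l 4) (.mul (.l 1) (.mul (.l 3) (.mul (.l 1) (.l 4)))))))), .mul (.l 1) (.mul (.l 2) (.mul (.l 3) (.mul (.l 1) (.mul (.l 7) (.mul (.l 1) (.mul (.l 3) (.mul (.l 2) (.mul (.l 1) (.l 7))))))))), .mul (.l 1) (.mul (.l 2) (.mul (.l 3) (.mul (.l 7) (.mul (.l 4) (.mul (.l 1) (.mul (.l 4) (.mul (.l 3) (.mul (.l 2) (.l 7))))))))), .mul (.l 1) (.mul (.l 2) (.mul (.l 4) (.mul (.l 3) (.mul (.l 5) (.mul (.l 1) (.mul (.l 5) (.mul (.l 3) (.mul (.l 4) (.l 2))))))))), .mul (.l 1) (.mul (.l 2) (.mul (.l 4) (.mul (.l 3) (.mul (.l 7) (.mul (.l 1) (.mul (.l 7) (.mul (.l 3) (.mul (.l 4) (.l 2))))))))), .mul (.l 1) (.mul (.l 2) (.mul (.l 4) (.mul (.l 8) (.mul (.l 3) (.mul (.l 1) (.mul (.l 3) (.mul (.l 8) (.mul (.l 4) (.l 2))))))))), .mul (.l 1) (.mul (.l 2) (.mul (.l 7) (.mul (.l 1) (.mul (.l 2) (.mul (.l 7) (.mul (.l 1) (.mul (.l 2) (.mul (.l 7) (.l 4))))))))), .mul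 (.l 1) (.mul (.l 3) (.mul (.l 4) (.mul (.l 2) (.mul (.l 5) (.mul (.l 3) (.mul (.l 4) (.mul (.l 2) (.mul (.l 8) (.l 7))))))))), .mul (.l 1) (.mul (.l 8) (.mul (.l 9) (.mul (.l 8) (.mul (.l 9) (.mul (.l 1) (.mul (.l 8) (.mul (.l 10) (.mul (.l 8) (.l 10))))))))), .mul (.l 1) (.mul (.l 8) (.mul (.l 9) (.mul (.l 8) (.mul (.l 10) (.mul (.l 1) (.mul (.l 8) (.mul (.l 10) (.mul (.l 8) (.l 9))))))))), .mul (.l 1) (.mul (.l 9) (.mul (.l 11) (.mul (.l 1) (.mul (.l 12) (.mul (.l 1) (.mul (.l 11) (.mul (.l 1) (.mul (.l 9) (.l 12))))))))), .mul (.l 1) (.mul (.l 10) (.mul (.l 12) (.mul (.l 8) (.mul (.l 11) (.mul (.l 1) (.mul (.l 12) (.mul (.l 9) (.mul (.l 8) (.l 11))))))))), .mul (.l 1) (.mul (.l 8) (.mul (.l 9) (.mul (.l 8) (.mul (.l 11) (.mul (.l 10) (.mul (.l 11) (.mul (.l 1) (.mul (.l 11) (.mul (.l 1) (.l 11)))))))))), .mul (.l 1) (.mul (.l 2) (.mul (.l 1) (.mul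 (.l 3) (.mul (.l 1) (.mul (.l 3) (.mul (.l 4) (.mul (.l 2) (.mul (.l 4) (.mul (.l 3) (.mul (.l 1) (.l 3))))))))))), .mul (.l 1) (.mul (.l 9) (.mul (.l 11) (.mul (.l 11) (.mul (.l 1) (.mul (.l 11) (.mul (.l 11) (.mul (.l 1) (.mul (.l 12) (.mul (.l 12) (.mul (.l 10) (.mul (.l 1) (.mul (.l 12) (.l 12))))))))))))), .mul (.l 1) (.mul (.l 9) (.mul (.l 1) (.mul (.l 11) (.mul (.l 1) (.mul (.l 9) (.mul (.l 1) (.mul (.l 11) (.mul (.l 1) (.mul (.l 9) (.mul (.l 1) (.mul (.l 11) (.mul (.l 1) (.mul (.l 10) (.mul (.l 1) (.l 11)))))))))))))))]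
/-- Relators for the normaliser of `⟨z, v₂, v₃⟩`. -/
def RL : List W := [.mul (.l 19) (.mul (.l 10) (.l 10)), .mul (.l 2) (.mul (.l 3) (.mul (.l 2) (.l 3))), .mul (.l 2) (.mul (.l 6) (.mul (.l 2) (.l 6))), .mul (.l 3) (.mul (.l 9) (.mul (.l 3) (.l 9))), .mul (.l 3) (.mul (.l 11) (.mul (.l 3) (.l 11))), .mul (.l 9) (.mul (.l 9) (.mul (.l 9) (.l 9))), .mul (.l 11) (.mul (.l 11) (.mul (.l 11) (.l 11))), .mul (.l 15) (.mul (.l 3) (.mul (.l 4) (.l 3))), .mul (.l 16) (.mul (.l 1) (.mul (.l 4) (.l 1))), .mul (.l 17) (.mul (.l 2) (.mul (.l 4) (.l 2))), .mul (.l 2) (.mul (.l 6) (.mul (.l 10) (.mul (.l 6) (.l 9)))), .mul (.l 1) (.mul (.l 6) (.mul (.l 1) (.mul (.l 6) (.mul (.l 1) (.l 6))))), .mul (.l 2) (.mul (.l 9) (.mul (.l 2) (.mul (.l 11) (.mul (.l 10) (.l 12))))), .mul (.l 2) (.mul (.l 9) (.mul (.l 11) (.mul (.l 2) (.mul (.l 12) (.l 10))))), .mul (.l 3) (.mul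 (.l 5) (.mul (.l 3) (.mul (.l 5) (.mul (.l 3) (.l 5))))), .mul (.l 3) (.mul (.l 6) (.mul (.l 3) (.mul (.l 9) (.mul (.l 6) (.l 10))))), .mul (.l 4) (.mul (.l 9) (.mul (.l 9) (.mul (.l 4) (.mul (.l 10) (.l 10))))), .mul (.l 5) (.mul (.l 6) (.mul (.l 5) (.mul (.l 6) (.mul (.l 5) (.l 6))))), .mul (.l 6) (.mul (.l 9) (.mul (.l 11) (.mul (.l 6) (.mul (.l 12) (.l 10))))), .mul (.l 6) (.mul (.l 9) (.mul (.l 12) (.mul (.l 6) (.mul (.l 10) (.l 11))))), .mul (.l 9) (.mul (.l 9) (.mul (.l 11) (.mul (.l 10) (.mul (.l 10) (.l 12))))), .mul (.l 9) (.mul (.l 11) (.mul (.l 11) (.mul (.l 10) (.mul (.l 12) (.l 12))))), .mul (.l 14) (.mul (.l 1) (.mul (.l 4) (.mul (.l 9) (.mul (.l 1) (.l 12))))), .mul (.l 18) (.mul (.l 2) (.mul (.l 3) (.mul (.l 4) (.mul (.l 2) (.l 3))))), .mul (.l 20) (.mul (.l 12) (.mul (.l 4) (.mul (.l 2) (.mul (.l 4) (.l 12))))), .mul (.l 1) (.mul (.l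 3) (.mul (.l 1) (.mul (.l 9) (.mul (.l 11) (.mul (.l 4) (.mul (.l 12) (.l 9))))))), .mul (.l 1) (.mul (.l 4) (.mul (.l 1) (.mul (.l 4) (.mul (.l 1) (.mul (.l 4) (.mul (.l 1) (.l 4))))))), .mul (.l 1) (.mul (.l 4) (.mul (.l 5) (.mul (.l 2) (.mul (.l 10) (.mul (.l 1) (.mul (.l 5) (.l 11))))))), .mul (.l 1) (.mul (.l 5) (.mul (.l 1) (.mul (.l 5) (.mul (.l 1) (.mul (.l 5) (.mul (.l 1) (.l 5))))))), .mul (.l 1) (.mul (.l 9) (.mul (.l 1) (.mul (.l 9) (.mul (.l 1) (.mul (.l 9) (.mul (.l 1) (.l 9))))))), .mul (.l 1) (.mul (.l 9) (.mul (.l 1) (.mul (.l 10) (.mul (.l 1) (.mul (.l 9) (.mul (.l 1) (.l 10))))))), .mul (.l 1) (.mul (.l 9) (.mul (.l 9) (.mul (.l 1) (.mul (.l 9) (.mul (.l 11) (.mul (.l 10) (.l 12))))))), .mul (.l 2) (.mul (.l 3) (.mul (.l 4) (.mul (.l 2) (.mul (.l 3) (.mul (.l 10) (.mul (.l 4) (.l 10))))))), .mul (.l 2) (.mul (.l 4) (.mul (.l 2) (.mul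 (.l 4) (.mul (.l 2) (.mul (.l 4) (.mul (.l 2) (.l 4))))))), .mul (.l 2) (.mul (.l 5) (.mul (.l 2) (.mul (.l 5) (.mul (.l 2) (.mul (.l 5) (.mul (.l 2) (.l 5))))))), .mul (.l 3) (.mul (.l 4) (.mul (.l 3) (.mul (.l 4) (.mul (.l 3) (.mul (.l 4) (.mul (.l 3) (.l 4))))))), .mul (.l 3) (.mul (.l 4) (.mul (.l 5) (.mul (.l 12) (.mul (.l 5) (.mul (.l 11) (.mul (.l 5) (.l 4))))))), .mul (.l 3) (.mul (.l 4) (.mul (.l 6) (.mul (.l 11) (.mul (.l 11) (.mul (.l 4) (.mul (.l 6) (.l 9))))))), .mul (.l 3) (.mul (.l 6) (.mul (.l 3) (.mul (.l 6) (.mul (.l 3) (.mul (.l 6) (.mul (.l 3) (.l 6))))))), .mul (.l 4) (.mul (.l 6) (.mul (.l 4) (.mul (.l 6) (.mul (.l 4) (.mul (.l 6) (.mul (.l 4) (.l 6))))))), .mul (.l 6) (.mul (.l 9) (.mul (.l 6) (.mul (.l 9) (.mul (.l 6) (.mul (.l 9) (.mul (.l 6) (.l 9))))))), .mul (.l 1) (.mul (.l 4) (.mul (.l 6) (.mul (.l 1) (.mul (.l 4) (.mul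 (.l 6) (.mul (.l 1) (.mul (.l 4) (.l 6)))))))), .mul (.l 1) (.mul (.l 6) (.mul (.l 12) (.mul (.l 1) (.mul (.l 6) (.mul (.l 12) (.mul (.l 1) (.mul (.l 6) (.l 12)))))))), .mul (.l 13) (.mul (.l 1) (.mul (.l 3) (.mul (.l 1) (.mul (.l 4) (.mul (.l 1) (.mul (.l 3) (.mul (.l 1) (.l 4)))))))), .mul (.l 1) (.mul (.l 2) (.mul (.l 4) (.mul (.l 3) (.mul (.l 5) (.mul (.l 1) (.mul (.l 5) (.mul (.l 3) (.mul (.l 4) (.l 2))))))))), .mul (.l 1) (.mul (.l 2) (.mul (.l 6) (.mul (.l 1) (.mul (.l 4) (.mul (.l 1) (.mul (.l 6) (.mul (.l 2) (.mul (.l 1) (.l 4))))))))), .mul (.l 1) (.mul (.l 2) (.mul (.l 6) (.mul (.l 3) (.mul (.l 4) (.mul (.l 6) (.mul (.l 4) (.mul (.l 3) (.mul (.l 1) (.l 4))))))))), .mul (.l 1) (.mul (.l 3) (.mul (.l 4) (.mul (.l 2) (.mul (.l 5) (.mul (.l 1) (.mul (.l 5) (.mul (.l 2) (.mul (.l 4) (.l 3))))))))), .mul (.l 1) (.mul (.l 9) (.mul (.l 11) (.mul (.l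 1) (.mul (.l 12) (.mul (.l 1) (.mul (.l 11) (.mul (.l 1) (.mul (.l 9) (.l 12))))))))), .mul (.l 2) (.mul (.l 4) (.mul (.l 3) (.mul (.l 6) (.mul (.l 4) (.mul (.l 2) (.mul (.l 4) (.mul (.l 6) (.mul (.l 3) (.l 4))))))))), .mul (.l 1) (.mul (.l 2) (.mul (.l 1) (.mul (.l 4) (.mul (.l 1) (.mul (.l 3) (.mul (.l 6) (.mul (.l 3) (.mul (.l 6) (.mul (.l 1) (.l 4)))))))))), .mul (.l 1) (.mul (.l 2) (.mul (.l 1) (.mul (.l 6) (.mul (.l 3) (.mul (.l 1) (.mul (.l 5) (.mul (.l 1) (.mul (.l 5) (.mul (.l 3) (.l 6)))))))))), .mul (.l 1) (.mul (.l 2) (.mul (.l 6) (.mul (.l 4) (.mul (.l 2) (.mul (.l 6) (.mul (.l 4) (.mul (.l 1) (.mul (.l 3) (.mul (.l 4) (.l 3)))))))))), .mul (.l 1) (.mul (.l 3) (.mul (.l 4) (.mul (.l 5) (.mul (.l 2) (.mul (.l 4) (.mul (.l 5) (.mul (.l 1) (.mul (.l 3) (.mul (.l 5) (.l 4)))))))))), .mul (.l 1) (.mul (.l 4) (.mul (.l 1) (.mul (.l 4) (.mul (.l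 6) (.mul (.l 5) (.mul (.l 4) (.mul (.l 5) (.mul (.l 4) (.mul (.l 5) (.l 6)))))))))), .mul (.l 1) (.mul (.l 4) (.mul (.l 5) (.mul (.l 1) (.mul (.l 4) (.mul (.l 5) (.mul (.l 1) (.mul (.l 5) (.mul (.l 4) (.mul (.l 5) (.l 4)))))))))), .mul (.l 1) (.mul (.l 6) (.mul (.l 9) (.mul (.l 1) (.mul (.l 11) (.mul (.l 1) (.mul (.l 12) (.mul (.l 6) (.mul (.l 1) (.mul (.l 11) (.l 10)))))))))), .mul (.l 1) (.mul (.l 2) (.mul (.l 1) (.mul (.l 2) (.mul (.l 4) (.mul (.l 3) (.mul (.l 4) (.mul (.l 2) (.mul (.l 1) (.mul (.l 2) (.mul (.l 1) (.l 3))))))))))), .mul (.l 1) (.mul (.l 2) (.mul (.l 3) (.mul (.l 1) (.mul (.l 2) (.mul (.l 3) (.mul (.l 1) (.mul (.l 3) (.mul (.l 2) (.mul (.l 1) (.mul (.l 3) (.l 2))))))))))), .mul (.l 1) (.mul (.l 2) (.mul (.l 1) (.mul (.l 2) (.mul (.l 6) (.mul (.l 1) (.mul (.l 2) (.mul (.l 3) (.mul (.l 4) (.mul (.l 1) (.mul (.l 4) (.mul (.l 3) (.l 6)))))))))))),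 .mul (.l 1) (.mul (.l 9) (.mul (.l 11) (.mul (.l 11) (.mul (.l 1) (.mul (.l 11) (.mul (.l 11) (.mul (.l 1) (.mul (.l 12) (.mul (.l 12) (.mul (.l 10) (.mul (.l 1) (.mul (.l 12) (.l 12))))))))))))), .mul (.l 1) (.mul (.l 9) (.mul (.l 1) (.mul (.l 11) (.mul (.l 1) (.mul (.l 9) (.mul (.l 1) (.mul (.l 11) (.mul (.l 1) (.mul (.l 9) (.mul (.l 1) (.mul (.l 11) (.mul (.l 1) (.mul (.l 10) (.mul (.l 1) (.l 11)))))))))))))))]
/-- Relators for `2⁶·G₂(2)`. -/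
def RM : List W := [.mul (.l 2) (.mul (.l 3) (.mul (.l 2) (.l 3))), .mul (.l 2) (.mul (.l 6) (.mul (.l 2) (.l 6))), .mul (.l 1) (.mul (.l 6) (.mul (.l 1) (.mul (.l 6) (.mul (.l 1) (.l 6))))), .mul (.l 1) (.mul (.l 2) (.mul (.l 7) (.mul (.l 4) (.mul (.l 7) (.mul (.l 2) (.mul (.l 1) (.l 4))))))), .mul (.l 1) (.mul (.l 4) (.mul (.l 1) (.mul (.l 4) (.mul (.l 1) (.mul (.l 4) (.mul (.l 1) (.l 4))))))), .mul (.l 1) (.mul (.l 4) (.mul (.l 1) (.mul (.l 6) (.mul (.l 7) (.mul (.l 4) (.mul (.l 7) (.l 6))))))), .mul (.l 2) (.mul (.l 4) (.mul (.l 2) (.mul (.l 4) (.mul (.l 2) (.mul (.l 4) (.mul (.l 2) (.l 4))))))), .mul (.l 2) (.mul (.l 4) (.mul (.l 3) (.mul (.l 7) (.mul (.l 2) (.mul (.l 4) (.mul (.l 3) (.l 7))))))), .mul (.l 3) (.mul (.l 4) (.mul (.l 3) (.mul (.l 4) (.mul (.l 3) (.mul (.l 4) (.mul (.l 3) (.l 4))))))), .mul (.l 3) (.mul (.l 4) (.mul (.l 7) (.mul (.l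 3) (.mul (.l 7) (.mul (.l 4) (.mul (.l 3) (.l 7))))))), .mul (.l 3) (.mul (.l 6) (.mul (.l 3) (.mul (.l 6) (.mul (.l 3) (.mul (.l 6) (.mul (.l 3) (.l 6))))))), .mul (.l 4) (.mul (.l 6) (.mul (.l 4) (.mul (.l 6) (.mul (.l 4) (.mul (.l 6) (.mul (.l 4) (.l 6))))))), .mul (.l 3) (.mul (.l 6) (.mul (.l 7) (.mul (.l 6) (.mul (.l 3) (.mul (.l 6) (.mul (.l 7) (.l 6))))))), .mul (.l 4) (.mul (.l 6) (.mul (.l 7) (.mul (.l 6) (.mul (.l 4) (.mul (.l 6) (.mul (.l 7) (.l 6))))))), .mul (.l 1) (.mul (.l 7) (.mul (.l 1) (.mul (.l 7) (.mul (.l 1) (.mul (.l 7) (.mul (.l 1) (.l 7))))))), .mul (.l 1) (.mul (.l 4) (.mul (.l 6) (.mul (.l 1) (.mul (.l 4) (.mul (.l 6) (.mul (.l 1) (.mul (.l 4) (.l 6)))))))), .mul (.l 3) (.mul (.l 4) (.mul (.l 6) (.mul (.l 4) (.mul (.l 6) (.mul (.l 3) (.mul (.l 7) (.mul (.l 4) (.l 7)))))))), .mul (.l 1) (.mul (.l 2) (.mul (.l 3) (.mul (.l 1)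 (.mul (.l 7) (.mul (.l 1) (.mul (.l 3) (.mul (.l 2) (.mul (.l 1) (.l 7))))))))), .mul (.l 1) (.mul (.l 2) (.mul (.l 3) (.mul (.l 7) (.mul (.l 4) (.mul (.l 1) (.mul (.l 4) (.mul (.l 3) (.mul (.l 2) (.l 7))))))))), .mul (.l 1) (.mul (.l 2) (.mul (.l 4) (.mul (.l 3) (.mul (.l 7) (.mul (.l 1) (.mul (.l 7) (.mul (.l 3) (.mul (.l 4) (.l 2))))))))), .mul (.l 1) (.mul (.l 2) (.mul (.l 6) (.mul (.l 3) (.mul (.l 4) (.mul (.l 6) (.mul (.l 4) (.mul (.l 3) (.mul (.l 1) (.l 4))))))))), .mul (.l 1) (.mul (.l 2) (.mul (.l 7) (.mul (.l 1) (.mul (.l 2) (.mul (.l 7) (.mul (.l 1) (.mul (.l 2) (.mul (.l 7) (.l 4))))))))), .mul (.l 1) (.mul (.l 2) (.mul (.l 1) (.mul (.l 6) (.mul (.l 3) (.mul (.l 1) (.mul (.l 7) (.mul (.l 1) (.mul (.l 7) (.mul (.l 3) (.l 6)))))))))), .mul (.l 6) (.mul (.l 7) (.mul (.l 6) (.mul (.l 7) (.mul (.l 6) (.mul (.l 7) (.mul (.l 6) (.mul (.l 7) (.mul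 (.l 6) (.mul (.l 7) (.mul (.l 6) (.mul (.l 7) (.mul (.l 6) (.l 7))))))))))))), .mul (.l 1) (.mul (.l 2) (.mul (.l 6) (.mul (.l 7) (.mul (.l 4) (.mul (.l 6) (.mul (.l 7) (.mul (.l 1) (.mul (.l 6) (.mul (.l 7) (.mul (.l 6) (.mul (.l 7) (.mul (.l 6) (.mul (.l 3) (.mul (.l 7) (.mul (.l 3) (.mul (.l 6) (.l 7)))))))))))))))))]
/-- A conjugate of `(u s)⁸`. -/
def wO : W := .mul (.l 5) (.mul (.l 6) (.mul (.l 1) (.mul (.l 7) (.mul (.l 6) (.mul (.l 7) (.mul (.l 8) (.mul (.l 6) (.mul (.l 8) (.mul (.l 6) (.mul (.l 8) (.mul (.l 6) (.mul (.l 8) (.mul (.l 6) (.mul (.l 8) (.mul (.l 6) (.mul (.l 8) (.mul (.l 6) (.mul (.l 8) (.mul (.l 6) (.mul (.l 8) (.mul (.l 6) (.mul (.l 7) (.mul (.l 6) (.mul (.l 7) (.mul (.l 1) (.mul (.l 6) (.l 5)))))))))))))))))))))))))))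
/-- `(s t)⁷` -/
def w7 : W := .pow (.mul (.l 6) (.l 7)) 7
/-- How the further letters are written. -/
def hints : List (W × W × W) := [(.l 10, .inv (.l 9), .l 0), (.l 12, .inv (.l 11), .l 0), (.l 13, .mul (.mul (.mul (.mul (.mul (.mul (.mul (.l 4) (.l 1)) (.l 3)) (.l 1)) (.l 4)) (.l 1)) (.l 3)) (.l 1), .mul (.l 13) (.mul (.l 1) (.mul (.l 3) (.mul (.l 1) (.mul (.l 4) (.mul (.l 1) (.mul (.l 3) (.mul (.l 1) (.l 4))))))))), (.l 14, .mul (.mul (.mul (.mul (.l 11) (.l 1)) (.inv (.l 9))) (.l 4)) (.l 1), .mul (.l 14) (.mul (.l 1) (.mul (.l 4) (.mul (.l 9) (.mul (.l 1) (.l 12)))))), (.l 15, .mul (.mul (.l 3) (.l 4)) (.l 3), .mul (.l 15) (.mul (.l 3) (.mul (.l 4) (.l 3)))), (.l 16, .mul (.mul (.l 1) (.l 4)) (.l 1), .mul (.l 16) (.mul (.l 1) (.mul (.l 4) (.l 1)))), (.l 17, .mul (.mul (.l 2) (.l 4)) (.l 2), .mul (.l 17) (.mul (.l 2) (.mul (.l 4) (.l 2)))), (.l 18,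 .mul (.mul (.mul (.mul (.l 3) (.l 2)) (.l 4)) (.l 3)) (.l 2), .mul (.l 18) (.mul (.l 2) (.mul (.l 3) (.mul (.l 4) (.mul (.l 2) (.l 3)))))), (.l 19, .mul (.l 9) (.l 9), .mul (.l 19) (.mul (.l 10) (.l 10))), (.l 20, .mul (.mul (.mul (.mul (.l 11) (.l 4)) (.l 2)) (.l 4)) (.l 11), .mul (.l 20) (.mul (.l 12) (.mul (.l 4) (.mul (.l 2) (.mul (.l 4) (.l 12))))))]
/-- Letters of the centraliser of `z`. -/
def mH : List W := [.l 0, .l 1, .l 2, .l 3, .l 4, .l 5, .l 0, .l 7, .l 8, .l 9, .l 10, .l 11, .l 12, .l 13, .l 14, .l 15, .l 16, .l 17, .l 18, .l 19, .l 20]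
/-- Letters of the normaliser of `⟨z, v₂, v₃⟩`. -/
def mL : List W := [.l 0, .l 1, .l 2, .l 3, .l 4, .l 5, .l 6, .l 0, .l 0, .l 9, .l 10, .l 11, .l 12, .l 13, .l 14, .l 15, .l 16, .l 17, .l 18, .l 19, .l 20]
/-- Letters of `2⁶·G₂(2)`. -/
def mM : List W := [.l 0, .l 1, .l 2, .l 3, .l 4, .l 0, .l 6, .l 7, .l 0, .l 0, .l 0, .l 0, .l 0, .l 13, .l 0, .l 15, .l 16, .l 17, .l 18]
/-- Letters of `2⁶`. -/
def mE : List W := [.l 0, .l 0, .l 0, .l 0, .l 4, .l 0, .l 0, .l 0, .l 0, .l 0, .l 0, .l 0, .l 0, .l 13, .l 0, .l 15, .l 16, .l 17, .l 18]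
/-- All letters. -/
def mG : List W := [.l 0, .l 1, .l 2, .l 3, .l 4, .l 5, .l 6, .l 7, .l 8, .l 9, .l 10, .l 11, .l 12, .l 13, .l 14, .l 15, .l 16, .l 17, .l 18, .l 19, .l 20]
/-- Generators of the centraliser of `z`. -/
def hs : List W := [.l 1, .l 2, .l 3, .l 4, .l 5, .l 7, .l 8, .l 9, .l 11]
/-- Generators of the normaliser of `⟨z, v₂, v₃⟩`. -/
def ls : List W := [.l 1, .l 2, .l 3, .l 4, .l 5, .l 6, .l 9, .l 11]
/-- Generators of `2⁶·G₂(2)`. -/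
def ms : List W := [.l 1, .l 2, .l 3, .l 4, .l 6, .l 7]
/-- Generators of the group. -/
def gs : List W := [.l 1, .l 2, .l 3, .l 4, .l 5, .l 6, .l 7, .l 8, .l 9, .l 11]
theorem cS_inv : eR.invOK cS iS = true := by decide +kernel
theorem gc_eq : leq (labs.map fun t => eR.ev cS iS t false) gc = true := by decide +kernel
theorem gc_inv : eR.invOK gc gi = true := by decide +kernel
theorem lab_ok : eR.relsOK (labRels labs iv) cS iS = true := by decide +kernel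
theorem rel_ok : eR.relsOK (wO :: w7 :: (RH ++ (RL ++ RM))) gc gi = true := by decide +kernel

set_option maxHeartbeats 200000

theorem repS : ∀ C ∈ Ru.sL, RR (valR RR C) C := fun C h => lawR.valR' ((Ru.model.good_s C h).imp fun _ h => h.2)

theorem valS : Eng.Val RR gsS cS iS :=
  have a := repS (Ru.sL.getD 0 0) (by decide +kernel)
  have b := repS (Ru.sL.getD 1 0) (by decide +kernel)
  Eng.Val.of_forall₂ lawR (.cons lawR.one (.cons a (.cons (lawR.inv a (by decide +kernel))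
    (.cons b (.cons (lawR.inv b (by decide +kernel)) .nil))))) cS_inv

/-- The letters. -/
noncomputable def gL : List Spor.Ru := labs.map (W.ev (lets gsS))
/-- The letters. -/
noncomputable def gR : ℕ → Spor.Ru := lets gL

theorem valR' : Eng.Val RR gL gc gi := Eng.Val.of_forall₂ lawR (valS.words lawR gc_eq) gc_inv
theorem labR : Lab gR iv := by
  rw [gR, gL, lets_map rfl]; exact Lab.newLet rfl (by decide +kernel) (valS.rels lawR lab_ok)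
theorem relR : ∀ t ∈ wO :: w7 :: (RH ++ (RL ++ RM)), t.ev gR = 1 := valR'.rels lawR rel_ok
theorem repR (t : W) : RR (t.ev gR) (eR.ev gc gi t false) := valR'.ev lawR t

theorem topR : genW gR gs = ⊤ := by
  rw [eq_top_iff, ← Ru.model.genL_eq, F2.genL, Ru.model.ker, closure_le]
  rintro g (⟨C, hC, h⟩ | h)
  · obtain ⟨t, a, b⟩ := List.any_eq_true.1 (List.all_eq_true.1 (by decide +kernel : Ru.sL.all (fun C =>
      [wd [12, 2, 1, 7, 6, 7, 6, 12, 2, 1, 6, 7, 12, 2, 1, 7, 6, 7, 6, 1, 2, 11, 6, 7, 6, 7, 1, 2, 11, 7, 6, 7, 6, 12, 2, 1, 6, 7, 12, 2, 1, 7, 6, 7, 6, 7, 6, 1, 2, 11, 1, 2, 11], wd [7, 6, 12, 2, 1, 7, 6, 7, 6, 12, 2, 1, 6, 7, 6, 7, 1, 2, 11, 7, 6, 7, 6, 1, 2, 11, 6, 7, 1, 2, 11, 7, 6, 1, 2, 11, 7, 6, 7, 6, 12, 2, 1, 6, 7, 6, 7, 12, 2, 1, 7, 6, 12, 2, 1, 6, 7]].any fun t =>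
        band ((t.subst (mG.map fun s => ((hints.find? fun h => h.1.beq s).map fun h => h.2.1).getD s)).overW gs)
          (Nat.beq (eR.ev gc gi (t.subst (mG.map fun s => ((hints.find? fun h => h.1.beq s).map fun h => h.2.1).getD s)) false) C)) = true) C hC)
    rw [band_eq_true, beq_iff] at b
    rw [lawR.uniq (g := g) h (b.2 ▸ repR _)]
    exact W.ev_mem_of_overW labR.zero (fun _ => mem_genW _) b.1
  · rw [mem_bot.1 h]; exact one_mem _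

theorem rne {s t : W} (e : Nat.beq (eR.mul (eR.ev gc gi s false) eR.one) (eR.mul (eR.ev gc gi t false) eR.one) = false) :
    s.ev gR ≠ t.ev gR := valR'.ne lawR canR e

variable {G : Type*} [Group G] {γ : ℕ → G} {x y : G} {s t : W}

theorem req (q : QuoW gR γ) [Rf γ x s] [Rf γ y t] (e : eR.weq gc gi s t = true) : x = y := valR'.req lawR q e

theorem reqM {m : List W} (q : QuoW (newLet gR m) (newLet γ m)) [Rf γ x s] [Rf γ y t]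
    (e : band (band (fixW m s) (fixW m t)) (eR.weq gc gi s t) = true) : x = y := valR'.reqM lawR q e

theorem rep_vec {P : PM} {m : List W} {Y : ℕ} (h1 : m.length ≤ 21) (h2 : P.E.length ≤ 20) (h0 : labW m 0 = .l 0)
    (hY : eR.vecsOK P.n Y = true)
    (e : allLt (20 + 1) (fun c => forceB (eR.ev gc gi (labW m c) false) fun C => eR.vecB P.n P.w Y C (P.env c)) = true) (c : ℕ) :
    Calc.Rep P.n P.w (eR.vpt Ru.cv Y) (newLet gR m c) (P.env c) := by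
  have := forall_of_allLt e (fun c hc => by rw [labW_of_lt h1 hc, h0, PM.env_of_lt (P := P) (by omega)]) c
  rw [forceB_eq] at this
  exact actR.rep_vpt hY (repR (labW m c)) this

theorem quo_vec {P : PM} [NeZero P.n] (h : P.Pr) {m : List W} {Y : ℕ} (h1 : m.length ≤ 21) (h2 : P.E.length ≤ 20)
    (h0 : labW m 0 = .l 0) (hY : eR.vecsOK P.n Y = true)
    (e : allLt (20 + 1) (fun c => forceB (eR.ev gc gi (labW m c) false) fun C => eR.vecB P.n P.w Y C (P.env c)) = true) :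
    QuoW (newLet gR m) P.gam :=
  quoW_of_rep (actR.inj_vpt hY) (inj_finPt _) (faithful_finPt _) h.hw (rep_vec h1 h2 h0 hY e) h.rep

attribute [irreducible] gR

end Cfsg.Lib.Big.RU
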