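import Cfsg.Agent.Lib.Calc.RUD3
import Cfsg.Agent.Lib.Calc.CjT

/-!
# Facts about the centraliser of a central involution of the Rudvalis group
-/

set_option autoImplicit false
set_option maxRecDepth 1000000
set_option maxHeartbeats 0
set_option Elab.async false

namespace Cfsg.Lib.Big.RU

open Cfsg.Lib.Calc Cfsg.Lib.T2 Subgroup

/-- decision tree -/
def clT_0 : CT := .node (.l 14) (.node (.l 1) (.cons (.l 19) (.l 0) (.cons (.l 19) (.l 5) (.cons (.l 19) (.mul (.l 3) (.l 5)) (.nil))))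
  (.node (.l 3) (.cons (.mul (.l 2) (.l 9)) (.mul (.l 11) (.l 4)) (.cons (.mul (.l 2) (.l 9)) (.mul (.l 12) (.l 4)) (.nil)))
  (.cons (.mul (.l 2) (.l 9)) (.l 4) (.cons (.mul (.l 2) (.l 9)) (.l 17) (.cons (.mul (.l 2) (.l 9)) (.mul (.l 4) (.l 5)) (.cons (.mul (.l 2) (.l 9)) (.mul (.l 17) (.l 5)) (.cons (.mul (.l 2) (.l 9)) (.mul (.mul (.l 5) (.l 3)) (.l 1)) (.cons (.mul (.l 2) (.l 9)) (.mul (.mul (.l 5) (.l 12)) (.l 1)) (.cons (.mul (.l 2) (.l 9)) (.mul (.mul (.l 5) (.l 16)) (.l 1)) (.cons (.mul (.l 2) (.l 9)) (.mul (.mul (.l 4) (.l 5)) (.l 2)) (.cons (.mul (.l 2) (.l 9)) (.mul (.mul (.l 17) (.l 5)) (.l 2)) (.cons (.mul (.l 2) (.l 9)) (.mul (.mul (.l 12) (.l 4)) (.l 5)) (.nil)))))))))))))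
  (.node (.l 3) (.node (.l 11) (.cons (.l 2) (.mul (.l 14) (.l 4)) (.cons (.l 2) (.mul (.l 15) (.l 14)) (.nil)))
  (.node (.l 7) (.cons (.l 4) (.mul (.mul (.l 5) (.l 9)) (.l 8)) (.nil))
  (.cons (.l 4) (.mul (.l 14) (.l 1)) (.cons (.l 4) (.mul (.l 14) (.l 7)) (.cons (.l 4) (.mul (.l 1) (.l 12)) (.cons (.l 4) (.mul (.mul (.l 1) (.l 11)) (.l 2)) (.cons (.l 4) (.mul (.mul (.l 5) (.l 10)) (.l 8)) (.nil))))))))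
  (.node (.l 4) (.cons (.l 4) (.mul (.l 1) (.l 9)) (.cons (.l 4) (.mul (.l 7) (.l 9)) (.nil)))
  (.node (.mul (.l 3) (.l 11)) (.cons (.l 2) (.l 4) (.cons (.l 2) (.l 15) (.nil)))
  (.cons (.l 14) (.mul (.mul (.l 4) (.l 5)) (.l 1)) (.cons (.l 14) (.mul (.mul (.l 15) (.l 5)) (.l 1)) (.cons (.l 14) (.mul (.mul (.l 17) (.l 5)) (.l 1)) (.cons (.l 14) (.mul (.mul (.l 18) (.l 5)) (.l 1)) (.cons (.l 14) (.mul (.mul (.l 5) (.l 4)) (.l 3)) (.cons (.l 14) (.mul (.mul (.l 5) (.l 15)) (.l 3)) (.cons (.l 14) (.mul (.mul (.l 5) (.l 17)) (.l 3)) (.cons (.l 14) (.mul (.mul (.l 5) (.l 18)) (.l 3)) (.nil))))))))))))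
/-- decision tree -/
def clT_1 : CT := .node (.mul (.l 2) (.l 5)) (.cons (.l 2) (.mul (.mul (.l 4) (.l 5)) (.l 1)) (.cons (.l 2) (.mul (.mul (.l 17) (.l 5)) (.l 1)) (.nil)))
  (.cons (.l 14) (.l 4) (.cons (.l 14) (.l 5) (.cons (.l 14) (.l 15) (.cons (.l 14) (.l 17) (.cons (.l 14) (.l 18) (.cons (.l 14) (.mul (.l 5) (.l 2)) (.cons (.l 14) (.mul (.l 4) (.l 3)) (.cons (.l 14) (.mul (.l 15) (.l 3)) (.cons (.l 14) (.mul (.l 17) (.l 3)) (.cons (.l 14) (.mul (.l 18) (.l 3)) (.cons (.l 14) (.mul (.l 2) (.l 5)) (.cons (.l 14) (.mul (.l 3) (.l 5)) (.cons (.l 14) (.mul (.l 11) (.l 5)) (.cons (.l 14) (.mul (.mul (.l 2) (.l 5)) (.l 2)) (.cons (.l 14) (.mul (.mul (.l 3) (.l 2)) (.l 5)) (.cons (.l 14) (.mul (.mul (.l 11) (.l 2)) (.l 5)) (.cons (.mul (.l 2) (.l 9)) (.mul (.l 3) (.l 5)) (.cons (.mul (.l 2) (.l 9)) (.mul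 (.l 11) (.l 5)) (.cons (.mul (.mul (.mul (.mul (.mul (.l 12) (.l 1)) (.l 12)) (.l 4)) (.l 3)) (.l 1)) (.l 2) (.cons (.mul (.mul (.mul (.mul (.mul (.l 12) (.l 1)) (.l 12)) (.l 4)) (.l 3)) (.l 1)) (.l 3) (.cons (.mul (.mul (.mul (.mul (.mul (.l 12) (.l 1)) (.l 12)) (.l 4)) (.l 3)) (.l 1)) (.l 14) (.cons (.mul (.mul (.mul (.mul (.mul (.l 12) (.l 1)) (.l 12)) (.l 4)) (.l 3)) (.l 1)) (.mul (.l 11) (.l 2)) (.nil)))))))))))))))))))))))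
/-- decision tree -/
def clT_2 : CT := .node (.mul (.l 1) (.l 8)) (.cons (.mul (.mul (.mul (.mul (.mul (.l 12) (.l 1)) (.l 12)) (.l 4)) (.l 3)) (.l 1)) (.mul (.l 3) (.l 2)) (.cons (.mul (.mul (.mul (.mul (.mul (.l 12) (.l 1)) (.l 12)) (.l 4)) (.l 3)) (.l 1)) (.mul (.l 14) (.l 2)) (.nil)))
  (clT_1)
/-- decision tree -/
def clT_3 : CT := .node (.l 8) (.cons (.mul (.mul (.mul (.mul (.mul (.l 12) (.l 1)) (.l 12)) (.l 4)) (.l 3)) (.l 1)) (.l 0) (.cons (.mul (.mul (.mul (.mul (.mul (.l 12) (.l 1)) (.l 12)) (.l 4)) (.l 3)) (.l 1)) (.l 11) (.nil)))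
  (clT_2)
/-- decision tree -/
def clT_4 : CT := .node (.l 3) (.cons (.l 4) (.mul (.l 1) (.l 11)) (.cons (.l 4) (.mul (.mul (.l 1) (.l 12)) (.l 2)) (.nil)))
  (clT_3)
/-- decision tree -/
def clT_5 : CT := .node (.mul (.l 2) (.l 3)) (.node (.l 11) (.cons (.mul (.l 2) (.l 9)) (.l 0) (.cons (.mul (.l 2) (.l 9)) (.l 2) (.nil)))
  (.cons (.l 1) (.mul (.mul (.l 8) (.l 1)) (.l 11)) (.cons (.l 1) (.mul (.mul (.mul (.l 12) (.l 8)) (.l 12)) (.l 2)) (.nil))))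
  (clT_4)
/-- decision tree -/
def clT_6 : CT := .node (.l 5) (.cons (.l 2) (.mul (.mul (.l 15) (.l 5)) (.l 1)) (.cons (.l 2) (.mul (.mul (.l 18) (.l 5)) (.l 1)) (.cons (.mul (.l 2) (.l 9)) (.mul (.mul (.l 3) (.l 2)) (.l 5)) (.cons (.mul (.l 2) (.l 9)) (.mul (.mul (.l 11) (.l 2)) (.l 5)) (.nil)))))
  (clT_5)
/-- decision tree -/
def clT_7 : CT := .node (.l 16) (.node (.l 3) (.node (.l 4) (.cons (.l 1) (.mul (.mul (.l 8) (.l 12)) (.l 2)) (.cons (.l 1) (.mul (.mul (.l 8) (.l 14)) (.l 4)) (.nil)))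
  (.cons (.mul (.l 2) (.l 9)) (.l 14) (.cons (.mul (.l 2) (.l 9)) (.mul (.l 14) (.l 2)) (.nil))))
  (.node (.l 4) (.cons (.l 4) (.mul (.l 1) (.l 3)) (.cons (.l 4) (.mul (.mul (.l 1) (.l 9)) (.l 2)) (.nil)))
  (.cons (.l 4) (.mul (.mul (.l 4) (.l 11)) (.l 1)) (.cons (.l 4) (.mul (.mul (.l 15) (.l 11)) (.l 1)) (.cons (.l 4) (.mul (.mul (.l 11) (.l 1)) (.l 11)) (.cons (.l 4) (.mul (.mul (.l 12) (.l 1)) (.l 11)) (.nil)))))))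
  (clT_6)
/-- decision tree -/
def clT_8 : CT := .node (.mul (.l 3) (.l 12)) (.node (.l 1) (.node (.l 5) (.cons (.l 1) (.mul (.mul (.l 15) (.l 7)) (.l 11)) (.cons (.l 1) (.mul (.mul (.mul (.l 12) (.l 7)) (.l 12)) (.l 2)) (.nil)))
  (.cons (.l 1) (.mul (.mul (.l 7) (.l 14)) (.l 2)) (.cons (.l 1) (.mul (.mul (.l 8) (.l 14)) (.l 2)) (.nil))))
  (.cons (.l 14) (.mul (.mul (.l 5) (.l 4)) (.l 1)) (.cons (.l 14) (.mul (.mul (.l 5) (.l 15)) (.l 1)) (.cons (.l 14) (.mul (.mul (.l 5) (.l 17)) (.l 1)) (.cons (.l 14) (.mul (.mul (.l 5) (.l 18)) (.l 1)) (.cons (.mul (.l 2) (.l 9)) (.mul (.l 5) (.l 4)) (.cons (.mul (.l 2) (.l 9)) (.mul (.l 5) (.l 17)) (.cons (.mul (.l 2) (.l 9)) (.mul (.mul (.l 14) (.l 5)) (.l 4)) (.cons (.mul (.l 2) (.l 9)) (.mul (.mul (.l 5) (.l 12)) (.l 4)) (.nil))))))))))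
  (clT_7)
/-- decision tree -/
def clT_9 : CT := .node (.l 14) (.cons (.l 1) (.mul (.mul (.l 7) (.l 4)) (.l 11)) (.cons (.l 1) (.mul (.mul (.l 8) (.l 4)) (.l 11)) (.nil)))
  (.cons (.l 1) (.l 4) (.cons (.l 1) (.l 15) (.cons (.l 1) (.mul (.l 3) (.l 2)) (.cons (.l 1) (.mul (.l 14) (.l 2)) (.cons (.l 1) (.mul (.l 7) (.l 4)) (.cons (.l 1) (.mul (.l 12) (.l 4)) (.cons (.l 1) (.mul (.l 4) (.l 11)) (.cons (.l 1) (.mul (.mul (.l 3) (.l 8)) (.l 2)) (.cons (.mul (.mul (.l 1) (.l 9)) (.l 9)) (.l 5) (.cons (.mul (.mul (.l 1) (.l 9)) (.l 9)) (.l 8) (.cons (.mul (.mul (.l 1) (.l 9)) (.l 9)) (.mul (.l 14) (.l 2)) (.cons (.mul (.mul (.l 1) (.l 9)) (.l 9)) (.mul (.l 5) (.l 4)) (.cons (.mul (.mul (.l 1) (.l 9)) (.l 9)) (.mul (.l 8) (.l 4)) (.cons (.mul (.mul (.l 1) (.l 9)) (.l 9)) (.mul (.l 12) (.l 4)) (.cons (.mul (.mul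 (.l 1) (.l 9)) (.l 9)) (.mul (.l 4) (.l 5)) (.cons (.mul (.mul (.l 1) (.l 9)) (.l 9)) (.mul (.l 9) (.l 5)) (.cons (.mul (.mul (.l 1) (.l 9)) (.l 9)) (.mul (.l 15) (.l 5)) (.cons (.mul (.mul (.l 1) (.l 9)) (.l 9)) (.mul (.l 9) (.l 8)) (.cons (.mul (.mul (.l 1) (.l 9)) (.l 9)) (.mul (.l 4) (.l 11)) (.cons (.mul (.mul (.l 1) (.l 9)) (.l 9)) (.mul (.l 15) (.l 11)) (.cons (.mul (.mul (.l 1) (.l 9)) (.l 9)) (.mul (.l 5) (.l 15)) (.cons (.mul (.mul (.l 1) (.l 9)) (.l 9)) (.mul (.l 8) (.l 15)) (.cons (.mul (.mul (.l 1) (.l 9)) (.l 9)) (.mul (.l 12) (.l 15)) (.cons (.mul (.mul (.l 1) (.l 9)) (.l 9)) (.mul (.mul (.l 12) (.l 3)) (.l 2)) (.cons (.mul (.mul (.l 1) (.l 9)) (.l 9)) (.mul (.mul (.l 11) (.l 7)) (.l 2)) (.cons (.mul (.mul (.l 1) (.l 9)) (.l 9)) (.mul (.mul (.l 5) (.l 14)) (.l 2)) (.cons (.mul (.mul (.l 1)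 (.l 9)) (.l 9)) (.mul (.mul (.l 8) (.l 14)) (.l 2)) (.cons (.mul (.mul (.l 1) (.l 9)) (.l 9)) (.mul (.mul (.l 4) (.l 5)) (.l 4)) (.cons (.mul (.mul (.l 1) (.l 9)) (.l 9)) (.mul (.mul (.l 8) (.l 12)) (.l 4)) (.cons (.mul (.mul (.l 1) (.l 9)) (.l 9)) (.mul (.mul (.l 4) (.l 14)) (.l 4)) (.cons (.mul (.mul (.l 1) (.l 9)) (.l 9)) (.mul (.mul (.l 3) (.l 2)) (.l 5)) (.cons (.mul (.mul (.l 1) (.l 9)) (.l 9)) (.mul (.mul (.l 15) (.l 9)) (.l 5)) (.cons (.mul (.mul (.l 1) (.l 9)) (.l 9)) (.mul (.mul (.l 2) (.l 5)) (.l 11)) (.cons (.mul (.mul (.l 1) (.l 9)) (.l 9)) (.mul (.mul (.l 11) (.l 7)) (.l 11)) (.cons (.mul (.mul (.l 1) (.l 9)) (.l 9)) (.mul (.mul (.l 8) (.l 15)) (.l 11)) (.cons (.mul (.mul (.l 1) (.l 9)) (.l 9)) (.mul (.mul (.l 4) (.l 5)) (.l 15)) (.nil)))))))))))))))))))))))))))))))))))))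
/-- decision tree -/
def clT_10 : CT := .node (.l 8) (.cons (.l 1) (.l 0) (.cons (.l 1) (.l 5) (.nil)))
  (clT_9)
/-- decision tree -/
def clT_11 : CT := .node (.l 2) (.cons (.mul (.mul (.l 1) (.l 9)) (.l 9)) (.mul (.mul (.l 7) (.l 14)) (.l 2)) (.cons (.mul (.mul (.l 1) (.l 9)) (.l 9)) (.mul (.mul (.l 7) (.l 12)) (.l 4)) (.cons (.mul (.mul (.l 1) (.l 9)) (.l 9)) (.mul (.mul (.l 15) (.l 7)) (.l 11)) (.cons (.mul (.mul (.l 1) (.l 9)) (.l 9)) (.mul (.mul (.l 8) (.l 12)) (.l 15)) (.nil)))))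
  (clT_10)
/-- decision tree -/
def clT_12 : CT := .node (.l 9) (.node (.l 3) (.cons (.l 19) (.mul (.l 11) (.l 7)) (.cons (.l 19) (.mul (.l 12) (.l 7)) (.nil)))
  (.node (.mul (.l 4) (.l 7)) (.cons (.l 19) (.mul (.l 2) (.l 8)) (.cons (.l 19) (.mul (.l 3) (.l 8)) (.nil)))
  (.node (.l 4) (.cons (.l 19) (.l 7) (.nil))
  (.cons (.l 19) (.l 8) (.cons (.l 19) (.mul (.l 11) (.l 8)) (.cons (.l 19) (.mul (.mul (.l 5) (.l 12)) (.l 7)) (.nil)))))))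
  (clT_11)
/-- decision tree -/
def clT_13 : CT := .node (.mul (.l 3) (.l 11)) (.node (.l 5) (.cons (.l 2) (.mul (.l 3) (.l 5)) (.cons (.l 2) (.mul (.mul (.l 11) (.l 9)) (.l 5)) (.nil)))
  (.node (.l 8) (.cons (.mul (.mul (.mul (.mul (.mul (.l 12) (.l 1)) (.l 12)) (.l 4)) (.l 3)) (.l 1)) (.mul (.l 4) (.l 11)) (.nil))
  (.node (.mul (.l 1) (.l 8)) (.cons (.mul (.mul (.mul (.mul (.mul (.l 12) (.l 1)) (.l 12)) (.l 4)) (.l 3)) (.l 1)) (.mul (.l 4) (.l 3)) (.nil))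
  (.node (.mul (.l 3) (.l 7)) (.cons (.mul (.mul (.mul (.mul (.mul (.l 12) (.l 1)) (.l 12)) (.l 4)) (.l 3)) (.l 1)) (.mul (.l 15) (.l 3)) (.nil))
  (.cons (.l 2) (.mul (.l 5) (.l 1)) (.cons (.l 2) (.mul (.l 1) (.l 5)) (.cons (.l 2) (.mul (.l 11) (.l 5)) (.cons (.l 2) (.mul (.l 16) (.l 5)) (.cons (.l 2) (.mul (.mul (.l 5) (.l 2)) (.l 1)) (.cons (.l 2) (.mul (.mul (.l 5) (.l 4)) (.l 1)) (.cons (.mul (.mul (.mul (.mul (.mul (.l 12) (.l 1)) (.l 12)) (.l 4)) (.l 3)) (.l 1)) (.mul (.l 15) (.l 11)) (.nil))))))))))))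
  (.node (.l 16) (.node (.l 4) (.cons (.l 1) (.mul (.mul (.mul (.l 8) (.l 12)) (.l 1)) (.l 2)) (.cons (.l 1) (.mul (.mul (.mul (.l 8) (.l 2)) (.l 8)) (.l 2)) (.nil)))
  (.node (.l 11) (.cons (.l 2) (.l 14) (.cons (.l 2) (.mul (.l 14) (.l 9)) (.nil)))
  (.cons (.mul (.mul (.mul (.l 11) (.l 10)) (.l 11)) (.l 2)) (.mul (.l 8) (.l 1)) (.cons (.mul (.mul (.mul (.l 11) (.l 10)) (.l 11)) (.l 2)) (.mul (.l 11) (.l 4)) (.nil)))))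
  (.node (.l 14) (.cons (.l 14) (.mul (.l 4) (.l 5)) (.cons (.l 14) (.mul (.l 15) (.l 5)) (.cons (.l 14) (.mul (.l 17) (.l 5)) (.cons (.l 14) (.mul (.l 18) (.l 5)) (.nil)))))
  (.node (.mul (.l 3) (.l 9)) (.cons (.l 4) (.mul (.mul (.l 4) (.l 14)) (.l 1)) (.cons (.l 4) (.mul (.mul (.l 15) (.l 14)) (.l 1)) (.nil)))
  (.cons (.l 14) (.mul (.mul (.l 4) (.l 3)) (.l 5)) (.cons (.l 14) (.mul (.mul (.l 15) (.l 3)) (.l 5)) (.cons (.l 14) (.mul (.mul (.l 17) (.l 3)) (.l 5)) (.cons (.l 14) (.mul (.mul (.l 18) (.l 3)) (.l 5)) (.nil))))))))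
/-- decision tree -/
def clT_14 : CT := .node (.l 3) (.node (.mul (.l 9) (.l 11)) (.node (.mul (.l 4) (.l 9)) (.cons (.l 1) (.mul (.l 8) (.l 11)) (.cons (.l 1) (.mul (.mul (.l 8) (.l 11)) (.l 5)) (.nil)))
  (.cons (.l 2) (.l 0) (.cons (.l 2) (.l 9) (.nil))))
  (.node (.l 4) (.cons (.l 4) (.mul (.l 1) (.l 2)) (.cons (.l 4) (.mul (.mul (.l 9) (.l 1)) (.l 2)) (.nil)))
  (.node (.l 20) (.cons (.mul (.mul (.mul (.l 11) (.l 10)) (.l 11)) (.l 2)) (.l 4) (.cons (.mul (.mul (.mul (.l 11) (.l 10)) (.l 11)) (.l 2)) (.l 7) (.nil)))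
  (.cons (.l 4) (.mul (.mul (.l 1) (.l 12)) (.l 3)) (.cons (.l 4) (.mul (.mul (.l 5) (.l 14)) (.l 8)) (.cons (.l 4) (.mul (.mul (.l 14) (.l 1)) (.l 11)) (.cons (.l 4) (.mul (.mul (.mul (.l 1) (.l 11)) (.l 7)) (.l 1)) (.nil))))))))
  (clT_13)
/-- decision tree -/
def clT_15 : CT := .node (.mul (.l 3) (.l 12)) (.node (.l 14) (.node (.l 8) (.cons (.mul (.mul (.mul (.mul (.mul (.l 12) (.l 1)) (.l 12)) (.l 4)) (.l 3)) (.l 1)) (.l 5) (.nil))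
  (.node (.mul (.l 1) (.l 8)) (.cons (.mul (.mul (.mul (.mul (.mul (.l 12) (.l 1)) (.l 12)) (.l 4)) (.l 3)) (.l 1)) (.mul (.l 15) (.l 14)) (.nil))
  (.node (.mul (.l 3) (.l 7)) (.cons (.mul (.mul (.mul (.mul (.mul (.l 12) (.l 1)) (.l 12)) (.l 4)) (.l 3)) (.l 1)) (.l 4) (.nil))
  (.cons (.mul (.mul (.l 1) (.l 9)) (.l 9)) (.mul (.mul (.l 7) (.l 12)) (.l 2)) (.cons (.mul (.mul (.l 1) (.l 9)) (.l 9)) (.mul (.mul (.l 7) (.l 14)) (.l 4)) (.cons (.mul (.mul (.l 1) (.l 9)) (.l 9)) (.mul (.mul (.l 7) (.l 11)) (.l 5)) (.cons (.mul (.mul (.l 1) (.l 9)) (.l 9)) (.mul (.mul (.mul (.l 9) (.l 7)) (.l 12)) (.l 2)) (.cons (.mul (.mul (.mul (.mul (.mul (.l 12) (.l 1)) (.l 12)) (.l 4)) (.l 3)) (.l 1)) (.mul (.l 5) (.l 2)) (.nil)))))))))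
  (.cons (.l 2) (.l 5) (.cons (.l 2) (.mul (.l 9) (.l 5)) (.cons (.l 2) (.mul (.l 14) (.l 5)) (.cons (.l 2) (.mul (.l 5) (.l 9)) (.cons (.l 2) (.mul (.mul (.l 3) (.l 5)) (.l 1)) (.cons (.l 2) (.mul (.mul (.l 12) (.l 5)) (.l 1)) (.cons (.l 2) (.mul (.mul (.l 16) (.l 5)) (.l 1)) (.cons (.l 2) (.mul (.mul (.l 17) (.l 5)) (.l 4)) (.nil))))))))))
  (clT_14)
/-- decision tree -/
def clT_16 : CT := .node (.l 9) (.cons (.l 2) (.mul (.l 4) (.l 5)) (.cons (.l 2) (.mul (.l 15) (.l 5)) (.cons (.l 2) (.mul (.l 17) (.l 5)) (.cons (.l 2) (.mul (.l 18) (.l 5)) (.nil)))))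
  (.node (.l 15) (.node (.l 17) (.cons (.mul (.mul (.mul (.l 11) (.l 10)) (.l 11)) (.l 2)) (.l 1) (.cons (.mul (.mul (.mul (.l 11) (.l 10)) (.l 11)) (.l 2)) (.mul (.l 4) (.l 1)) (.nil)))
  (.cons (.mul (.l 2) (.l 9)) (.l 1) (.cons (.mul (.l 2) (.l 9)) (.mul (.l 2) (.l 1)) (.nil))))
  (.node (.l 17) (.cons (.l 2) (.mul (.l 3) (.l 1)) (.cons (.l 2) (.mul (.l 16) (.l 1)) (.nil)))
  (.node (.l 8) (.cons (.mul (.mul (.mul (.mul (.mul (.l 12) (.l 1)) (.l 12)) (.l 4)) (.l 3)) (.l 1)) (.mul (.l 5) (.l 1)) (.nil))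
  (.node (.mul (.l 1) (.l 8)) (.cons (.mul (.mul (.mul (.mul (.mul (.l 12) (.l 1)) (.l 12)) (.l 4)) (.l 3)) (.l 1)) (.mul (.mul (.l 5) (.l 2)) (.l 1)) (.nil))
  (.node (.mul (.l 3) (.l 5)) (.cons (.mul (.mul (.mul (.mul (.mul (.l 12) (.l 1)) (.l 12)) (.l 4)) (.l 3)) (.l 1)) (.mul (.l 11) (.l 1)) (.nil))
  (.cons (.l 14) (.l 1) (.cons (.l 14) (.mul (.l 2) (.l 1)) (.cons (.l 14) (.mul (.l 9) (.l 1)) (.cons (.l 14) (.mul (.mul (.l 9) (.l 2)) (.l 1)) (.cons (.mul (.l 2) (.l 9)) (.mul (.l 5) (.l 1)) (.cons (.mul (.l 2) (.l 9)) (.mul (.l 1) (.l 5)) (.cons (.mul (.l 2) (.l 9)) (.mul (.mul (.l 5) (.l 2)) (.l 1)) (.cons (.mul (.l 2) (.l 9)) (.mul (.mul (.l 1) (.l 5)) (.l 2)) (.cons (.mul (.mul (.mul (.mul (.mul (.l 12) (.l 1)) (.l 12)) (.l 4)) (.l 3)) (.l 1)) (.mul (.l 3) (.l 1)) (.nil)))))))))))))))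
/-- decision tree -/
def clT_17 : CT := .node (.l 4) (.node (.l 15) (.cons (.l 2) (.mul (.l 11) (.l 1)) (.cons (.l 2) (.mul (.mul (.l 3) (.l 2)) (.l 1)) (.nil)))
  (.node (.l 17) (.cons (.mul (.l 2) (.l 9)) (.mul (.l 9) (.l 1)) (.cons (.mul (.l 2) (.l 9)) (.mul (.mul (.l 9) (.l 2)) (.l 1)) (.nil)))
  (.cons (.mul (.mul (.mul (.l 11) (.l 10)) (.l 11)) (.l 2)) (.mul (.l 2) (.l 1)) (.cons (.mul (.mul (.mul (.l 11) (.l 10)) (.l 11)) (.l 2)) (.mul (.mul (.l 9) (.l 2)) (.l 1)) (.nil)))))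
  (clT_16)
/-- decision tree -/
def clT_18 : CT := .node (.l 14) (.node (.l 9) (.cons (.l 2) (.mul (.mul (.l 5) (.l 3)) (.l 1)) (.cons (.l 2) (.mul (.mul (.l 5) (.l 11)) (.l 1)) (.cons (.l 2) (.mul (.mul (.l 5) (.l 16)) (.l 1)) (.cons (.l 2) (.mul (.mul (.l 4) (.l 3)) (.l 5)) (.nil)))))
  (.node (.mul (.l 1) (.l 4)) (.cons (.mul (.mul (.l 1) (.l 9)) (.l 9)) (.mul (.mul (.l 8) (.l 11)) (.l 5)) (.cons (.mul (.mul (.l 1) (.l 9)) (.l 9)) (.mul (.mul (.l 11) (.l 8)) (.l 11)) (.nil)))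
  (.node (.mul (.l 1) (.l 12)) (.cons (.mul (.mul (.l 1) (.l 9)) (.l 9)) (.mul (.mul (.l 8) (.l 12)) (.l 2)) (.cons (.mul (.mul (.l 1) (.l 9)) (.l 9)) (.mul (.mul (.l 8) (.l 14)) (.l 4)) (.nil)))
  (.cons (.l 14) (.l 0) (.cons (.l 14) (.l 2) (.cons (.l 14) (.l 9) (.cons (.l 14) (.mul (.l 9) (.l 2)) (.nil))))))))
  (clT_17)
/-- decision tree -/
def clT_19 : CT := .node (.l 16) (.node (.l 20) (.cons (.l 1) (.mul (.mul (.l 12) (.l 7)) (.l 2)) (.cons (.l 1) (.mul (.mul (.l 14) (.l 7)) (.l 2)) (.cons (.l 1) (.mul (.mul (.l 12) (.l 5)) (.l 12)) (.cons (.l 1) (.mul (.mul (.l 14) (.l 5)) (.l 12)) (.nil)))))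
  (.node (.l 3) (.cons (.l 4) (.l 1) (.cons (.l 4) (.l 7) (.nil)))
  (.node (.l 7) (.cons (.l 4) (.l 2) (.cons (.l 4) (.l 3) (.nil)))
  (.cons (.l 4) (.l 0) (.cons (.l 4) (.l 9) (.cons (.l 4) (.l 20) (.cons (.l 4) (.mul (.l 7) (.l 1)) (.cons (.l 4) (.mul (.l 9) (.l 2)) (.cons (.l 4) (.mul (.l 20) (.l 2)) (.nil))))))))))
  (.node (.l 15) (.node (.l 20) (.cons (.l 2) (.mul (.l 2) (.l 1)) (.cons (.l 2) (.mul (.l 9) (.l 1)) (.nil)))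
  (.cons (.l 4) (.mul (.mul (.l 1) (.l 11)) (.l 1)) (.cons (.l 4) (.mul (.mul (.l 1) (.l 11)) (.l 7)) (.cons (.l 4) (.mul (.mul (.mul (.l 16) (.l 1)) (.l 11)) (.l 1)) (.cons (.l 4) (.mul (.mul (.mul (.l 1) (.l 15)) (.l 11)) (.l 1)) (.nil))))))
  (.node (.l 20) (.node (.l 17) (.cons (.mul (.l 2) (.l 9)) (.mul (.l 3) (.l 1)) (.cons (.mul (.l 2) (.l 9)) (.mul (.l 12) (.l 1)) (.nil)))
  (.cons (.mul (.mul (.mul (.l 11) (.l 10)) (.l 11)) (.l 2)) (.l 8) (.cons (.mul (.mul (.mul (.l 11) (.l 10)) (.l 11)) (.l 2)) (.mul (.l 3) (.l 1)) (.nil))))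
  (.node (.l 17) (.cons (.l 4) (.mul (.l 11) (.l 3)) (.cons (.l 4) (.mul (.l 12) (.l 3)) (.cons (.l 4) (.mul (.l 14) (.l 3)) (.cons (.l 4) (.mul (.mul (.l 11) (.l 7)) (.l 1)) (.nil)))))
  (.cons (.l 4) (.mul (.mul (.l 8) (.l 14)) (.l 8)) (.cons (.l 4) (.mul (.mul (.mul (.l 8) (.l 14)) (.l 5)) (.l 1)) (.cons (.l 4) (.mul (.mul (.mul (.l 12) (.l 1)) (.l 11)) (.l 1)) (.cons (.l 4) (.mul (.mul (.mul (.l 14) (.l 1)) (.l 11)) (.l 1)) (.nil))))))))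
/-- decision tree -/
def clT_20 : CT := .node (.l 15) (.node (.l 17) (.cons (.mul (.mul (.mul (.l 11) (.l 10)) (.l 11)) (.l 2)) (.mul (.l 7) (.l 1)) (.cons (.mul (.mul (.mul (.l 11) (.l 10)) (.l 11)) (.l 2)) (.mul (.l 12) (.l 1)) (.nil)))
  (.cons (.mul (.l 2) (.l 9)) (.mul (.l 16) (.l 1)) (.cons (.mul (.l 2) (.l 9)) (.mul (.l 1) (.l 17)) (.nil))))
  (.node (.l 17) (.cons (.l 2) (.l 1) (.cons (.l 2) (.mul (.l 4) (.l 1)) (.nil)))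
  (.node (.mul (.l 1) (.l 4)) (.cons (.mul (.mul (.l 1) (.l 9)) (.l 9)) (.mul (.l 8) (.l 11)) (.cons (.mul (.mul (.l 1) (.l 9)) (.l 9)) (.mul (.mul (.l 9) (.l 8)) (.l 11)) (.nil)))
  (.node (.mul (.l 1) (.l 11)) (.cons (.mul (.mul (.l 1) (.l 9)) (.l 9)) (.mul (.mul (.l 8) (.l 11)) (.l 8)) (.cons (.mul (.mul (.l 1) (.l 9)) (.l 9)) (.mul (.mul (.mul (.l 8) (.l 12)) (.l 1)) (.l 2)) (.nil)))
  (.node (.l 8) (.cons (.mul (.mul (.mul (.mul (.mul (.l 12) (.l 1)) (.l 12)) (.l 4)) (.l 3)) (.l 1)) (.l 1) (.nil))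
  (.node (.mul (.l 1) (.l 8)) (.cons (.mul (.mul (.mul (.mul (.mul (.l 12) (.l 1)) (.l 12)) (.l 4)) (.l 3)) (.l 1)) (.mul (.l 2) (.l 1)) (.nil))
  (.node (.mul (.l 3) (.l 5)) (.cons (.mul (.mul (.mul (.mul (.mul (.l 12) (.l 1)) (.l 12)) (.l 4)) (.l 3)) (.l 1)) (.mul (.l 1) (.l 14)) (.nil))
  (.cons (.l 14) (.l 3) (.cons (.l 14) (.l 12) (.cons (.l 14) (.mul (.l 3) (.l 1)) (.cons (.l 14) (.mul (.l 12) (.l 1)) (.cons (.l 14) (.mul (.l 16) (.l 1)) (.cons (.l 14) (.mul (.l 3) (.l 2)) (.cons (.l 14) (.mul (.l 12) (.l 2)) (.cons (.l 14) (.mul (.l 1) (.l 18)) (.cons (.mul (.mul (.mul (.mul (.mul (.l 12) (.l 1)) (.l 12)) (.l 4)) (.l 3)) (.l 1)) (.mul (.l 9) (.l 1)) (.nil))))))))))))))))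
/-- decision tree -/
def clT_21 : CT := .node (.l 14) (.cons (.mul (.l 2) (.l 9)) (.mul (.mul (.l 3) (.l 5)) (.l 1)) (.cons (.mul (.l 2) (.l 9)) (.mul (.mul (.l 12) (.l 5)) (.l 1)) (.cons (.mul (.l 2) (.l 9)) (.mul (.mul (.l 16) (.l 5)) (.l 1)) (.cons (.mul (.l 2) (.l 9)) (.mul (.mul (.l 3) (.l 1)) (.l 5)) (.nil)))))
  (clT_20)
/-- decision tree -/
def clT_22 : CT := .node (.l 14) (.cons (.l 14) (.mul (.mul (.l 4) (.l 3)) (.l 1)) (.cons (.l 14) (.mul (.mul (.l 15) (.l 3)) (.l 1)) (.cons (.l 14) (.mul (.mul (.l 17) (.l 3)) (.l 1)) (.cons (.l 14) (.mul (.mul (.l 18) (.l 3)) (.l 1)) (.cons (.l 14) (.mul (.mul (.l 3) (.l 5)) (.l 3)) (.cons (.l 14) (.mul (.mul (.l 11) (.l 5)) (.l 3)) (.cons (.l 14) (.mul (.mul (.l 12) (.l 5)) (.l 3)) (.cons (.l 14) (.mul (.mul (.l 16) (.l 5)) (.l 3)) (.nil)))))))))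
  (.node (.l 3) (.cons (.l 4) (.mul (.l 11) (.l 1)) (.cons (.l 4) (.mul (.l 11) (.l 7)) (.cons (.l 4) (.mul (.mul (.l 1) (.l 11)) (.l 3)) (.cons (.l 4) (.mul (.mul (.l 1) (.l 14)) (.l 3)) (.nil)))))
  (.node (.mul (.l 2) (.l 3)) (.cons (.l 4) (.mul (.mul (.l 8) (.l 10)) (.l 8)) (.cons (.l 4) (.mul (.mul (.mul (.l 14) (.l 1)) (.l 11)) (.l 2)) (.nil)))
  (.cons (.l 14) (.mul (.l 4) (.l 1)) (.cons (.l 14) (.mul (.l 15) (.l 1)) (.cons (.l 14) (.mul (.l 17) (.l 1)) (.cons (.l 14) (.mul (.l 18) (.l 1)) (.cons (.l 14) (.mul (.l 5) (.l 3)) (.cons (.l 14) (.mul (.l 5) (.l 12)) (.cons (.l 14) (.mul (.mul (.l 5) (.l 3)) (.l 2)) (.cons (.l 14) (.mul (.mul (.l 5) (.l 12)) (.l 2)) (.nil)))))))))))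
/-- decision tree -/
def clT : CT := .node (.mul (.l 2) (.l 9)) (.node (.l 2) (clT_0)
  (.node (.l 14) (.node (.mul (.l 3) (.l 12)) (.cons (.l 14) (.mul (.l 5) (.l 4)) (.cons (.l 14) (.mul (.l 5) (.l 15)) (.cons (.l 14) (.mul (.l 5) (.l 17)) (.cons (.l 14) (.mul (.l 5) (.l 18)) (.nil)))))
  (.node (.l 3) (.cons (.mul (.mul (.mul (.l 11) (.l 10)) (.l 11)) (.l 2)) (.l 5) (.cons (.mul (.mul (.mul (.l 11) (.l 10)) (.l 11)) (.l 2)) (.mul (.l 2) (.l 5)) (.nil)))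
  (.node (.l 11) (.cons (.mul (.mul (.mul (.l 11) (.l 10)) (.l 11)) (.l 2)) (.l 0) (.cons (.mul (.mul (.mul (.l 11) (.l 10)) (.l 11)) (.l 2)) (.l 2) (.nil)))
  (.cons (.l 2) (.mul (.l 5) (.l 4)) (.cons (.l 2) (.mul (.l 5) (.l 15)) (.cons (.l 2) (.mul (.mul (.l 5) (.l 14)) (.l 4)) (.cons (.l 2) (.mul (.mul (.l 8) (.l 10)) (.l 7)) (.cons (.mul (.l 2) (.l 9)) (.l 5) (.cons (.mul (.l 2) (.l 9)) (.mul (.l 5) (.l 2)) (.cons (.mul (.l 2) (.l 9)) (.mul (.l 2) (.l 5)) (.cons (.mul (.l 2) (.l 9)) (.mul (.l 5) (.l 14)) (.nil))))))))))))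
  (.node (.mul (.l 3) (.l 11)) (.node (.l 5) (.cons (.mul (.l 2) (.l 9)) (.mul (.mul (.l 15) (.l 5)) (.l 1)) (.cons (.mul (.l 2) (.l 9)) (.mul (.mul (.l 4) (.l 1)) (.l 5)) (.nil)))
  (.node (.mul (.l 2) (.l 5)) (.cons (.mul (.l 2) (.l 9)) (.mul (.mul (.l 4) (.l 5)) (.l 1)) (.cons (.mul (.l 2) (.l 9)) (.mul (.mul (.l 11) (.l 5)) (.l 4)) (.nil)))
  (.cons (.l 1) (.mul (.mul (.l 7) (.l 12)) (.l 2)) (.cons (.l 1) (.mul (.mul (.l 7) (.l 14)) (.l 4)) (.cons (.l 1) (.mul (.mul (.l 7) (.l 1)) (.l 11)) (.cons (.l 1) (.mul (.mul (.mul (.l 2) (.l 7)) (.l 12)) (.l 2)) (.cons (.l 14) (.mul (.mul (.l 3) (.l 5)) (.l 4)) (.cons (.l 14) (.mul (.mul (.l 4) (.l 5)) (.l 4)) (.cons (.l 14) (.mul (.mul (.l 11) (.l 5)) (.l 4)) (.cons (.l 14) (.mul (.mul (.l 17) (.l 5)) (.l 4)) (.cons (.l 14) (.mul (.mul (.l 5) (.l 15)) (.l 5))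 (.cons (.l 14) (.mul (.mul (.l 5) (.l 18)) (.l 5)) (.cons (.l 14) (.mul (.mul (.l 3) (.l 5)) (.l 15)) (.cons (.l 14) (.mul (.mul (.l 11) (.l 5)) (.l 15)) (.nil)))))))))))))))
  (clT_8))))
  (.node (.l 1) (.node (.l 7) (.node (.l 4) (.cons (.l 1) (.mul (.mul (.l 11) (.l 7)) (.l 2)) (.cons (.l 1) (.mul (.mul (.l 14) (.l 5)) (.l 3)) (.cons (.l 19) (.mul (.l 2) (.l 7)) (.nil))))
  (.node (.l 5) (.cons (.l 1) (.mul (.mul (.l 3) (.l 1)) (.l 3)) (.cons (.l 1) (.mul (.mul (.mul (.l 9) (.l 2)) (.l 1)) (.l 2)) (.cons (.l 19) (.mul (.l 12) (.l 8)) (.nil))))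
  (.node (.mul (.l 2) (.l 3)) (.cons (.l 1) (.mul (.mul (.l 2) (.l 5)) (.l 11)) (.cons (.l 1) (.mul (.mul (.mul (.l 5) (.l 2)) (.l 1)) (.l 3)) (.nil)))
  (.node (.l 9) (.cons (.l 19) (.mul (.l 14) (.l 8)) (.nil))
  (.cons (.l 1) (.mul (.mul (.l 2) (.l 1)) (.l 2)) (.cons (.l 1) (.mul (.mul (.l 3) (.l 1)) (.l 2)) (.cons (.l 1) (.mul (.mul (.l 11) (.l 8)) (.l 2)) (.cons (.l 1) (.mul (.mul (.l 2) (.l 1)) (.l 3)) (.cons (.l 1) (.mul (.mul (.l 14) (.l 1)) (.l 11)) (.cons (.l 1) (.mul (.mul (.mul (.l 4) (.l 2)) (.l 1)) (.l 2)) (.nil)))))))))))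
  (.node (.mul (.l 7) (.l 9)) (.node (.l 4) (.cons (.l 1) (.mul (.l 5) (.l 15)) (.cons (.l 1) (.mul (.l 8) (.l 15)) (.nil)))
  (.node (.mul (.l 2) (.l 3)) (.cons (.l 1) (.mul (.l 5) (.l 4)) (.cons (.l 1) (.mul (.l 8) (.l 4)) (.nil)))
  (.cons (.mul (.mul (.l 1) (.l 9)) (.l 9)) (.l 0) (.cons (.mul (.mul (.l 1) (.l 9)) (.l 9)) (.l 4) (.cons (.mul (.mul (.l 1) (.l 9)) (.l 9)) (.l 7) (.cons (.mul (.mul (.l 1) (.l 9)) (.l 9)) (.l 15) (.cons (.mul (.mul (.l 1) (.l 9)) (.l 9)) (.mul (.l 3) (.l 2)) (.cons (.mul (.mul (.l 1) (.l 9)) (.l 9)) (.mul (.l 15) (.l 4)) (.cons (.mul (.mul (.l 1) (.l 9)) (.l 9)) (.mul (.l 15) (.l 7)) (.cons (.mul (.mul (.l 1) (.l 9)) (.l 9)) (.mul (.mul (.l 15) (.l 3)) (.l 2)) (.nil)))))))))))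
  (.node (.l 5) (.node (.l 14) (.cons (.l 1) (.mul (.mul (.l 3) (.l 7)) (.l 11)) (.cons (.l 1) (.mul (.mul (.l 11) (.l 7)) (.l 11)) (.nil)))
  (.node (.l 9) (.cons (.l 19) (.mul (.l 4) (.l 8)) (.nil))
  (.cons (.l 1) (.l 9) (.cons (.l 1) (.mul (.l 15) (.l 4)) (.cons (.l 1) (.mul (.l 15) (.l 11)) (.cons (.l 1) (.mul (.l 12) (.l 15)) (.cons (.l 1) (.mul (.mul (.l 12) (.l 3)) (.l 2)) (.cons (.l 1) (.mul (.mul (.l 4) (.l 14)) (.l 4)) (.nil)))))))))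
  (clT_12))))
  (.node (.l 2) (clT_15)
  (.node (.mul (.l 3) (.l 11)) (clT_18)
  (.node (.l 4) (clT_19)
  (.node (.mul (.l 3) (.l 12)) (clT_21)
  (.node (.l 9) (clT_22)
  (.node (.mul (.l 1) (.l 9)) (.node (.mul (.l 8) (.l 12)) (.cons (.l 1) (.mul (.l 7) (.l 14)) (.cons (.l 1) (.mul (.mul (.l 16) (.l 5)) (.l 2)) (.nil)))
  (.cons (.l 1) (.l 12) (.cons (.l 1) (.mul (.l 8) (.l 2)) (.cons (.l 1) (.mul (.l 11) (.l 2)) (.cons (.l 1) (.mul (.l 12) (.l 5)) (.cons (.l 1) (.mul (.l 12) (.l 9)) (.cons (.l 1) (.mul (.l 4) (.l 14)) (.cons (.mul (.mul (.l 1) (.l 9)) (.l 9)) (.l 12) (.cons (.mul (.mul (.l 1) (.l 9)) (.l 9)) (.mul (.l 11) (.l 2)) (.cons (.mul (.mul (.l 1) (.l 9)) (.l 9)) (.mul (.l 12) (.l 5)) (.cons (.mul (.mul (.l 1) (.l 9)) (.l 9)) (.mul (.l 12) (.l 7)) (.cons (.mul (.mul (.l 1) (.l 9)) (.l 9)) (.mul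 (.l 12) (.l 8)) (.cons (.mul (.mul (.l 1) (.l 9)) (.l 9)) (.mul (.l 4) (.l 14)) (.cons (.mul (.mul (.l 1) (.l 9)) (.l 9)) (.mul (.l 15) (.l 14)) (.cons (.mul (.mul (.l 1) (.l 9)) (.l 9)) (.mul (.mul (.l 11) (.l 9)) (.l 2)) (.nil))))))))))))))))
  (.node (.l 3) (.node (.l 17) (.cons (.l 4) (.mul (.mul (.l 1) (.l 14)) (.l 1)) (.cons (.l 4) (.mul (.mul (.l 1) (.l 14)) (.l 7)) (.cons (.l 4) (.mul (.mul (.mul (.l 2) (.l 1)) (.l 11)) (.l 1)) (.cons (.l 4) (.mul (.mul (.mul (.l 1) (.l 15)) (.l 14)) (.l 1)) (.nil)))))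
  (.node (.mul (.l 8) (.l 9)) (.cons (.l 1) (.mul (.mul (.l 5) (.l 1)) (.l 3)) (.cons (.l 1) (.mul (.mul (.l 7) (.l 1)) (.l 3)) (.nil)))
  (.cons (.l 1) (.mul (.l 8) (.l 14)) (.cons (.l 1) (.mul (.mul (.l 5) (.l 11)) (.l 2)) (.cons (.l 1) (.mul (.mul (.l 5) (.l 15)) (.l 2)) (.cons (.l 1) (.mul (.mul (.l 8) (.l 12)) (.l 3)) (.cons (.l 1) (.mul (.mul (.l 8) (.l 14)) (.l 5)) (.cons (.l 1) (.mul (.mul (.l 5) (.l 14)) (.l 12)) (.nil)))))))))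
  (.node (.mul (.l 3) (.l 9)) (.node (.l 15) (.cons (.l 4) (.l 11) (.cons (.l 4) (.l 12) (.cons (.l 4) (.mul (.l 11) (.l 2)) (.cons (.l 4) (.mul (.l 12) (.l 2)) (.nil)))))
  (.node (.mul (.l 3) (.l 8)) (.cons (.l 1) (.mul (.l 5) (.l 3)) (.cons (.l 1) (.mul (.l 7) (.l 3)) (.nil)))
  (.cons (.l 1) (.mul (.l 7) (.l 2)) (.cons (.l 1) (.mul (.l 5) (.l 12)) (.cons (.l 1) (.mul (.mul (.l 3) (.l 7)) (.l 2)) (.cons (.l 1) (.mul (.mul (.l 4) (.l 7)) (.l 2)) (.cons (.l 1) (.mul (.mul (.l 4) (.l 5)) (.l 3)) (.cons (.l 1) (.mul (.mul (.l 2) (.l 5)) (.l 12)) (.nil)))))))))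
  (.node (.l 8) (.node (.mul (.l 2) (.l 4)) (.cons (.mul (.mul (.l 1) (.l 9)) (.l 9)) (.mul (.l 5) (.l 3)) (.cons (.mul (.mul (.l 1) (.l 9)) (.l 9)) (.mul (.mul (.l 5) (.l 4)) (.l 2)) (.nil)))
  (.node (.l 14) (.cons (.mul (.mul (.mul (.mul (.mul (.l 12) (.l 1)) (.l 12)) (.l 4)) (.l 3)) (.l 1)) (.mul (.l 5) (.l 11)) (.nil))
  (.cons (.mul (.mul (.l 1) (.l 9)) (.l 9)) (.l 3) (.cons (.mul (.mul (.l 1) (.l 9)) (.l 9)) (.mul (.l 4) (.l 2)) (.cons (.mul (.mul (.l 1) (.l 9)) (.l 9)) (.mul (.l 1) (.l 3)) (.cons (.mul (.mul (.l 1) (.l 9)) (.l 9)) (.mul (.l 3) (.l 8)) (.cons (.mul (.mul (.l 1) (.l 9)) (.l 9)) (.mul (.mul (.l 5) (.l 1)) (.l 3)) (.cons (.mul (.mul (.l 1) (.l 9)) (.l 9)) (.mul (.mul (.l 14) (.l 5)) (.l 4)) (.cons (.mul (.mul (.mul (.mul (.mul (.l 12) (.l 1)) (.l 12)) (.l 4)) (.l 3)) (.l 1)) (.mul (.l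 1) (.l 11)) (.nil))))))))))
  (.node (.mul (.l 1) (.l 8)) (.node (.mul (.l 2) (.l 4)) (.cons (.mul (.mul (.l 1) (.l 9)) (.l 9)) (.mul (.mul (.l 2) (.l 7)) (.l 2)) (.cons (.mul (.mul (.l 1) (.l 9)) (.l 9)) (.mul (.mul (.l 14) (.l 8)) (.l 4)) (.nil)))
  (.node (.l 14) (.cons (.mul (.mul (.mul (.mul (.mul (.l 12) (.l 1)) (.l 12)) (.l 4)) (.l 3)) (.l 1)) (.mul (.mul (.l 16) (.l 4)) (.l 1)) (.nil))
  (.node (.mul (.l 7) (.l 11)) (.cons (.mul (.mul (.mul (.mul (.mul (.l 12) (.l 1)) (.l 12)) (.l 4)) (.l 3)) (.l 1)) (.mul (.l 15) (.l 1)) (.nil))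
  (.cons (.mul (.mul (.l 1) (.l 9)) (.l 9)) (.mul (.l 15) (.l 2)) (.cons (.mul (.mul (.l 1) (.l 9)) (.l 9)) (.mul (.l 3) (.l 5)) (.cons (.mul (.mul (.l 1) (.l 9)) (.l 9)) (.mul (.l 14) (.l 12)) (.cons (.mul (.mul (.l 1) (.l 9)) (.l 9)) (.mul (.mul (.l 5) (.l 15)) (.l 2)) (.cons (.mul (.mul (.l 1) (.l 9)) (.l 9)) (.mul (.mul (.l 4) (.l 2)) (.l 5)) (.cons (.mul (.mul (.l 1) (.l 9)) (.l 9)) (.mul (.mul (.l 5) (.l 14)) (.l 12)) (.nil))))))))))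
  (.node (.mul (.l 2) (.l 3)) (.node (.l 15) (.node (.l 7) (.cons (.l 4) (.mul (.mul (.l 5) (.l 9)) (.l 5)) (.cons (.l 4) (.mul (.mul (.mul (.l 5) (.l 10)) (.l 8)) (.l 1)) (.nil)))
  (.cons (.l 4) (.mul (.mul (.l 5) (.l 10)) (.l 5)) (.cons (.l 4) (.mul (.mul (.l 8) (.l 10)) (.l 5)) (.nil))))
  (.cons (.l 1) (.mul (.l 5) (.l 11)) (.cons (.l 1) (.mul (.mul (.l 2) (.l 5)) (.l 4)) (.cons (.l 1) (.mul (.mul (.l 2) (.l 8)) (.l 4)) (.cons (.l 1) (.mul (.mul (.l 5) (.l 11)) (.l 5)) (.nil))))))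
  (.node (.l 14) (.cons (.l 14) (.mul (.l 5) (.l 1)) (.cons (.l 14) (.mul (.l 1) (.l 5)) (.cons (.l 14) (.mul (.mul (.l 2) (.l 5)) (.l 1)) (.cons (.l 14) (.mul (.mul (.l 9) (.l 5)) (.l 1)) (.cons (.mul (.mul (.mul (.mul (.mul (.l 12) (.l 1)) (.l 12)) (.l 4)) (.l 3)) (.l 1)) (.mul (.l 8) (.l 2)) (.cons (.mul (.mul (.mul (.mul (.mul (.l 12) (.l 1)) (.l 12)) (.l 4)) (.l 3)) (.l 1)) (.mul (.mul (.l 11) (.l 4)) (.l 1)) (.nil)))))))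
  (.node (.mul (.l 1) (.l 4)) (.cons (.mul (.mul (.l 1) (.l 9)) (.l 9)) (.mul (.l 5) (.l 11)) (.cons (.mul (.mul (.l 1) (.l 9)) (.l 9)) (.mul (.mul (.l 2) (.l 5)) (.l 4)) (.cons (.mul (.mul (.l 1) (.l 9)) (.l 9)) (.mul (.mul (.l 5) (.l 11)) (.l 5)) (.cons (.mul (.mul (.l 1) (.l 9)) (.l 9)) (.mul (.mul (.l 9) (.l 5)) (.l 11)) (.nil)))))
  (.node (.mul (.l 2) (.l 4)) (.cons (.mul (.mul (.l 1) (.l 9)) (.l 9)) (.mul (.l 7) (.l 2)) (.cons (.mul (.mul (.l 1) (.l 9)) (.l 9)) (.mul (.mul (.l 3) (.l 7)) (.l 2)) (.cons (.mul (.mul (.l 1) (.l 9)) (.l 9)) (.mul (.mul (.l 9) (.l 7)) (.l 2)) (.cons (.mul (.mul (.l 1) (.l 9)) (.l 9)) (.mul (.mul (.l 12) (.l 8)) (.l 4)) (.nil)))))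
  (.node (.mul (.l 8) (.l 11)) (.cons (.l 1) (.mul (.l 1) (.l 2)) (.cons (.l 1) (.mul (.mul (.l 15) (.l 1)) (.l 3)) (.nil)))
  (.cons (.l 1) (.l 2) (.cons (.l 1) (.l 3) (.cons (.l 1) (.l 11) (.cons (.l 1) (.l 14) (.cons (.l 1) (.mul (.l 4) (.l 2)) (.cons (.l 1) (.mul (.l 5) (.l 2)) (.cons (.l 1) (.mul (.l 9) (.l 2)) (.cons (.l 1) (.mul (.l 12) (.l 2)) (.cons (.l 1) (.mul (.l 15) (.l 2)) (.cons (.l 1) (.mul (.l 1) (.l 3)) (.cons (.l 1) (.mul (.l 4) (.l 3)) (.cons (.l 1) (.mul (.l 12) (.l 3)) (.cons (.l 1) (.mul (.l 11) (.l 4)) (.cons (.l 1) (.mul (.l 14) (.l 4)) (.cons (.l 1) (.mul (.l 11) (.l 5)) (.cons (.l 1) (.mul (.l 14) (.l 5)) (.cons (.l 1) (.mul (.l 1) (.l 11)) (.cons (.l 1) (.mul (.l 7) (.l 11)) (.cons (.l 1) (.mul (.l 11) (.l 11)) (.cons (.l 1) (.mul (.l 7) (.l 12)) (.cons (.l 1) (.mul (.l 14) (.l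 12)) (.cons (.l 1) (.mul (.mul (.l 4) (.l 1)) (.l 2)) (.cons (.l 1) (.mul (.mul (.l 9) (.l 1)) (.l 2)) (.cons (.l 1) (.mul (.mul (.l 12) (.l 1)) (.l 2)) (.cons (.l 1) (.mul (.mul (.l 15) (.l 1)) (.l 2)) (.cons (.l 1) (.mul (.mul (.l 9) (.l 5)) (.l 2)) (.cons (.l 1) (.mul (.mul (.l 2) (.l 8)) (.l 2)) (.cons (.l 1) (.mul (.mul (.l 8) (.l 11)) (.l 2)) (.cons (.l 1) (.mul (.mul (.l 4) (.l 14)) (.l 2)) (.cons (.l 1) (.mul (.mul (.l 8) (.l 15)) (.l 2)) (.cons (.l 1) (.mul (.mul (.l 5) (.l 4)) (.l 3)) (.cons (.l 1) (.mul (.mul (.l 7) (.l 11)) (.l 5)) (.cons (.l 1) (.mul (.mul (.l 9) (.l 7)) (.l 11)) (.cons (.l 1) (.mul (.mul (.mul (.l 7) (.l 2)) (.l 8)) (.l 2)) (.cons (.l 14) (.mul (.mul (.l 5) (.l 3)) (.l 1)) (.cons (.l 14) (.mul (.mul (.l 3) (.l 5)) (.l 1)) (.cons (.l 14) (.mul (.mul (.l 11) (.l 5)) (.l 1))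 (.cons (.l 14) (.mul (.mul (.l 16) (.l 5)) (.l 1)) (.cons (.l 14) (.mul (.mul (.l 5) (.l 12)) (.l 1)) (.cons (.l 14) (.mul (.mul (.l 5) (.l 16)) (.l 1)) (.cons (.l 14) (.mul (.mul (.l 4) (.l 5)) (.l 3)) (.cons (.l 14) (.mul (.mul (.l 15) (.l 5)) (.l 3)) (.cons (.l 14) (.mul (.mul (.l 11) (.l 1)) (.l 5)) (.cons (.l 14) (.mul (.mul (.l 4) (.l 5)) (.l 12)) (.cons (.l 14) (.mul (.mul (.l 15) (.l 5)) (.l 12)) (.cons (.l 14) (.mul (.mul (.l 1) (.l 5)) (.l 17)) (.cons (.mul (.mul (.l 1) (.l 9)) (.l 9)) (.l 2) (.cons (.mul (.mul (.l 1) (.l 9)) (.l 9)) (.l 11) (.cons (.mul (.mul (.l 1) (.l 9)) (.l 9)) (.l 14) (.cons (.mul (.mul (.l 1) (.l 9)) (.l 9)) (.mul (.l 1) (.l 2)) (.cons (.mul (.mul (.l 1) (.l 9)) (.l 9)) (.mul (.l 9) (.l 2)) (.cons (.mul (.mul (.l 1) (.l 9)) (.l 9)) (.mul (.l 12) (.l 2)) (.cons (.mul (.mul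 (.l 1) (.l 9)) (.l 9)) (.mul (.l 4) (.l 3)) (.cons (.mul (.mul (.l 1) (.l 9)) (.l 9)) (.mul (.l 12) (.l 3)) (.cons (.mul (.mul (.l 1) (.l 9)) (.l 9)) (.mul (.l 11) (.l 4)) (.cons (.mul (.mul (.l 1) (.l 9)) (.l 9)) (.mul (.l 14) (.l 4)) (.cons (.mul (.mul (.l 1) (.l 9)) (.l 9)) (.mul (.l 2) (.l 5)) (.cons (.mul (.mul (.l 1) (.l 9)) (.l 9)) (.mul (.l 11) (.l 5)) (.cons (.mul (.mul (.l 1) (.l 9)) (.l 9)) (.mul (.l 14) (.l 5)) (.cons (.mul (.mul (.l 1) (.l 9)) (.l 9)) (.mul (.l 2) (.l 8)) (.cons (.mul (.mul (.l 1) (.l 9)) (.l 9)) (.mul (.l 11) (.l 8)) (.cons (.mul (.mul (.l 1) (.l 9)) (.l 9)) (.mul (.l 14) (.l 8)) (.cons (.mul (.mul (.l 1) (.l 9)) (.l 9)) (.mul (.l 7) (.l 11)) (.cons (.mul (.mul (.l 1) (.l 9)) (.l 9)) (.mul (.l 11) (.l 11)) (.cons (.mul (.mul (.l 1) (.l 9)) (.l 9)) (.mul (.l 4) (.l 12)) (.cons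 (.mul (.mul (.l 1) (.l 9)) (.l 9)) (.mul (.l 15) (.l 12)) (.cons (.mul (.mul (.l 1) (.l 9)) (.l 9)) (.mul (.l 11) (.l 15)) (.cons (.mul (.mul (.l 1) (.l 9)) (.l 9)) (.mul (.l 14) (.l 15)) (.cons (.mul (.mul (.l 1) (.l 9)) (.l 9)) (.mul (.mul (.l 7) (.l 1)) (.l 2)) (.cons (.mul (.mul (.l 1) (.l 9)) (.l 9)) (.mul (.mul (.l 12) (.l 1)) (.l 2)) (.cons (.mul (.mul (.l 1) (.l 9)) (.l 9)) (.mul (.mul (.l 12) (.l 7)) (.l 2)) (.cons (.mul (.mul (.l 1) (.l 9)) (.l 9)) (.mul (.mul (.l 14) (.l 7)) (.l 2)) (.cons (.mul (.mul (.l 1) (.l 9)) (.l 9)) (.mul (.mul (.l 5) (.l 11)) (.l 2)) (.cons (.mul (.mul (.l 1) (.l 9)) (.l 9)) (.mul (.mul (.l 5) (.l 12)) (.l 2)) (.cons (.mul (.mul (.l 1) (.l 9)) (.l 9)) (.mul (.mul (.l 4) (.l 14)) (.l 2)) (.cons (.mul (.mul (.l 1) (.l 9)) (.l 9)) (.mul (.mul (.l 12) (.l 5)) (.l 4)) (.cons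 (.mul (.mul (.l 1) (.l 9)) (.l 9)) (.mul (.mul (.l 2) (.l 8)) (.l 4)) (.cons (.mul (.mul (.l 1) (.l 9)) (.l 9)) (.mul (.mul (.l 9) (.l 2)) (.l 5)) (.cons (.mul (.mul (.l 1) (.l 9)) (.l 9)) (.mul (.mul (.l 7) (.l 11)) (.l 8)) (.cons (.mul (.mul (.l 1) (.l 9)) (.l 9)) (.mul (.mul (.l 5) (.l 12)) (.l 8)) (.cons (.mul (.mul (.l 1) (.l 9)) (.l 9)) (.mul (.mul (.l 9) (.l 7)) (.l 11)) (.cons (.mul (.mul (.l 1) (.l 9)) (.l 9)) (.mul (.mul (.l 14) (.l 7)) (.l 11)) (.cons (.mul (.mul (.mul (.mul (.mul (.l 12) (.l 1)) (.l 12)) (.l 4)) (.l 3)) (.l 1)) (.mul (.l 4) (.l 1)) (.cons (.mul (.mul (.mul (.mul (.mul (.l 12) (.l 1)) (.l 12)) (.l 4)) (.l 3)) (.l 1)) (.mul (.l 8) (.l 4)) (.nil)))))))))))))))))))))))))))))))))))))))))))))))))))))))))))))))))))))))))))))))))))))))))))))))))))))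
/-- class representatives -/
def reps : List W := [.l 2, .l 4, .l 1, .l 19, .l 14, .mul (.l 2) (.l 9), .mul (.mul (.l 1) (.l 9)) (.l 9), .mul (.mul (.mul (.l 11) (.l 10)) (.l 11)) (.l 2), .mul (.mul (.mul (.mul (.mul (.l 12) (.l 1)) (.l 12)) (.l 4)) (.l 3)) (.l 1)]

variable {G : Type*} [Group G] {z : G} {γ : ℕ → G}

theorem f_cl_ev : hp.eval (.all 1 100 [] (.imp (.one (.mul (.l 100) (.l 100))) (.or (.one (.l 100)) (clT.fm 100)))) = true := by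
  decide +kernel

theorem f_cl (h : Bar z (newLet γ mH) hp.gam) {H : Subgroup G} (m : ∀ c, newLet γ mH c ∈ H) (hT : genW γ (hp.ws 1) ≤ H) :
    ∀ a ∈ genW γ (hp.ws 1), M1 z (a * a) → M1 z a ∨ ∃ x ∈ reps, ∃ g ∈ H, Md z (a * g) (g * x.ev γ) := fun a ha e =>
  (hp_ok.trM h hp_fix f_cl_ev a ha e).imp_right fun e => by
    obtain ⟨x, b, g, c, d⟩ := CT.exM (upd_forall (P := fun _ g => g ∈ H) m (hT ha)) (l := reps) (by decide +kernel) e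
    have f := List.all_eq_true.1 (by decide +kernel : reps.all (fun x => avoid 100 x && fixW mH x) = true) x b
    rw [Bool.and_eq_true] at f
    rw [upd_self, ev_upd f.1, ev_fix f.2] at d
    exact ⟨x, b, g, c, d⟩

theorem f_E_ev : hp.eval (.all 0 100 [(.l 4, .l 4), (.l 15, .l 15), (.l 16, .l 16), (.l 17, .l 17), (.l 18, .l 18)] (.mem 2 (.l 100))) = true := by
  decide +kernel

theorem f_E (h : Bar z (newLet γ mH) hp.gam) :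
    ∀ a ∈ genW γ (hp.ws 0), Md z (a * γ 4) (γ 4 * a) → Md z (a * γ 15) (γ 15 * a) → Md z (a * γ 16) (γ 16 * a) → Md z (a * γ 17) (γ 17 * a) → Md z (a * γ 18) (γ 18 * a) → ∃ x ∈ genW γ (hp.ws 2), Md z a x :=
  hp_ok.trM h hp_fix f_E_ev


end Cfsg.Lib.Big.RU
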